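import Cfsg.Agent.Lib.Ree.Tori
import Cfsg.Agent.Lib.Solv.Fact

set_option autoImplicit false
set_option linter.unusedSectionVars false
set_option linter.style.haveILetI false

/-! The cyclic Hall subgroups of a small Ree group. -/

namespace Cfsg.Agent.Ree

open Perm.GL2 MulAction Subgroup Transfer Suz

/-- a cyclic subgroup controlling the elements of order dividing its order -/
structure Cy {G : Type*} [Group G] (A : Subgroup G) : Prop where
  cyc : IsCyclic A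
  conj : ∀ x, orderOf x ∣ Nat.card A → ∃ g, g * x * g⁻¹ ∈ A
  norm : ∀ A₀ ≤ A, A₀ ≠ ⊥ → normalizer (A₀ : Set G) = normalizer (A : Set G)

section Gen
variable {G : Type*} [Group G] [Finite G] {A : Subgroup G}

theorem cyclic_cj (h : IsCyclic A) (g : G) : IsCyclic (cj g A) := isCyclic_of_surjective _ (cjEquiv g A).surjective

theorem exists_order_of_cyclic (h : IsCyclic A) {d : ℕ} (hd : d ∣ Nat.card A) : ∃ g ∈ A, orderOf g = d := by
  obtain ⟨⟨g, h⟩⟩ : Nonempty {a // a ∈ A ∧ orderOf a = d} := (Nat.card_pos_iff.1 (by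
    rw [card_order_cyclic h hd]; exact Nat.totient_pos.2 (Nat.pos_of_dvd_of_pos hd Nat.card_pos))).1
  exact ⟨g, h⟩

theorem Cy.cj_le (h : Cy A) {B : Subgroup G} (hB : IsCyclic B) (e : Nat.card B ∣ Nat.card A) : ∃ g, cj g B ≤ A := by
  obtain ⟨b, h1, h2⟩ := Solv.isCyclic_iff_exists_le_zpowers.1 hB
  obtain ⟨g, hg⟩ := h.conj b ((orderOf_dvd_natCard _ h1).trans e)
  exact ⟨g, (cj_mono g h2).trans (by rw [cj_zpowers]; exact zpowers_le.2 hg)⟩

theorem Cy.exists_cj (h : Cy A) {B C : Subgroup G} (hB : IsCyclic B) (hC : IsCyclic C) (e : Nat.card B ∣ Nat.card A)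
    (e' : Nat.card C = Nat.card B) : ∃ g, C = cj g B := by
  obtain ⟨g, h1⟩ := h.cj_le hB e
  obtain ⟨g', h2⟩ := h.cj_le hC (e' ▸ e)
  exact ⟨g'⁻¹ * g, by rw [← cj_cj, eq_of_cyclic h.cyc h1 h2 (by rw [card_cj, card_cj, e']), cj_inv_cj]⟩

theorem Cy.count (h : Cy A) {i : ℕ} (h1 : 1 < i) (hi : i ∣ Nat.card A) :
    Nat.card {g : G // orderOf g = i} * Nat.card (normalizer (A : Set G)) = Nat.card G * i.totient := by
  rw [← card_order_cyclic h.cyc hi]
  refine count_of_ti (· = i) (fun g e => h.conj g (e ▸ hi)) fun a ha e x => ⟨fun hx => ?_, fun hx => conj_mem_of_mem_normalizer hx ha⟩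
  rw [← h.norm _ (zpowers_le.2 ha) (by rw [Ne, zpowers_eq_bot]; rintro rfl; simp [← e] at h1), mem_normalizer_iff_cj]
  exact eq_of_cyclic h.cyc (by rw [cj_zpowers]; exact zpowers_le.2 hx) (zpowers_le.2 ha) (card_cj ..)

theorem exists_cj_le_of_index {p : ℕ} [Fact p.Prime] (h : ¬ p ∣ A.index) {P : Subgroup G} (hP : IsPGroup p P) :
    ∃ g, cj g P ≤ A := by
  obtain ⟨Q, hQ⟩ := exists_isSyl p A
  obtain ⟨g, -, hg⟩ := (hQ.trans le_top (by rwa [relIndex_top_right])).exists_cj_le hP le_top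
  exact ⟨g, hg.trans hQ.le⟩

theorem CC.norm (h : CC A) (hA : IsCyclic A) {A₀ : Subgroup G} (h1 : A₀ ≤ A) (h0 : A₀ ≠ ⊥) :
    normalizer (A₀ : Set G) = normalizer (A : Set G) := by
  obtain ⟨⟨a, ha⟩, h2⟩ := ne_bot_iff_exists_ne_one.1 h0
  exact le_antisymm (fun x hx => h.ti (h1 ha) (by simpa using h2) (h1 (conj_mem_of_mem_normalizer hx ha)))
    (normalizer_le_of_cyclic hA h1)

theorem cent_eq_of_forall {C : Subgroup G} (h : ∀ a ∈ A, a ≠ 1 → centralizer {a} = C) (h0 : A ≠ ⊥) :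
    centralizer (A : Set G) = C := by
  obtain ⟨⟨a, ha⟩, h2⟩ := ne_bot_iff_exists_ne_one.1 h0
  refine le_antisymm (h a ha (by simpa using h2) ▸ centralizer_le (by simpa)) fun x hx b hb => ?_
  by_cases e : b = 1
  · simp [e]
  · exact (mem_centralizer_singleton_iff.1 (h b hb e ▸ hx)).symm

end Gen

namespace ReeS
variable {m : ℕ} {K : Type*} [Field K] [Fintype K] {Γ : Type*} [Group Γ] [Finite Γ] (S : ReeS m K Γ) (hm : 1 ≤ m)

/-- the odd part of the split torus -/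
def H2 : Subgroup Γ := (S.d.comp (powMonoidHom 2)).range

theorem H2_le : S.H2 ≤ S.H := by rintro _ ⟨s, rfl⟩; exact ⟨_, rfl⟩

theorem cyclic_H2 : IsCyclic S.H2 := isCyclic_of_surjective _ (MonoidHom.rangeRestrict_surjective _)

theorem card_H2 : Nat.card S.H2 = (Fintype.card K - 1) / 2 := by
  rw [H2, MonoidHom.range_comp, card_map_of_injective S.d_inj, IsCyclic.card_powMonoidHom_range, Nat.card_units,
    Nat.card_eq_fintype_card, Nat.gcd_eq_right (by have := S.q_mod; omega)]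

theorem odd_H2 : Odd (Nat.card S.H2) := Nat.odd_iff.2 (by have := S.q_mod; rw [card_H2]; omega)

variable {S} in
theorem two_lt_H2 {a : Γ} (ha : a ∈ S.H2) (h : a ≠ 1) : 2 < orderOf a := by
  obtain ⟨k, hk⟩ := S.odd_H2.of_dvd_nat (orderOf_dvd_natCard _ ha)
  have := orderOf_eq_one_iff.not.2 h
  omega

variable {S} in
theorem cent_H2 {a : Γ} (ha : a ∈ S.H2) (h : a ≠ 1) : centralizer {a} = S.H := by
  have := two_lt_H2 ha h
  obtain ⟨s, rfl⟩ := S.H2_le ha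
  exact cent_d (ne_of_order this).1 (ne_of_order this).2

theorem norm_H2 {A₀ : Subgroup Γ} (h : A₀ ≤ S.H2) (h0 : A₀ ≠ ⊥) {x : Γ} : x ∈ normalizer (A₀ : Set Γ) ↔ x ∈ S.H ∨ x * S.w ∈ S.H := by
  obtain ⟨⟨a, ha⟩, h2⟩ := ne_bot_iff_exists_ne_one.1 h0
  exact S.normalizer_sub_H (h.trans S.H2_le) ha (two_lt_H2 (h ha) (by simpa using h2))

theorem cy_H2 : Cy S.H2 where
  cyc := S.cyclic_H2
  conj x h := (S.conj_H (h.trans (S.card_H ▸ card_dvd_of_le S.H2_le))).imp fun g e =>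
    mem_of_cyclic S.cyclic_H S.H2_le e (by rw [conj_pow, orderOf_dvd_iff_pow_eq_one.1 h]; simp)
  norm _ h h0 := Subgroup.ext fun _ => (S.norm_H2 h h0).trans (S.norm_H2 le_rfl fun e => h0 (le_bot_iff.1 (e ▸ h))).symm

theorem cy_A : Cy S.A where
  cyc := S.cyclic_A
  conj x h := S.conj_A (S.card_A ▸ h)
  norm _ h h0 := (normalizer_sub_A h h0).trans (normalizer_sub_A le_rfl fun e => h0 (le_bot_iff.1 (e ▸ h))).symm

include hm

theorem H2_ne : S.H2 ≠ ⊥ := fun e => by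
  have := S.card_H2
  have := S.q_ge hm
  rw [e, card_bot] at *
  omega

theorem card_NH2 : Nat.card (normalizer (S.H2 : Set Γ)) = 2 * (Fintype.card K - 1) :=
  (cnt_congr fun _ => S.norm_H2 le_rfl (S.H2_ne hm)).trans S.card_NH'

theorem card_NA : Nat.card (normalizer (S.A : Set Γ)) = 6 * (Fintype.card K + 1) := by
  rw [normalizer_sub_A le_rfl (A_ne hm), card_NV]

include S in
theorem exists_cy : ∃ C₁ C₂ : Subgroup Γ, Cy C₁ ∧ Cy C₂ ∧ Nat.card C₁ = Fintype.card K - 3 ^ (m + 1) + 1 ∧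
    Nat.card C₂ = Fintype.card K + 3 ^ (m + 1) + 1 ∧ Nat.card (normalizer (C₁ : Set Γ)) = 6 * Nat.card C₁ ∧
    Nat.card (normalizer (C₂ : Set Γ)) = 6 * Nat.card C₂ ∧ Nat.card C₁ * Nat.card C₂ = cc K ∧
    (Nat.card C₁).Coprime (Nat.card C₂) ∧ ∀ g : Γ, Tor K g → orderOf g ∣ Nat.card C₁ ∨ orderOf g ∣ Nat.card C₂ := by
  obtain ⟨g₂, g₁, h2, h1, a2, a1, b2, b1, c, d⟩ := S.exists_tori hm
  have e := (S.tor_cc hm h1).coprime (S.tor_cc hm h2) fun x e => by
    have := congrArg (fun A : Subgroup Γ => Nat.card A) e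
    simp only [card_cj, a1, a2] at this
    have : 0 < 3 ^ (m + 1) := by positivity
    omega
  have key : ∀ {g g' : Γ}, Tor K g → (Nat.card (centralizer {g})).Coprime (Nat.card (centralizer {g'})) →
      (∀ x, Tor K x → Cl (centralizer {g}) x ∨ Cl (centralizer {g'}) x) → Cy (centralizer {g}) := fun h e d =>
    ⟨S.tor_cyclic hm h, fun x hx => by
      by_cases h1 : x = 1
      · exact ⟨1, by simp [h1]⟩
      obtain ⟨y, a, -⟩ | ⟨y, a, -⟩ := d x ⟨lt_of_le_of_ne (orderOf_pos x) (orderOf_eq_one_iff.not.2 h1 ·.symm),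
        hx.trans (S.tor_card h)⟩
      exacts [⟨y, a⟩, absurd (orderOf_eq_one_iff.1 (Nat.eq_one_of_dvd_coprimes e hx
        (orderOf_conj y x ▸ orderOf_dvd_natCard _ a))) h1], fun _ => CC.norm (S.tor_cc hm h) (S.tor_cyclic hm h)⟩
  exact ⟨_, _, key h1 e fun x hx => (d x hx).symm, key h2 e.symm d, a1, a2, b1, b2, by rw [mul_comm, c], e, fun g h =>
    (d g h).symm.imp (fun ⟨y, a, _⟩ => orderOf_conj y g ▸ orderOf_dvd_natCard _ a)
      fun ⟨y, a, _⟩ => orderOf_conj y g ▸ orderOf_dvd_natCard _ a⟩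

include S in
theorem exists_cy_index {p : ℕ} (hp : p.Prime) (h3 : 3 < p) : ∃ A : Subgroup Γ, Cy A ∧ ¬ p ∣ A.index ∧
    (Nat.card A = (Fintype.card K - 1) / 2 ∨ Nat.card A = bb K ∨ Nat.card A = Fintype.card K - 3 ^ (m + 1) + 1 ∨
      Nat.card A = Fintype.card K + 3 ^ (m + 1) + 1) := by
  obtain ⟨C₁, C₂, h1, h2, a1, a2, -, -, c, d, -⟩ := S.exists_cy hm
  have b1 := S.coprime_cc
  have b2 := S.coprime_bb.1
  have b3 : Fintype.card K - 1 = 2 * Nat.card S.H2 := by have := S.q_mod; rw [card_H2]; omega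
  have b4 := S.card_eq'
  rw [b3, ← S.four_bb, ← c] at b1 b4
  rw [b3] at b2
  have b5 : ¬ p ∣ 8 * Fintype.card K ^ 3 := fun e => by
    rw [S.card, ← pow_mul, hp.dvd_mul] at e
    rcases e with e | e
    exacts [absurd (Nat.le_of_dvd two_pos (hp.dvd_of_dvd_pow (n := 3) e)) (by omega),
      absurd (Nat.le_of_dvd three_pos (hp.dvd_of_dvd_pow e)) (by omega)]
  have key : ∀ (A : Subgroup Γ) (n : ℕ), Nat.card Γ = Nat.card A * (8 * Fintype.card K ^ 3 * n) → ¬ p ∣ n → ¬ p ∣ A.index :=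
    fun A n e h e' => by
      rw [← A.card_mul_index, mul_right_inj' Nat.card_pos.ne'] at e
      exact (hp.dvd_mul.1 (e ▸ e')).elim b5 h
  have nd : ∀ {a b}, a.Coprime b → p ∣ a → ¬ p ∣ b := fun h a b => hp.ne_one (Nat.eq_one_of_dvd_coprimes h a b)
  simp only [Nat.coprime_mul_iff_left, Nat.coprime_mul_iff_right] at b1 b2
  by_cases e1 : p ∣ Nat.card C₁
  · exact ⟨C₁, h1, key _ (Nat.card S.H2 * bb K * Nat.card C₂) (by rw [b4]; ring) (by
      simp [-Nat.card_eq_fintype_card, hp.dvd_mul, nd d e1, nd b1.1.2.2.1 e1, nd b1.2.2.1 e1]), by simp [a1]⟩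
  by_cases e2 : p ∣ Nat.card C₂
  · exact ⟨C₂, h2, key _ (Nat.card S.H2 * bb K * Nat.card C₁) (by rw [b4]; ring) (by
      simp [-Nat.card_eq_fintype_card, hp.dvd_mul, e1, nd b1.1.2.2.2 e2, nd b1.2.2.2 e2]), by simp [a2]⟩
  by_cases e3 : p ∣ bb K
  · exact ⟨_, S.cy_A, key _ (Nat.card S.H2 * Nat.card C₁ * Nat.card C₂) (by rw [b4, card_A]; ring) (by
      simp [-Nat.card_eq_fintype_card, hp.dvd_mul, e1, e2, nd b2.2.2 e3]), by simp [card_A]⟩
  · exact ⟨_, S.cy_H2, key _ (bb K * Nat.card C₁ * Nat.card C₂) (by rw [b4]; ring) (by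
      simp [-Nat.card_eq_fintype_card, hp.dvd_mul, e1, e2, e3]), by simp [card_H2]⟩

include S in
theorem cyclic_sylow {p : ℕ} [hp : Fact p.Prime] (h3 : 3 < p) (P : Sylow p Γ) : IsCyclic P := by
  obtain ⟨A, h1, h2, -⟩ := S.exists_cy_index hm hp.1 h3
  obtain ⟨g, hg⟩ := exists_cj_le_of_index h2 P.2
  haveI := h1.cyc
  have := cyclic_cj (isCyclic_of_le hg) g⁻¹
  rwa [cj_inv_cj] at this

include S in
theorem orders (d : ℕ) : (∃ g : Γ, orderOf g = d) ↔ d ∣ 6 ∨ d ∣ 9 ∨ d ∣ Fintype.card K - 1 ∨ d ∣ (Fintype.card K + 1) / 2 ∨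
    d ∣ Fintype.card K - 3 ^ (m + 1) + 1 ∨ d ∣ Fintype.card K + 3 ^ (m + 1) + 1 := by
  obtain ⟨C₁, C₂, h1, h2, a1, a2, -, -, -, -, c⟩ := S.exists_cy hm
  rw [← a1, ← a2, show (Fintype.card K + 1) / 2 = 2 * bb K by have := S.four_bb; omega]
  refine ⟨?_, fun h => ?_⟩
  · rintro ⟨g, rfl⟩
    by_cases h : g = 1
    · simp [h]
    rcases S.cases h with e | ⟨e | e, -⟩ | e | e | e | e
    exacts [by simp [e], by simp [e], by simp [e], by simp [e.1], by simp [e.1.2], by simp [e.1.2],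
      .inr (.inr (.inr (.inr (c g e.1))))]
  · have key : ∀ g : Γ, d ∣ orderOf g → ∃ g : Γ, orderOf g = d := fun g h =>
      (exists_order_of_cyclic (A := zpowers g) inferInstance (by rwa [Nat.card_zpowers])).imp fun _ => And.right
    rcases h with h | h | h | h | h | h
    exacts [key _ (S.orderOf_yz one_ne_zero ▸ h), key _ (S.orderOf_y one_ne_zero 0 0 ▸ h),
      (exists_order_of_cyclic S.cyclic_H (S.card_H ▸ h)).imp fun _ => And.right, key _ (S.orderOf_φ_e0 ▸ h),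
      (exists_order_of_cyclic h1.cyc h).imp fun _ => And.right, (exists_order_of_cyclic h2.cyc h).imp fun _ => And.right]

omit hm in
theorem card_E_two {i : ℕ} (hi : i ∣ bb K) : Nat.card {a // a ∈ S.E ∧ orderOf a = 2 * i} = 3 * i.totient := by
  have h0 : Nat.card ({v // v ∈ S.V ∧ v ≠ 1} × {a // a ∈ S.A ∧ orderOf a = i}) = 3 * i.totient := by
    rw [Nat.card_prod, cnt_sharp, card_V, card_order_cyclic S.cyclic_A (S.card_A ▸ hi)]
  haveI : Fact (Nat.Prime 2) := ⟨Nat.prime_two⟩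
  have h1 : ∀ v ∈ S.V, ∀ a ∈ S.A, (v * a) ^ bb K = v := fun v hv a ha => by
    obtain ⟨k, hk⟩ := S.odd_bb
    rw [Commute.mul_pow (S.E_comm (S.V_le_E hv) (S.A_le_E ha)), pow_bb ha, hk, pow_succ, pow_mul, sq, (mem_V'.1 hv).2]
    simp
  have h2 : ∀ v ∈ S.V, v ≠ 1 → ∀ a ∈ S.A, orderOf (v * a) = 2 * orderOf a := fun v hv h a ha => by
    have := orderOf_eq_prime (p := 2) (by rw [sq, (mem_V'.1 hv).2]) h
    rw [Commute.orderOf_mul_eq_mul_orderOf_of_coprime (S.E_comm (S.V_le_E hv) (S.A_le_E ha)), this]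
    exact this ▸ (S.odd_bb.of_dvd_nat (orderOf_dvd_of_pow_eq_one (pow_bb ha))).coprime_two_left
  rw [← h0, ← cnt_true (α := _ × _)]
  refine (cnt_eq_of_bij (fun p => p.1.1 * p.2.1) (fun ⟨⟨v, hv⟩, a, ha⟩ _ => ⟨mul_mem (S.V_le_E hv.1) (S.A_le_E ha.1),
    by rw [h2 v hv.1 hv.2 a ha.1, ha.2]⟩) ?_ ?_).symm
  · rintro ⟨⟨v, hv⟩, a, ha⟩ ⟨⟨v', hv'⟩, a', ha'⟩ - - e
    obtain rfl : v = v' := by rw [← h1 v hv.1 a ha.1, ← h1 v' hv'.1 a' ha'.1]; exact congrArg (· ^ _) e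
    obtain rfl : a = a' := mul_left_cancel e
    rfl
  · intro x hx
    have h3 : x ^ bb K * x ^ bb K = 1 := by rw [← pow_add, ← two_mul, ← orderOf_dvd_iff_pow_eq_one]; exact pow_E hx.1
    have h4 : x ^ bb K ≠ 1 := fun e => by
      have := S.odd_bb.of_dvd_nat (orderOf_dvd_of_pow_eq_one e)
      rw [hx.2] at this
      exact absurd this (by simp)
    have h5 : x ^ (bb K + 1) ∈ S.A := by
      obtain ⟨k, hk⟩ := S.odd_bb
      rw [hk, show 2 * k + 1 + 1 = 2 * (k + 1) by ring, pow_mul]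
      exact pow_mem (sq_mem_A hx.1) _
    have h6 : x ^ bb K * x ^ (bb K + 1) = x := by rw [pow_succ, ← mul_assoc, h3, one_mul]
    have h7 := mem_V'.2 ⟨pow_mem hx.1 _, h3⟩
    exact ⟨⟨⟨_, h7, h4⟩, _, h5, by have := h2 _ h7 h4 _ h5; rw [h6, hx.2] at this; omega⟩, trivial, h6⟩

include S in
theorem counts : (∀ i : ℕ, 2 < i → i ∣ Fintype.card K - 1 →
      2 * Nat.card {g : Γ // orderOf g = i} = Nat.totient i * Fintype.card K ^ 3 * (Fintype.card K ^ 3 + 1)) ∧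
    (∀ i : ℕ, 1 < i → i ∣ (Fintype.card K + 1) / 4 → 6 * Nat.card {g : Γ // orderOf g = i} =
          Nat.totient i * Fintype.card K ^ 3 * (Fintype.card K - 1) * (Fintype.card K ^ 2 - Fintype.card K + 1) ∧
        2 * Nat.card {g : Γ // orderOf g = 2 * i} =
          Nat.totient i * Fintype.card K ^ 3 * (Fintype.card K - 1) * (Fintype.card K ^ 2 - Fintype.card K + 1)) ∧
    (∀ i : ℕ, 1 < i → i ∣ Fintype.card K - 3 ^ (m + 1) + 1 → 6 * Nat.card {g : Γ // orderOf g = i} =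
        Nat.totient i * Fintype.card K ^ 3 * (Fintype.card K ^ 2 - 1) * (Fintype.card K + 3 ^ (m + 1) + 1)) ∧
    (∀ i : ℕ, 1 < i → i ∣ Fintype.card K + 3 ^ (m + 1) + 1 → 6 * Nat.card {g : Γ // orderOf g = i} =
        Nat.totient i * Fintype.card K ^ 3 * (Fintype.card K ^ 2 - 1) * (Fintype.card K - 3 ^ (m + 1) + 1)) := by
  obtain ⟨C₁, C₂, h1, h2, a1, a2, b1, b2, c, -⟩ := S.exists_cy hm
  have h3 : Fintype.card K ^ 2 - 1 = (Fintype.card K - 1) * (Fintype.card K + 1) := by rw [mul_comm, ← Nat.sq_sub_sq, one_pow]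
  rw [← a1, ← a2, h3, ← cc, ← bb]
  refine ⟨fun i h hi => ?_, fun i h hi => ⟨?_, ?_⟩, fun i h hi => ?_, fun i h hi => ?_⟩
  · rw [S.count_H (· = i) (by rintro _ rfl; exact ⟨h, hi⟩), card_order_cyclic S.cyclic_H (S.card_H ▸ hi)]; ring
  · have := S.cy_A.count h (S.card_A ▸ hi)
    rw [S.card_NA hm, S.card_eq'] at this
    exact Nat.eq_of_mul_eq_mul_right (m := Fintype.card K + 1) (by omega) (by linear_combination this)
  · have := S.count_E (· = 2 * i) (by rintro _ rfl; exact ⟨by omega, mul_dvd_mul_left 2 hi⟩)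
    rw [S.card_E_two hi] at this
    exact Nat.eq_of_mul_eq_mul_left three_pos (by linear_combination this)
  · have := h1.count h hi
    rw [b1, S.card_eq', ← c] at this
    exact Nat.eq_of_mul_eq_mul_right (m := Nat.card C₁) Nat.card_pos (by linear_combination this)
  · have := h2.count h hi
    rw [b2, S.card_eq', ← c] at this
    exact Nat.eq_of_mul_eq_mul_right (m := Nat.card C₂) Nat.card_pos (by linear_combination this)

include S in
theorem cent_facts {T : Subgroup Γ} (hT : IsCyclic T) :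
    (Nat.card T = (Fintype.card K - 1) / 2 → IsCyclic (centralizer (T : Set Γ)) ∧
      Nat.card (centralizer (T : Set Γ)) = Fintype.card K - 1 ∧
        ∀ A ≤ T, A ≠ ⊥ → centralizer (A : Set Γ) = centralizer (T : Set Γ)) ∧
    (Nat.card T = (Fintype.card K + 1) / 4 → IsMulCommutative (centralizer (T : Set Γ)) ∧
      Nat.card (centralizer (T : Set Γ)) = Fintype.card K + 1 ∧ (∀ x ∈ centralizer (T : Set Γ), orderOf x ≠ 4) ∧
        ∀ A ≤ T, A ≠ ⊥ → centralizer (A : Set Γ) = centralizer (T : Set Γ)) := by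
  have key : ∀ {A C : Subgroup Γ} (g : Γ), (∀ a ∈ A, a ≠ 1 → centralizer {a} = C) → ∀ A₀ ≤ cj g A, A₀ ≠ ⊥ →
      centralizer (A₀ : Set Γ) = cj g C := fun g h A₀ h1 h2 => cent_eq_of_forall (fun a ha h3 => by
    rw [← h _ (mem_cj.1 (h1 ha)) (by simpa [mul_assoc, inv_mul_eq_one]), cj_centralizer_singleton]; simp [mul_assoc]) h2
  refine ⟨fun h => ?_, fun h => ?_⟩
  · obtain ⟨g, rfl⟩ := S.cy_H2.exists_cj S.cyclic_H2 hT dvd_rfl (h.trans S.card_H2.symm)
    have := key g fun _ => cent_H2 (S := S)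
    rw [this _ le_rfl (by simpa [cj_eq_bot_iff] using S.H2_ne hm)]
    exact ⟨cyclic_cj S.cyclic_H g, (card_cj ..).trans S.card_H, this⟩
  · obtain ⟨g, rfl⟩ := S.cy_A.exists_cj S.cyclic_A hT dvd_rfl (h.trans S.card_A.symm)
    have := key g fun _ => cent_A (S := S)
    rw [this _ le_rfl (by simpa [cj_eq_bot_iff] using A_ne hm)]
    refine ⟨⟨⟨fun a b => Subtype.ext ?_⟩⟩, (card_cj ..).trans S.card_E, fun x hx e => ?_, this⟩
    · simpa [mul_assoc] using congrArg (g * · * g⁻¹) (S.E_comm (mem_cj.1 a.2) (mem_cj.1 b.2))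
    · have h1 := pow_E (mem_cj.1 hx)
      have := Nat.odd_iff.1 S.odd_bb
      rw [← orderOf_conj g, show g * (g⁻¹ * x * g) * g⁻¹ = x by group, e] at h1
      omega

include S in
theorem solvable_norm {M : Subgroup Γ} (hM : Group.IsSolvable M) : ∃ A : Subgroup Γ, M ≤ normalizer (A : Set Γ) ∧
    ((∃ P : Sylow 2 Γ, A = P) ∨ (∃ P : Sylow 3 Γ, A = P) ∨ (IsCyclic A ∧ (Nat.card A = (Fintype.card K - 1) / 2 ∨
      Nat.card A = (Fintype.card K + 1) / 4 ∨ Nat.card A = Fintype.card K - 3 ^ (m + 1) + 1 ∨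
        Nat.card A = Fintype.card K + 3 ^ (m + 1) + 1))) := by
  generalize hgoal : (∃ A : Subgroup Γ, _) = goal
  have pg : ∀ {p : ℕ} {N : Subgroup Γ}, (∀ x ∈ N, x ^ p = 1) → IsPGroup p N := fun h x => ⟨1, Subtype.ext (by simpa using h _ x.2)⟩
  have h1 : ∀ p : ℕ, p.Prime → p ≠ 2 → ∀ N : Subgroup Γ, N ≠ ⊥ → M ≤ normalizer (N : Set Γ) → IsPGroup p N → goal := by
    intro p hp h2 N h0 hN hP
    haveI := Fact.mk hp
    rw [← hgoal]
    by_cases h3 : p = 3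
    · subst h3
      obtain ⟨P, h⟩ := hP.exists_le_sylow
      refine ⟨P, fun x hx => mem_normalizer_iff_cj.2 ?_, .inr (.inl ⟨P, rfl⟩)⟩
      rw [cj_sylow]
      exact congrArg _ (by_contra fun e => h0 (le_bot_iff.1 (S.syl_ti e ▸ le_inf
        (by rw [← cj_sylow, ← cj_eq_of_mem_normalizer (hN hx)]; exact cj_mono x h) h)))
    · obtain ⟨A, a1, a2, a3⟩ := S.exists_cy_index hm hp (by have := hp.two_le; omega)
      obtain ⟨g, hg⟩ := exists_cj_le_of_index a2 hP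
      refine ⟨cj g⁻¹ A, ?_, .inr (.inr ⟨cyclic_cj a1.cyc _, by rwa [card_cj]⟩)⟩
      rwa [← cj_normalizer, ← a1.norm _ hg (by rwa [Ne, cj_eq_bot_iff]), ← cj_normalizer, cj_inv_cj]
  have h2 : ∀ N : Subgroup Γ, 2 < Nat.card N → M ≤ normalizer (N : Set Γ) → IsPGroup 2 N → goal := by
    intro N h0 hN hP
    rw [← hgoal]
    obtain ⟨P, h⟩ := hP.exists_le_sylow
    have h3 := card_dvd_of_le h
    rw [S.card_syl_two P] at h3
    obtain e | e : Nat.card N = 4 ∨ Nat.card N = 8 := by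
      have := Nat.le_of_dvd (by simp) h3
      interval_cases Nat.card N <;> omega
    · obtain ⟨⟨j, hj⟩, h4⟩ := ne_bot_iff_exists_ne_one.1 (show N ≠ ⊥ by rintro rfl; simp at e)
      obtain ⟨g, -, rfl⟩ := exists_cj_V (S := S) e hj (by simpa using h4)
      exact ⟨cj g S.A, hN.trans (by rw [← cj_normalizer, ← cj_normalizer]; exact cj_mono g NV_le),
        .inr (.inr ⟨cyclic_cj S.cyclic_A g, .inr (.inl ((card_cj ..).trans S.card_A))⟩)⟩
    · exact ⟨N, hN, .inl ⟨P, eq_of_le_of_card_ge h (by rw [e, S.card_syl_two])⟩⟩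
  have h3 : IsPGroup 2 M → goal := fun h => let ⟨P, h⟩ := h.exists_le_sylow; hgoal ▸ ⟨P, h.trans le_normalizer, .inl ⟨P, rfl⟩⟩
  by_cases h0 : M = ⊥
  · exact h3 (h0 ▸ .of_bot)
  obtain ⟨p, hp, N, a1, a2, a3, -, a4⟩ := Solv.exists_normal_pgroup_of_solvable hM h0
  by_cases e : p = 2; swap
  · exact h1 p hp e N a2 a3 (pg a4)
  subst e
  by_cases e : 2 < Nat.card N
  · exact h2 N e a3 (pg a4)
  obtain ⟨⟨j, hj⟩, h4⟩ := ne_bot_iff_exists_ne_one.1 a2
  replace h4 : j ≠ 1 := by simpa using h4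
  have h5 : ∀ x ∈ M, x * j * x⁻¹ = j := fun x hx => by_contra fun h => e (by
    classical
    have := cnt_mono (p := fun y => (y = 1 ∨ y = j) ∨ y = x * j * x⁻¹) (q := (· ∈ N)) (by
      rintro _ ((rfl | rfl) | rfl)
      exacts [one_mem _, hj, conj_mem_of_mem_normalizer (a3 hx) hj])
    rwa [cnt_insert (by simp [h, h4]), cnt_eq_two h4.symm fun _ => .rfl] at this)
  obtain ⟨g, rfl⟩ := S.exists_z h4 (by rw [← sq, a4 j hj])
  have h6 : ∀ x ∈ M, x ∈ cj g S.φ.range ∨ x * (g * S.z * g⁻¹) ∈ cj g S.φ.range := fun x hx => by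
    obtain ⟨k, e | e⟩ := exists_φ (S := S) (g := g⁻¹ * x * g) (by simpa [mul_assoc] using congrArg (g⁻¹ * · * x * g) (h5 x hx))
    exacts [.inl (mem_cj.2 ⟨k, e.symm⟩), .inr (mem_cj.2 ⟨k, by simpa [mul_assoc, z_z] using congrArg (· * S.z) e.symm⟩)]
  have h7 : g * S.z * g⁻¹ ∉ cj g S.φ.range := fun h => let ⟨k, e⟩ := conj_mem_cj_iff.1 h; S.φ_ne_z k e
  have h8 := a4 _ hj
  generalize g * S.z * g⁻¹ = j at *
  by_cases h9 : M ⊓ cj g S.φ.range = ⊥
  · refine h3 (pg fun x hx => (h6 x hx).elim (fun h => by simp [mem_bot.1 (h9.le ⟨hx, h⟩)]) fun h => ?_)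
    rw [eq_inv_of_mul_eq_one_left (mem_bot.1 (h9.le ⟨mul_mem hx (a1 hj), h⟩)), inv_pow, h8, inv_one]
  obtain ⟨p, hp, N₀, b1, b2, b3, -, b4⟩ := Solv.exists_normal_pgroup_of_solvable (H := M ⊓ cj g S.φ.range)
    (Group.isSolvable_of_isSolvable_injective (inclusion_injective inf_le_left)) h9
  have b5 : j ∈ normalizer (N₀ : Set Γ) := mem_normalizer_of_conj_mem fun x hx => by
    rwa [← mul_inv_eq_iff_eq_mul.1 (h5 x (b1 hx).1), mul_inv_cancel_right]
  have b6 : M ≤ normalizer (N₀ : Set Γ) := fun x hx => (h6 x hx).elim (fun h => b3 ⟨hx, h⟩) fun h =>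
    (mul_mem_cancel_right b5).1 (b3 ⟨mul_mem hx (a1 hj), h⟩)
  by_cases e' : p = 2; swap
  · exact h1 p hp e' N₀ b2 b6 (pg b4)
  subst e'
  refine h2 (N₀ ⊔ N) ?_ (fun x hx => mem_normalizer_sup (b6 hx) (a3 hx))
    ((pg b4).to_sup_of_normal_right' (pg a4) ((b1.trans inf_le_left).trans a3))
  have := card_lt_of_lt (show N < N₀ ⊔ N from lt_of_le_of_ne le_sup_right fun h => ?_)
  · have := one_lt_card_iff_ne_bot N |>.2 a2
    omega
  · have := card_lt_of_lt (show N₀ < N from lt_of_le_of_ne (le_sup_left.trans h.ge) fun h => h7 (b1 (h ▸ hj)).2)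
    have := one_lt_card_iff_ne_bot N₀ |>.2 b2
    omega

end ReeS
end Cfsg.Agent.Ree
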