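import Cfsg.Agent.Lib.Ree.Def
import Cfsg.Agent.Lib.Sz.TI

set_option autoImplicit false
set_option linter.unusedSectionVars false
set_option linter.style.haveILetI false

/-! The doubly transitive action of a small Ree group. -/

namespace Cfsg.Agent.Ree

open Perm.GL2 MulAction Subgroup Transfer Suz

theorem exists_conj_fpf {G : Type*} [Group G] {U : Subgroup G} [Finite U] {h : G} (h1 : ∀ u ∈ U, h * u * h⁻¹ ∈ U)
    (h2 : ∀ u ∈ U, h * u * h⁻¹ = u → u = 1) {x : G} (hx : x ∈ U) : ∃ u ∈ U, x * h = u * h * u⁻¹ := by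
  obtain ⟨u, e⟩ := Finite.surjective_of_injective (f := fun u : U => (⟨u * (h * u⁻¹ * h⁻¹),
    mul_mem u.2 (h1 _ (inv_mem u.2))⟩ : U)) (fun u v e => by
      have := h2 _ (mul_mem (inv_mem v.2) u.2) (by
        have := congrArg Subtype.val e
        simp only at this
        calc _ = h * v⁻¹ * h⁻¹ * (h * u⁻¹ * h⁻¹)⁻¹ := by simp [mul_assoc]
          _ = _ := by rw [eq_inv_mul_iff_mul_eq, ← mul_assoc, mul_inv_eq_iff_eq_mul]; simpa using this.symm)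
      exact Subtype.ext (inv_mul_eq_one.1 this).symm) ⟨x, hx⟩
  exact ⟨u, u.2, by rw [← show _ = x from congrArg Subtype.val e]; simp [mul_assoc]⟩

namespace ReeS
variable {m : ℕ} {K : Type*} [Field K] [Fintype K] {Γ : Type*} [Group Γ] (S : ReeS m K Γ)

include S in
theorem charP : CharP K 3 := (Chev.exists_theta S.card).1

include S in
theorem c3 : (3 : K) = 0 := haveI := S.charP; CharP.cast_eq_zero K 3

include S in
theorem c2 : (2 : K) ≠ 0 := fun e => one_ne_zero (by linear_combination S.c3 - e : (1 : K) = 0)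

include S in
theorem q_mod : Fintype.card K % 8 = 3 := by
  rw [S.card, pow_succ, pow_mul, Nat.mul_mod, Nat.pow_mod]; simp

include S in
theorem q_ge (hm : 1 ≤ m) : 27 ≤ Fintype.card K := S.card ▸ Nat.pow_le_pow_right (n := 3) (i := 3) (by simp) (by omega)

include S in
theorem three_dvd : 3 ∣ Fintype.card K := S.card ▸ dvd_pow_self 3 (by simp)

theorem y_inj {t u v t' u' v' : K} : S.y t u v = S.y t' u' v' ↔ t = t' ∧ u = u' ∧ v = v' :=
  ⟨S.inj, fun h => by rw [h.1, h.2.1, h.2.2]⟩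

@[simp] theorem y_zero : S.y 0 0 0 = 1 := mul_eq_left.1 (by simp [S.y_mul] : S.y 0 0 0 * S.y 0 0 0 = _)

theorem y_eq_one {t u v : K} : S.y t u v = 1 ↔ t = 0 ∧ u = 0 ∧ v = 0 := by rw [← S.y_zero, y_inj]

theorem y_inv (t u v : K) : (S.y t u v)⁻¹ = S.y (-t) (-u - t * S.τ t) (-v - u * t - t ^ 2 * S.τ t * 2) :=
  inv_eq_of_mul_eq_one_right (by rw [S.y_mul, y_eq_one, map_neg]; exact ⟨by ring, by ring, by ring⟩)

theorem y_cube (t u v : K) : S.y t u v ^ 3 = S.y 0 0 (-(t ^ 2 * S.τ t)) := by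
  rw [pow_three', S.y_mul, S.y_mul, y_inj]
  exact ⟨by linear_combination t * S.c3, by linear_combination (u - t * S.τ t) * S.c3,
    by linear_combination (v - u * t) * S.c3⟩

theorem y_pow_nine (t u v : K) : S.y t u v ^ 9 = 1 := by
  rw [show 9 = 3 * 3 from rfl, pow_mul, y_cube, y_cube]; simp

theorem τ_ne {t : K} (h : t ≠ 0) : S.τ t ≠ 0 := by simpa

theorem sq_of_mul {s : K} (h : s * S.τ s = 1) : s = 1 ∨ s = -1 := by
  have := congrArg S.τ h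
  rw [map_mul, S.ττ, map_one] at this
  exact mul_self_eq_one_iff.1 (by linear_combination this - s ^ 2 * h)

theorem eq_of_δ {s t : K} (h : s ^ 2 * S.τ s = t ^ 2 * S.τ t) : s = t := (Chev.ree_bij S.ττ).1 h

theorem d_y (s : Kˣ) (t u v : K) : S.d s * S.y t u v = S.y (s * t) (s * S.τ s * u) (s ^ 2 * S.τ s * v) * S.d s := by
  rw [← S.d_conj, inv_mul_cancel_right]

theorem d_inj : Function.Injective S.d := (injective_iff_map_eq_one _).2 fun s h => by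
  have := S.d_conj s 1 0 0
  rw [h, one_mul, inv_one, mul_one] at this
  exact Units.ext (by simpa using (S.inj this).1.symm)

theorem d_comm (s s' : Kˣ) : S.d s * S.d s' = S.d s' * S.d s := by rw [← map_mul, mul_comm, map_mul]

/-- the Sylow 3-subgroup -/
def U : Subgroup Γ where
  carrier := {g | ∃ t u v, g = S.y t u v}
  one_mem' := ⟨0, 0, 0, S.y_zero.symm⟩
  mul_mem' := by rintro _ _ ⟨_, _, _, rfl⟩ ⟨_, _, _, rfl⟩; exact ⟨_, _, _, S.y_mul ..⟩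
  inv_mem' := by rintro _ ⟨_, _, _, rfl⟩; exact ⟨_, _, _, S.y_inv ..⟩

/-- the torus -/
def H : Subgroup Γ := S.d.range

/-- the Borel subgroup -/
def B : Subgroup Γ where
  carrier := {g | ∃ t u v s, g = S.y t u v * S.d s}
  one_mem' := ⟨0, 0, 0, 1, by simp⟩
  mul_mem' := by
    rintro _ _ ⟨_, _, _, s, rfl⟩ ⟨_, _, _, s', rfl⟩
    exact ⟨_, _, _, s * s', by rw [mul_assoc, ← mul_assoc (S.d s), d_y, mul_assoc, ← map_mul S.d, ← mul_assoc, S.y_mul]⟩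
  inv_mem' := by rintro _ ⟨_, _, _, s, rfl⟩; exact ⟨_, _, _, s⁻¹, by rw [mul_inv_rev, ← map_inv, y_inv, d_y]⟩

/-- the Weyl element -/
def w : Γ := S.φ (n0 K)

/-- the involution of the torus -/
def z : Γ := S.d (-1)

theorem y_mem (t u v : K) : S.y t u v ∈ S.U := ⟨t, u, v, rfl⟩
theorem d_mem (s : Kˣ) : S.d s ∈ S.H := ⟨s, rfl⟩
theorem U_le_B : S.U ≤ S.B := by rintro _ ⟨t, u, v, rfl⟩; exact ⟨t, u, v, 1, by simp⟩
theorem H_le_B : S.H ≤ S.B := by rintro _ ⟨s, rfl⟩; exact ⟨0, 0, 0, s, by simp⟩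
theorem y_mem_B (t u v : K) : S.y t u v ∈ S.B := S.U_le_B (S.y_mem ..)
theorem d_mem_B (s : Kˣ) : S.d s ∈ S.B := S.H_le_B (S.d_mem _)

theorem conj_mem_U {g x : Γ} (hg : g ∈ S.B) (hx : x ∈ S.U) : g * x * g⁻¹ ∈ S.U := by
  obtain ⟨_, _, _, s, rfl⟩ := hg
  obtain ⟨_, _, _, rfl⟩ := hx
  rw [mul_inv_rev, ← mul_assoc, mul_assoc (S.y ..), mul_assoc (S.y ..), S.d_conj]
  exact mul_mem (mul_mem (S.y_mem ..) (S.y_mem ..)) (inv_mem (S.y_mem ..))

theorem w_w : S.w * S.w = 1 := by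
  rw [w, ← map_mul, ← S.φ_neg]; congr 1; ext i j; rw [mul_apply_SL]; fin_cases i <;> fin_cases j <;> simp [n0]

theorem w_inv : S.w⁻¹ = S.w := inv_eq_of_mul_eq_one_right S.w_w

theorem w_conj (s : Kˣ) : S.w * S.d s * S.w⁻¹ = S.d s⁻¹ := S.w_d s

theorem w_mul_d (s : Kˣ) : S.w * S.d s = S.d s⁻¹ * S.w := by rw [← w_conj, inv_mul_cancel_right]

theorem z_z : S.z * S.z = 1 := by rw [z, ← map_mul]; simp

theorem z_inv : S.z⁻¹ = S.z := inv_eq_of_mul_eq_one_right S.z_z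

include S in
theorem neg_ne : (-1 : Kˣ) ≠ 1 := fun e => S.c2 (by have := congrArg Units.val e; simp at this; linear_combination -this)

theorem z_ne : S.z ≠ 1 := fun e => S.neg_ne (S.d_inj (e.trans (map_one _).symm))

theorem orderOf_z : orderOf S.z = 2 := orderOf_eq_prime (by rw [sq, z_z]) S.z_ne

theorem z_conj (t u v : K) : S.z * S.y t u v * S.z⁻¹ = S.y (-t) u (-v) := by simp [z, S.d_conj]

theorem eq_of_yd {t u v t' u' v' : K} {s s' : Kˣ} (h : S.y t u v * S.d s = S.y t' u' v' * S.d s') :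
    (t = t' ∧ u = u' ∧ v = v') ∧ s = s' := by
  have h1 : S.d (s' * s⁻¹) = (S.y t' u' v')⁻¹ * S.y t u v := by
    rw [map_mul, map_inv, eq_inv_mul_iff_mul_eq, ← mul_assoc, ← h, mul_inv_cancel_right]
  have h2 := S.d_conj (s' * s⁻¹) 1 0 0
  rw [h1, y_inv, S.y_mul, y_inv, S.y_mul, S.y_mul] at h2
  obtain rfl : s = s' := Units.ext (by
    have := (S.inj h2).1
    simp only [Units.val_mul, Units.val_inv_eq_inv_val] at this
    field_simp at this; linear_combination this)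
  exact ⟨S.inj (mul_right_cancel h), rfl⟩

variable {S} in
theorem ti' {x : Γ} (hx : x ∈ S.U) (h : S.w * x * S.w⁻¹ ∈ S.B) : x = 1 := by
  obtain ⟨_, _, _, rfl⟩ := hx
  obtain ⟨_, _, _, _, e⟩ := h
  exact S.y_eq_one.2 (S.ti e)

theorem w_not_mem : S.w ∉ S.B := fun h =>
  one_ne_zero (S.y_eq_one.1 (ti' (S.y_mem 1 0 0) (mul_mem (mul_mem h (S.y_mem_B ..)) (inv_mem h)))).1

/-- the point at infinity -/
def oo : Γ ⧸ S.B := (1 : Γ)

/-- the affine points -/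
def pt (t u v : K) : Γ ⧸ S.B := (S.y t u v * S.w : Γ)

theorem smul_oo (g : Γ) : g • S.oo = (g : Γ ⧸ S.B) := by simp [oo, Quotient.smul_mk]

variable {S} in
theorem fix_oo {g : Γ} : g • S.oo = S.oo ↔ g ∈ S.B := by
  rw [smul_oo, oo, eq_comm, QuotientGroup.eq]; simp

theorem pt_eq (t u v : K) : S.pt t u v = S.y t u v • S.w • S.oo := by rw [← mul_smul, smul_oo, pt]

theorem w_oo : S.w • S.oo = S.pt 0 0 0 := by simp [pt_eq]

theorem w_pt : S.w • S.pt 0 0 0 = S.oo := by rw [← w_oo, ← mul_smul, w_w, one_smul]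

theorem pt_ne (t u v : K) : S.pt t u v ≠ S.oo := fun h => by
  rw [pt_eq, ← mul_smul, fix_oo, mul_mem_cancel_left (S.y_mem_B ..)] at h
  exact S.w_not_mem h

theorem pt_inj {t u v t' u' v' : K} : S.pt t u v = S.pt t' u' v' ↔ t = t' ∧ u = u' ∧ v = v' :=
  ⟨fun h => by
    have := ti' (mul_mem (inv_mem (S.y_mem t u v)) (S.y_mem t' u' v')) (by
      simpa [mul_assoc, w_inv] using QuotientGroup.eq.1 h)
    exact S.inj (inv_mul_eq_one.1 this), fun h => by rw [h.1, h.2.1, h.2.2]⟩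

theorem y_pt0 (t u v : K) : S.y t u v • S.pt 0 0 0 = S.pt t u v := by rw [← w_oo, pt_eq]

@[simp] theorem y_oo (t u v : K) : S.y t u v • S.oo = S.oo := fix_oo.2 (S.y_mem_B ..)
@[simp] theorem d_oo (s : Kˣ) : S.d s • S.oo = S.oo := fix_oo.2 (S.d_mem_B ..)

theorem d_pt0 (s : Kˣ) : S.d s • S.pt 0 0 0 = S.pt 0 0 0 := by
  rw [← w_oo, ← mul_smul, ← inv_inv s, ← w_mul_d, mul_smul, d_oo]

theorem d_pt (s : Kˣ) (t u v : K) : S.d s • S.pt t u v = S.pt (s * t) (s * S.τ s * u) (s ^ 2 * S.τ s * v) := by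
  rw [← y_pt0, ← mul_smul, d_y, mul_smul, d_pt0, y_pt0]

variable {S}

theorem exists_pt {p : Γ ⧸ S.B} (h : p ≠ S.oo) : ∃ t u v, p = S.pt t u v := by
  obtain ⟨g, rfl⟩ := QuotientGroup.mk_surjective p
  rw [← smul_oo] at h ⊢
  rcases S.bruhat g with e | ⟨t, u, v, s, t', u', v', rfl⟩
  · exact absurd (fix_oo.2 e) h
  · exact ⟨t, u, v, by rw [mul_smul, y_oo, mul_smul, ← w, w_oo, mul_smul, d_pt0, y_pt0]⟩

theorem exists_U {p : Γ ⧸ S.B} (h : p ≠ S.oo) : ∃ x ∈ S.U, p = x • S.pt 0 0 0 :=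
  let ⟨t, u, v, e⟩ := exists_pt h; ⟨_, S.y_mem t u v, e.trans (S.y_pt0 ..).symm⟩

theorem eq_one_of_pt0 {x : Γ} (hx : x ∈ S.U) (h : x • S.pt 0 0 0 = S.pt 0 0 0) : x = 1 := by
  obtain ⟨t, u, v, rfl⟩ := hx
  exact S.y_eq_one.2 (S.pt_inj.1 (S.y_pt0 t u v ▸ h))

theorem eq_oo_of_U {x : Γ} (hx : x ∈ S.U) (h1 : x ≠ 1) {p : Γ ⧸ S.B} (h : x • p = p) : p = S.oo := by_contra fun e => by
  obtain ⟨g, hg, rfl⟩ := exists_U e
  have := eq_one_of_pt0 (mul_mem (mul_mem (inv_mem hg) hx) hg) (by rw [mul_smul, mul_smul, h, inv_smul_smul])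
  exact h1 (by simpa [mul_assoc, inv_mul_eq_one] using this)

theorem mem_H {g : Γ} : g ∈ S.H ↔ g • S.oo = S.oo ∧ g • S.pt 0 0 0 = S.pt 0 0 0 := by
  refine ⟨by rintro ⟨s, rfl⟩; exact ⟨S.d_oo s, S.d_pt0 s⟩, fun ⟨h1, h2⟩ => ?_⟩
  obtain ⟨t, u, v, s, rfl⟩ := fix_oo.1 h1
  rw [mul_smul, d_pt0] at h2
  rw [eq_one_of_pt0 (S.y_mem ..) h2, one_mul]; exact S.d_mem s

theorem two_trans {p p' : Γ ⧸ S.B} (h : p ≠ p') : ∃ g : Γ, g • S.oo = p ∧ g • S.pt 0 0 0 = p' := by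
  obtain ⟨g, rfl⟩ := exists_smul_eq Γ S.oo p
  obtain ⟨x, hx, e⟩ := exists_U (p := g⁻¹ • p') (fun e => h (by rw [← e, smul_inv_smul]))
  exact ⟨g * x, by rw [mul_smul, fix_oo.2 (S.U_le_B hx)], by rw [mul_smul, ← e, smul_inv_smul]⟩

theorem d_fix {s : Kˣ} (h1 : s ≠ 1) {t u v : K} (h : (s : K) * t = t ∧ s * S.τ s * u = u ∧ s ^ 2 * S.τ s * v = v) :
    t = 0 ∧ v = 0 ∧ (s ≠ -1 → u = 0) := by
  have h2 : (s : K) ≠ 1 := fun e => h1 (Units.ext e)
  refine ⟨by_contra fun e => h2 (by simpa [e] using h.1), by_contra fun e => h2 (S.eq_of_δ (by simpa [e] using h.2.2)),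
    fun h3 => by_contra fun e => ?_⟩
  exact (S.sq_of_mul (by simpa [e] using h.2.1)).elim h2 fun e => h3 (Units.ext e)

theorem fix_d {s : Kˣ} (h1 : s ≠ 1) (h2 : s ≠ -1) {p : Γ ⧸ S.B} (h : S.d s • p = p) : p = S.oo ∨ p = S.pt 0 0 0 := by
  refine or_iff_not_imp_left.2 fun e => ?_
  obtain ⟨t, u, v, rfl⟩ := exists_pt e
  obtain ⟨rfl, rfl, h3⟩ := d_fix h1 (S.pt_inj.1 (S.d_pt s t u v ▸ h))
  rw [h3 h2]

theorem fix_z {p : Γ ⧸ S.B} : S.z • p = p ↔ p = S.oo ∨ ∃ u, p = S.pt 0 u 0 := by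
  refine ⟨fun h => or_iff_not_imp_left.2 fun e => ?_, ?_⟩
  · obtain ⟨t, u, v, rfl⟩ := exists_pt e
    obtain ⟨rfl, rfl, -⟩ := d_fix S.neg_ne (S.pt_inj.1 (S.d_pt _ t u v ▸ h))
    exact ⟨u, rfl⟩
  · rintro (rfl | ⟨u, rfl⟩) <;> simp [z, d_pt]

theorem mem_B_of_conj {g x : Γ} (hx : x ∈ S.U) (h1 : x ≠ 1) (h : g * x * g⁻¹ ∈ S.B) : g ∈ S.B := by
  rw [← inv_mem_iff, ← fix_oo]
  exact eq_oo_of_U hx h1 (by rw [eq_inv_smul_iff, ← mul_smul, ← mul_smul, fix_oo.2 h])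

variable (S)

theorem card_U : Nat.card S.U = Fintype.card K ^ 3 := by
  rw [← Nat.card_congr (Equiv.ofBijective (fun p : K × K × K => (⟨_, S.y_mem p.1 p.2.1 p.2.2⟩ : S.U))
    ⟨fun p p' e => by simpa [y_inj, Prod.ext_iff] using e, by rintro ⟨_, t, u, v, rfl⟩; exact ⟨(t, u, v), rfl⟩⟩)]
  simp [pow_succ, mul_assoc]

theorem card_H : Nat.card S.H = Fintype.card K - 1 := by
  rw [H, ← Nat.card_congr (MonoidHom.ofInjective S.d_inj).toEquiv, Nat.card_units, Nat.card_eq_fintype_card]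

theorem card_B : Nat.card S.B = Fintype.card K ^ 3 * (Fintype.card K - 1) := by
  rw [← Nat.card_congr (Equiv.ofBijective (fun p : (K × K × K) × Kˣ =>
    (⟨S.y p.1.1 p.1.2.1 p.1.2.2 * S.d p.2, _, _, _, _, rfl⟩ : S.B))
    ⟨fun p p' e => by simpa [Prod.ext_iff] using S.eq_of_yd (congrArg Subtype.val e),
      by rintro ⟨_, t, u, v, s, rfl⟩; exact ⟨((t, u, v), s), rfl⟩⟩), Nat.card_prod, Nat.card_units]
  simp [pow_succ, mul_assoc]

theorem index_B : S.B.index = Fintype.card K ^ 3 + 1 := by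
  rw [index, ← Nat.card_congr (Equiv.ofBijective (fun p : Option (K × K × K) => p.elim S.oo fun p => S.pt p.1 p.2.1 p.2.2)
    ⟨?_, fun p => ?_⟩)]
  · simp [pow_succ, mul_assoc]
  · rintro (_ | p) (_ | p') e
    exacts [rfl, absurd e.symm (S.pt_ne _ _ _), absurd e (S.pt_ne _ _ _), by simpa [pt_inj, Prod.ext_iff] using e]
  · by_cases e : p = S.oo
    · exact ⟨none, e.symm⟩
    · obtain ⟨t, u, v, rfl⟩ := exists_pt e
      exact ⟨some (t, u, v), rfl⟩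

include S in
theorem card_eq : Nat.card Γ = Fintype.card K ^ 3 * (Fintype.card K - 1) * (Fintype.card K ^ 3 + 1) := by
  rw [← S.B.card_mul_index, card_B, index_B]

include S in
theorem finite : Finite Γ := Nat.finite_of_card_ne_zero (by
  have := S.q_mod
  rw [S.card_eq]; exact mul_ne_zero (mul_ne_zero (by simp) (by omega)) (by simp))

variable [Finite Γ]

theorem normalizer_U : normalizer (S.U : Set Γ) = S.B :=
  le_antisymm (fun _ hg => mem_B_of_conj (S.y_mem 1 0 0) (by simp [y_eq_one])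
    (S.U_le_B (conj_mem_of_mem_normalizer hg (S.y_mem ..)))) fun _ hg => mem_normalizer_of_conj_mem fun _ => S.conj_mem_U hg

theorem isPGroup_U : IsPGroup 3 S.U := .of_card (n := (2 * m + 1) * 3) (by rw [card_U, S.card, pow_mul])

theorem index_U : S.U.index = (Fintype.card K - 1) * (Fintype.card K ^ 3 + 1) :=
  Nat.eq_of_mul_eq_mul_left Nat.card_pos (by rw [S.U.card_mul_index, S.card_eq, card_U, mul_assoc])

theorem not_dvd_index_U : ¬ 3 ∣ S.U.index := by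
  have := S.three_dvd
  have := S.q_mod
  have := dvd_pow S.three_dvd (n := 3) (by simp)
  rw [index_U, Nat.prime_three.dvd_mul]; omega

/-- the Sylow 3-subgroup -/
def syl : Sylow 3 Γ := S.isPGroup_U.toSylow S.not_dvd_index_U

theorem exists_cj_U (P : Sylow 3 Γ) : ∃ g, (P : Subgroup Γ) = cj g S.U := (exists_cj_sylow_eq S.syl P).imp fun _ => Eq.symm

variable {S}

theorem conj_d {s : Kˣ} (h1 : s ≠ 1) (h2 : s ≠ -1) (t u v : K) : ∃ x ∈ S.U, S.y t u v * S.d s = x * S.d s * x⁻¹ :=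
  exists_conj_fpf (fun _ => S.conj_mem_U (S.d_mem_B s)) (by
    rintro _ ⟨t, u, v, rfl⟩ e
    obtain ⟨rfl, rfl, h3⟩ := d_fix h1 (S.inj (S.d_conj s t u v ▸ e))
    simp [h3 h2]) (S.y_mem ..)

variable (S) in
theorem conj_z (t u v : K) : ∃ x ∈ S.U, ∃ b, S.y t u v * S.z = x * (S.y 0 b 0 * S.z) * x⁻¹ := by
  have : ∀ a b c, S.z * S.y a b c = S.y (-a) b (-c) * S.z := fun a b c => by rw [← z_conj, inv_mul_cancel_right]
  refine ⟨_, S.y_mem (-t) 0 (u * t - v), u - t * S.τ t, ?_⟩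
  rw [y_inv, ← mul_assoc, mul_assoc _ S.z, this, ← mul_assoc, S.y_mul, S.y_mul, mul_left_inj, y_inj]
  have := S.c3
  simp only [map_neg, map_zero]
  exact ⟨by grind, by grind, by grind⟩

theorem B_cases {g : Γ} (hg : g ∈ S.B) : g ∈ S.U ∨ (∃ x ∈ S.U, ∃ b, g = x * (S.y 0 b 0 * S.z) * x⁻¹) ∨
    ∃ x ∈ S.U, ∃ s, s ≠ 1 ∧ s ≠ -1 ∧ g = x * S.d s * x⁻¹ := by
  obtain ⟨t, u, v, s, rfl⟩ := hg
  by_cases h1 : s = 1
  · exact .inl (by simp [h1, y_mem])
  by_cases h2 : s = -1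
  · exact .inr (.inl (h2 ▸ S.conj_z t u v))
  · exact .inr (.inr (let ⟨x, hx, e⟩ := conj_d h1 h2 t u v; ⟨x, hx, s, h1, h2, e⟩))

theorem mem_NH {g : Γ} {s : Kˣ} (h1 : s ≠ 1) (h2 : s ≠ -1) (h : g * S.d s * g⁻¹ ∈ S.H) : g ∈ S.H ∨ g * S.w ∈ S.H := by
  have h3 := mem_H.1 h
  have h4 := S.pt_ne 0 0 0
  simp only [mul_smul, smul_eq_iff_eq_inv_smul g] at h3
  rcases fix_d h1 h2 h3.1 with e | e <;> rcases fix_d h1 h2 h3.2 with e' | e' <;> rw [inv_smul_eq_iff] at e e'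
  · exact absurd (e'.trans e.symm) h4
  · exact .inl (mem_H.2 ⟨e.symm, e'.symm⟩)
  · exact .inr (mem_H.2 ⟨by rw [mul_smul, w_oo, ← e], by rw [mul_smul, w_pt, ← e']⟩)
  · exact absurd (e'.trans e.symm) h4

theorem dw_conj (s s' : Kˣ) : S.d s' * S.w * S.d s * (S.d s' * S.w)⁻¹ = S.d s⁻¹ := by
  rw [mul_inv_rev, ← mul_assoc, mul_assoc (S.d s'), mul_assoc (S.d s'), w_conj, d_comm, mul_inv_cancel_right]

theorem eq_dw {g : Γ} (h : g * S.w ∈ S.H) : ∃ s, g = S.d s * S.w :=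
  let ⟨s, e⟩ := h; ⟨s, by rw [e, mul_assoc, w_w, mul_one]⟩

theorem cent_d {s : Kˣ} (h1 : s ≠ 1) (h2 : s ≠ -1) : centralizer {S.d s} = S.H := by
  refine le_antisymm (fun g hg => ?_) ?_
  · rw [mem_centralizer_singleton_iff] at hg
    refine (mem_NH h1 h2 (by rw [hg, mul_inv_cancel_right]; exact S.d_mem s)).resolve_right fun e => ?_
    obtain ⟨s', rfl⟩ := eq_dw e
    have := dw_conj (S := S) s s'
    rw [hg, mul_inv_cancel_right] at this
    have := congrArg Units.val (mul_eq_one_iff_eq_inv.2 (S.d_inj this))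
    exact (mul_self_eq_one_iff.1 this).elim (fun e => h1 (Units.ext e)) fun e => h2 (Units.ext e)
  · rintro _ ⟨s', rfl⟩
    exact mem_centralizer_singleton_iff.2 (S.d_comm ..)

theorem conj_mem_H {g x : Γ} (h : g ∈ S.H ∨ g * S.w ∈ S.H) (hx : x ∈ S.H) : g * x * g⁻¹ = x ∨ g * x * g⁻¹ = x⁻¹ := by
  obtain ⟨s, rfl⟩ := hx
  rcases h with ⟨s', rfl⟩ | h
  · exact .inl (by rw [d_comm, mul_inv_cancel_right])
  · obtain ⟨s', rfl⟩ := eq_dw h
    exact .inr (by rw [dw_conj, map_inv])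

variable (S) in
theorem card_NH' : Nat.card {g // g ∈ S.H ∨ g * S.w ∈ S.H} = 2 * (Fintype.card K - 1) := by
  rw [← S.card_H, two_mul, cnt_or fun x h h' => S.w_not_mem (S.H_le_B ((mul_mem_cancel_left h).1 h'))]
  congr 1
  exact cnt_eq_of_bij (· * S.w) (fun _ => id) (fun _ _ _ _ => mul_right_cancel) fun y hy => ⟨y * S.w⁻¹, by simpa, by simp⟩

end ReeS
end Cfsg.Agent.Ree
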