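import Cfsg.Agent.Lib.Ree.Syl

set_option autoImplicit false
set_option linter.unusedSectionVars false
set_option linter.style.haveILetI false

/-! Classification and counting of the elements of a small Ree group. -/

namespace Cfsg.Agent.Ree

open Perm.GL2 MulAction Subgroup Transfer Suz

theorem count_of_ti {G : Type*} [Group G] [Finite G] {A N : Subgroup G} (P : ℕ → Prop)
    (h1 : ∀ g : G, P (orderOf g) → ∃ x, x * g * x⁻¹ ∈ A)
    (h2 : ∀ a ∈ A, P (orderOf a) → ∀ x, x * a * x⁻¹ ∈ A ↔ x ∈ N) :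
    Nat.card {g : G // P (orderOf g)} * Nat.card N = Nat.card G * Nat.card {a // a ∈ A ∧ P (orderOf a)} := by
  rw [← ti_count (p := fun a => a ∈ A ∧ P (orderOf a)) (N := N) fun a ha x => by simp [orderOf_conj, ha.2, h2 a ha.1 ha.2]]
  exact congrArg (· * _) (cnt_congr fun g => by simpa [orderOf_conj] using h1 g)

theorem card_order_cyclic {G : Type*} [Group G] [Finite G] {A : Subgroup G} (hA : IsCyclic A) {n : ℕ} (h : n ∣ Nat.card A) :
    Nat.card {a // a ∈ A ∧ orderOf a = n} = n.totient := by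
  classical
  haveI := Fintype.ofFinite A
  rw [← IsCyclic.card_orderOf_eq_totient (α := A) (by rwa [← Nat.card_eq_fintype_card]), ← Fintype.card_subtype,
    ← Nat.card_eq_fintype_card]
  exact (cnt_eq_of_bij Subtype.val (fun a h => ⟨a.2, (orderOf_coe a).trans h⟩) (fun _ _ _ _ => Subtype.ext)
    fun a h => ⟨⟨a, h.1⟩, (orderOf_coe _).symm.trans h.2, rfl⟩).symm

variable (K : Type*) [Fintype K] in
/-- the order of the product of the two anisotropic tori -/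
def cc : ℕ := Fintype.card K ^ 2 - Fintype.card K + 1

namespace ReeS
variable {m : ℕ} {K : Type*} [Field K] [Fintype K] {Γ : Type*} [Group Γ] [Finite Γ] (S : ReeS m K Γ)

include S in
theorem exists_k : ∃ k, Fintype.card K = 24 * k + 3 ∧ bb K = 6 * k + 1 ∧ cc K = 576 * k ^ 2 + 120 * k + 7 := by
  have h1 := S.q_mod
  have h2 := S.three_dvd
  refine ⟨Fintype.card K / 24, by omega, by rw [bb]; omega, ?_⟩
  rw [cc, show Fintype.card K = 24 * (Fintype.card K / 24) + 3 by omega, ← Nat.sub_add_comm (by nlinarith),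
    Nat.sub_eq_iff_eq_add (by nlinarith), show (24 * (Fintype.card K / 24) + 3) / 24 = Fintype.card K / 24 by omega]
  ring

include S in
theorem cube_add : Fintype.card K ^ 3 + 1 = (Fintype.card K + 1) * cc K := by
  obtain ⟨k, h1, -, h2⟩ := S.exists_k
  rw [h1, h2]; ring

include S in
theorem card_eq' : Nat.card Γ = Fintype.card K ^ 3 * (Fintype.card K - 1) * (Fintype.card K + 1) * cc K := by
  rw [S.card_eq, S.cube_add, mul_assoc _ _ (cc K)]

include S in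
theorem coprime_cc : (cc K).Coprime (Fintype.card K ^ 3 * (Fintype.card K - 1) * (Fintype.card K + 1)) := by
  have h := S.coprime_bb.2
  obtain ⟨k, h1, h2, h3⟩ := S.exists_k
  rw [← cc] at h
  rw [← S.four_bb]
  refine .mul_right (.mul_right (.pow_right _ ?_) ?_) (.mul_right ?_ h.symm) <;> rw [h3] <;>
    refine Nat.coprime_of_dvd fun p hp a1 a2 => ?_
  · exact hp.not_dvd_one ((Nat.dvd_add_right ((h1 ▸ a2).mul_right (24 * k + 2))).1 (by convert a1 using 1; ring))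
  · exact hp.not_dvd_one ((Nat.dvd_add_right ((show p ∣ 24 * k + 2 by rw [h1] at a2; exact a2).mul_right (24 * k + 3))).1
      (by convert a1 using 1; ring))
  · obtain rfl := (Nat.prime_dvd_prime_iff_eq hp Nat.prime_two).1 (hp.dvd_of_dvd_pow (n := 2) a2)
    omega

theorem cyclic_H : IsCyclic S.H := isCyclic_of_surjective _ S.d.rangeRestrict_surjective

theorem index_H : S.H.index = Fintype.card K ^ 3 * (Fintype.card K ^ 3 + 1) :=
  Nat.eq_of_mul_eq_mul_left Nat.card_pos (by rw [S.H.card_mul_index, S.card_eq, card_H]; ring)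

theorem index_A : S.A.index = 4 * (Fintype.card K ^ 3 * (Fintype.card K - 1) * cc K) :=
  Nat.eq_of_mul_eq_mul_left Nat.card_pos (by rw [S.A.card_mul_index, S.card_eq', card_A, ← S.four_bb]; ring)

theorem conj_H_of_prime {x : Γ} {p : ℕ} (hp : p.Prime) (h2 : p ≠ 2) (h : p ∣ Fintype.card K - 1)
    (hx : p ∣ Nat.card (centralizer {x})) : ∃ g, g * x * g⁻¹ ∈ S.H := by
  obtain ⟨g, _, ⟨s, rfl⟩, h3, h4⟩ := exists_comm_of_dvd (A := S.H) hp (fun e => by
    obtain ⟨k, hk⟩ : ∃ k, Fintype.card K = k + 1 := ⟨Fintype.card K - 1, by have := S.q_mod; omega⟩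
    rw [index_H, hk] at e
    rw [hk, Nat.add_sub_cancel] at h
    rcases hp.dvd_mul.1 e with e | e
    · exact hp.not_dvd_one ((Nat.dvd_add_right h).1 (hp.dvd_of_dvd_pow e))
    · exact h2 ((Nat.prime_dvd_prime_iff_eq hp Nat.prime_two).1
        ((Nat.dvd_add_right (h.mul_right (k ^ 2 + 3 * k + 3))).1 (by convert e using 1; ring)))) hx
  refine ⟨g, (cent_d ?_ ?_).le h4⟩ <;> rintro rfl
  · exact hp.ne_one (by simpa using h3.symm)
  · exact h2 (h3.symm.trans S.orderOf_z)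

theorem conj_E_of_prime {x : Γ} {p : ℕ} (hp : p.Prime) (h : p ∣ bb K)
    (hx : p ∣ Nat.card (centralizer {x})) : ∃ g, g * x * g⁻¹ ∈ S.E := by
  obtain ⟨g, y, h1, h3, h4⟩ := exists_comm_of_dvd (A := S.A) hp (fun e => hp.not_dvd_one (by
    rw [index_A] at e
    exact ((S.odd_bb.coprime_two_right.pow_right 2).mul_right
      (S.coprime_bb.1.mul_right S.coprime_bb.2)).gcd_eq_one ▸ Nat.dvd_gcd h e)) hx
  exact ⟨g, (cent_A h1 (by rintro rfl; exact hp.ne_one (by simpa using h3.symm))).le h4⟩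

theorem conj_of_even {x : Γ} (hx : 2 ∣ Nat.card (centralizer {x})) : (∃ g, g * x * g⁻¹ ∈ S.B) ∨ ∃ g, g * x * g⁻¹ ∈ S.E := by
  obtain ⟨⟨a, ha⟩, h1⟩ := exists_prime_orderOf_dvd_card' 2 hx
  rw [← orderOf_coe] at h1
  obtain ⟨g, rfl⟩ := isConj_iff.1 (S.isConj_z h1)
  have key : ∀ k, (∃ c, S.φ c * S.φ k * (S.φ c)⁻¹ ∈ S.B) ∨ ∃ c, S.φ c * S.φ k * (S.φ c)⁻¹ ∈ S.E := fun k => by
    rcases classify_SL k with h | h | ⟨h, e, h'⟩ | ⟨h, e, h'⟩
    · exact .inl ⟨1, by simp [S.φ_eq_one.2 (isScal_SL_iff.1 h)]⟩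
    · exact .inr (conj_E_of_ell h)
    all_goals
      obtain ⟨c, rfl⟩ := isConj_iff.1 e
      refine .inl ⟨c, ?_⟩
      rw [← map_inv, ← map_mul, ← map_mul, φ_mem_B]
    exacts [h'.1, h'.2.1]
  have key2 : ∀ c k, S.φ c * (S.φ k * S.z) * (S.φ c)⁻¹ = S.φ c * S.φ k * (S.φ c)⁻¹ * S.z := fun c k => by
    rw [← map_inv, ← mul_assoc, (S.φ_comm_z _).symm.right_comm]
  obtain ⟨k, e | e⟩ := exists_φ (S := S) (g := g⁻¹ * x * g) (by
    simpa [mul_assoc] using congrArg (g⁻¹ * · * g) (mem_centralizer_singleton_iff.1 ha).symm)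
  · exact (key k).imp (fun ⟨c, h⟩ => ⟨S.φ c * g⁻¹, by simpa [← e, mul_assoc] using h⟩)
      fun ⟨c, h⟩ => ⟨S.φ c * g⁻¹, by simpa [← e, mul_assoc] using h⟩
  · have e' : ∀ c, S.φ c * g⁻¹ * (x) * (S.φ c * g⁻¹)⁻¹ = S.φ c * S.φ k * (S.φ c)⁻¹ * S.z := fun c => by
      rw [← key2, ← e]; simp [mul_assoc]
    exact (key k).imp (fun ⟨c, h⟩ => ⟨S.φ c * g⁻¹, e' c ▸ mul_mem h (S.d_mem_B (-1))⟩)
      fun ⟨c, h⟩ => ⟨S.φ c * g⁻¹, e' c ▸ mul_mem h (S.z_mem_lift _)⟩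

theorem tri (x : Γ) : (∃ g, g * x * g⁻¹ ∈ S.B) ∨ (∃ g, g * x * g⁻¹ ∈ S.E) ∨ Nat.card (centralizer {x}) ∣ cc K := by
  by_contra! h
  refine h.2.2 (Nat.Coprime.dvd_of_dvd_mul_left (Nat.coprime_of_dvd fun p hp a1 a2 => ?_)
    (S.card_eq' ▸ card_subgroup_dvd_card _))
  have h2 : p ≠ 2 := by
    rintro rfl
    exact (S.conj_of_even a1).elim (fun ⟨g, e⟩ => h.1 g e) fun ⟨g, e⟩ => h.2.1 g e
  rcases hp.dvd_mul.1 a2 with a2 | a2
  rcases hp.dvd_mul.1 a2 with a2 | a2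
  · rw [S.card, ← pow_mul] at a2
    obtain rfl := (Nat.prime_dvd_prime_iff_eq hp Nat.prime_three).1 (hp.dvd_of_dvd_pow a2)
    exact (S.exists_B_of_three a1).elim h.1
  · exact (S.conj_H_of_prime hp h2 a2 a1).elim fun g e => h.1 g (S.H_le_B e)
  · rw [← S.four_bb] at a2
    exact (S.conj_E_of_prime hp ((hp.dvd_mul.1 a2).resolve_left fun e =>
      h2 ((Nat.prime_dvd_prime_iff_eq hp Nat.prime_two).1 (hp.dvd_of_dvd_pow (n := 2) e))) a1).elim h.2.1

theorem orderOf_yz {b : K} (h : b ≠ 0) : orderOf (S.y 0 b 0 * S.z) = 6 := by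
  rw [(S.y_comm_z b).orderOf_mul_eq_mul_orderOf_of_coprime, S.orderOf_y0 (by simp [h]), orderOf_z]
  rw [S.orderOf_y0 (by simp [h]), orderOf_z]; decide

variable {S} in
theorem pow_E {x : Γ} (hx : x ∈ S.E) : orderOf x ∣ 2 * bb K := orderOf_dvd_of_pow_eq_one (by rw [pow_mul, pow_bb (sq_mem_A hx)])

variable {S} in
theorem pow_H {x : Γ} (hx : x ∈ S.H) : orderOf x ∣ Fintype.card K - 1 := S.card_H ▸ orderOf_dvd_natCard _ hx

/-- the types of elements -/
theorem cases {x : Γ} (h1 : x ≠ 1) : orderOf x = 2 ∨ ((orderOf x = 3 ∨ orderOf x = 9) ∧ ∃ g, g * x * g⁻¹ ∈ S.U) ∨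
    (orderOf x = 6 ∧ ∃ g b, b ≠ 0 ∧ g * x * g⁻¹ = S.y 0 b 0 * S.z) ∨
    ((2 < orderOf x ∧ orderOf x ∣ Fintype.card K - 1) ∧ ∃ g, g * x * g⁻¹ ∈ S.H) ∨
    ((2 < orderOf x ∧ orderOf x ∣ 2 * bb K) ∧ ∃ g, g * x * g⁻¹ ∈ S.E) ∨
    ((1 < orderOf x ∧ orderOf x ∣ cc K) ∧ Nat.card (centralizer {x}) ∣ cc K) := by
  have h2 := orderOf_pos x
  have h3 := orderOf_eq_one_iff.not.2 h1
  refine or_iff_not_imp_left.2 fun h4 => ?_
  rcases S.tri x with ⟨g, h⟩ | ⟨g, h⟩ | h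
  · rw [← orderOf_conj g] at h3 h4 ⊢
    rcases B_cases h with ⟨t, u, v, e⟩ | ⟨a, -, b, e⟩ | ⟨a, -, s, -, -, e⟩
    · refine .inl ⟨?_, g, t, u, v, e⟩
      rw [e] at h3 ⊢
      by_cases h : t = 0
      · exact .inl (h ▸ S.orderOf_y0 fun e => h3 (by simp [h, e.1, e.2]))
      · exact .inr (S.orderOf_y h u v)
    · have : b ≠ 0 := by rintro rfl; exact h4 (by simp [e, orderOf_conj, orderOf_z])
      exact .inr (.inl ⟨by rw [e, orderOf_conj, S.orderOf_yz this], a⁻¹ * g, b, this, by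
        simpa [mul_assoc] using congrArg (a⁻¹ * · * a) e⟩)
    · exact .inr (.inr (.inl ⟨⟨by rw [orderOf_conj] at *; omega, by rw [e, orderOf_conj]; exact pow_H (S.d_mem s)⟩,
        a⁻¹ * g, s, by simpa [mul_assoc] using congrArg (a⁻¹ * · * a) e.symm⟩))
  · exact .inr (.inr (.inr (.inl ⟨⟨by omega, orderOf_conj g x ▸ pow_E h⟩, g, h⟩)))
  · exact .inr (.inr (.inr (.inr ⟨⟨by omega, (orderOf_dvd_cent x).trans h⟩, h⟩)))

include S in
theorem arith {n : ℕ} : (n ∣ Fintype.card K - 1 → ¬ 3 ∣ n) ∧ (n ∣ 2 * bb K → ¬ 3 ∣ n) ∧ (n ∣ cc K → ¬ 3 ∣ n ∧ ¬ 2 ∣ n) ∧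
    (n ∣ Fintype.card K - 1 → n ∣ 2 * bb K → n ≤ 2) ∧ (n ∣ Fintype.card K - 1 → n ∣ cc K → n = 1) ∧
    (n ∣ 2 * bb K → n ∣ cc K → n = 1) := by
  have h := S.coprime_cc
  obtain ⟨k, h1, h2, h3⟩ := S.exists_k
  refine ⟨fun a b => ?_, fun a b => ?_, fun a => ⟨fun b => ?_, fun b => ?_⟩, fun a b => Nat.le_of_dvd two_pos ?_,
    fun a b => Nat.eq_one_of_dvd_coprimes h b ((a.mul_left _).mul_right _),
    fun a b => Nat.eq_one_of_dvd_coprimes h b ((a.trans ⟨2, by omega⟩).mul_left _)⟩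
  iterate 4 have := b.trans a; omega
  exact (Nat.dvd_add_right a).1 (b.trans ⟨2, by omega⟩)

theorem conj_U {x : Γ} (h : orderOf x = 3 ∨ orderOf x = 9) : ∃ g, g * x * g⁻¹ ∈ S.U :=
  S.exists_U_of_pow (k := 2) (orderOf_dvd_iff_pow_eq_one.1 (by rcases h with h | h <;> simp [h]))

theorem conj_six {x : Γ} (h : orderOf x = 6) : ∃ g b, b ≠ 0 ∧ g * x * g⁻¹ = S.y 0 b 0 * S.z := by
  have := S.arith (n := orderOf x)
  rcases S.cases (x := x) (by rintro rfl; simp at h) with e | e | e | e | e | e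
  any_goals omega
  exact e.2

theorem conj_H {x : Γ} (h : orderOf x ∣ Fintype.card K - 1) : ∃ g, g * x * g⁻¹ ∈ S.H := by
  have := S.arith (n := orderOf x)
  by_cases h1 : x = 1
  · exact ⟨1, by simp [h1]⟩
  rcases S.cases h1 with e | e | e | e | e | e
  any_goals omega
  exacts [let ⟨g, e⟩ := isConj_iff.1 (S.isConj_z e).symm; ⟨g, -1, e.symm⟩, e.2]

theorem conj_E {x : Γ} (h : orderOf x ∣ 2 * bb K) : ∃ g, g * x * g⁻¹ ∈ S.E := by
  have := S.arith (n := orderOf x)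
  by_cases h1 : x = 1
  · exact ⟨1, by simp [h1]⟩
  rcases S.cases h1 with e | e | e | e | e | e
  any_goals omega
  exacts [let ⟨g, e⟩ := isConj_iff.1 (S.isConj_z e).symm; ⟨g, e ▸ S.z_mem_lift _⟩, e.2]

theorem conj_A {x : Γ} (h : orderOf x ∣ bb K) : ∃ g, g * x * g⁻¹ ∈ S.A :=
  (S.conj_E (h.mul_left 2)).imp fun g e => mem_A.2 ⟨e, by rw [conj_pow, orderOf_dvd_iff_pow_eq_one.1 h]; simp⟩

include S in
theorem cent_dvd {x : Γ} (h1 : x ≠ 1) (h : orderOf x ∣ cc K) : Nat.card (centralizer {x}) ∣ cc K := by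
  have := S.arith (n := orderOf x)
  rcases S.cases h1 with e | e | e | e | e | e
  any_goals omega

/-- the normaliser of the torus -/
def NH : Subgroup Γ := normalizer (S.H : Set Γ)

variable {S} in
theorem ne_of_order {s : Kˣ} (h : 2 < orderOf (S.d s)) : s ≠ 1 ∧ s ≠ -1 :=
  ⟨by rintro rfl; simp at h, by rintro rfl; exact absurd S.orderOf_z h.ne'⟩

variable {S} in
theorem ti_H {a : Γ} (ha : a ∈ S.H) (h : 2 < orderOf a) {x : Γ} : x * a * x⁻¹ ∈ S.H ↔ x ∈ S.H ∨ x * S.w ∈ S.H := by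
  obtain ⟨s, rfl⟩ := ha
  exact ⟨mem_NH (ne_of_order h).1 (ne_of_order h).2, fun e => (conj_mem_H e (S.d_mem s)).elim (fun e => by rw [e]; exact S.d_mem s)
    (fun e => by rw [e]; exact inv_mem (S.d_mem s))⟩

theorem normalizer_sub_H {A₀ : Subgroup Γ} (h : A₀ ≤ S.H) {a : Γ} (ha : a ∈ A₀) (h2 : 2 < orderOf a) {x : Γ} :
    x ∈ normalizer (A₀ : Set Γ) ↔ x ∈ S.H ∨ x * S.w ∈ S.H :=
  ⟨fun e => (ti_H (h ha) h2).1 (h (conj_mem_of_mem_normalizer e ha)), fun e => mem_normalizer_of_conj_mem fun _ hy =>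
    (conj_mem_H e (h hy)).elim (fun e => by rwa [e]) (fun e => by rw [e]; exact inv_mem hy)⟩

theorem count_H (P : ℕ → Prop) (h : ∀ n, P n → 2 < n ∧ n ∣ Fintype.card K - 1) :
    2 * Nat.card {g : Γ // P (orderOf g)} =
      Fintype.card K ^ 3 * (Fintype.card K ^ 3 + 1) * Nat.card {a // a ∈ S.H ∧ P (orderOf a)} := by
  by_cases e : ∃ a ∈ S.H, P (orderOf a)
  · obtain ⟨a, h1, h2⟩ := e
    have := count_of_ti (N := S.NH) P (fun g hg => S.conj_H (h _ hg).2) fun b hb h3 x =>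
      (ti_H hb (h _ h3).1).trans (S.normalizer_sub_H le_rfl h1 (h _ h2).1).symm
    rw [show Nat.card S.NH = _ from (cnt_congr fun _ => S.normalizer_sub_H le_rfl h1 (h _ h2).1).trans S.card_NH',
      S.card_eq] at this
    exact Nat.eq_of_mul_eq_mul_right (m := Fintype.card K - 1) (by have := S.q_mod; omega) (by linear_combination this)
  · rw [cnt_eq_zero (p := fun a => a ∈ S.H ∧ _) fun a ha => e ⟨a, ha⟩, cnt_eq_zero fun g hg =>
      let ⟨x, hx⟩ := S.conj_H (h _ hg).2; e ⟨_, hx, by rwa [orderOf_conj]⟩]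
    rfl

theorem count_E (P : ℕ → Prop) (h : ∀ n, P n → 2 < n ∧ n ∣ 2 * bb K) :
    6 * Nat.card {g : Γ // P (orderOf g)} =
      Fintype.card K ^ 3 * (Fintype.card K - 1) * cc K * Nat.card {a // a ∈ S.E ∧ P (orderOf a)} := by
  have h0 : ∀ a : Γ, P (orderOf a) → a * a ≠ 1 := fun a ha e => by
    have := Nat.le_of_dvd two_pos (orderOf_dvd_of_pow_eq_one (by rwa [sq] : a ^ 2 = 1))
    have := (h _ ha).1
    omega
  by_cases e : ∃ a ∈ S.E, P (orderOf a)
  · obtain ⟨a, h1, h2⟩ := e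
    have := count_of_ti (N := normalizer (S.E : Set Γ)) P (fun g hg => S.conj_E (h _ hg).2) fun b hb h3 x =>
      ⟨ti_E hb (h0 _ h3), fun e => conj_mem_of_mem_normalizer e hb⟩
    rw [show normalizer (S.E : Set Γ) = normalizer (S.V : Set Γ) from le_antisymm NE_le fun g hg =>
      ti_A (sq_mem_A h1) (by rw [sq]; exact h0 _ h2) (conj_mem_of_mem_normalizer (NV_le hg) (sq_mem_A h1)),
      card_NV, S.card_eq'] at this
    exact Nat.eq_of_mul_eq_mul_right (m := Fintype.card K + 1) (by omega) (by linear_combination this)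
  · rw [cnt_eq_zero (p := fun a => a ∈ S.E ∧ _) fun a ha => e ⟨a, ha⟩, cnt_eq_zero fun g hg =>
      let ⟨x, hx⟩ := S.conj_E (h _ hg).2; e ⟨_, hx, by rwa [orderOf_conj]⟩]
    rfl

theorem count_U (P : ℕ → Prop) (h : ∀ n, P n → n = 3 ∨ n = 9) :
    Nat.card {g : Γ // P (orderOf g)} = (Fintype.card K ^ 3 + 1) * Nat.card {a // a ∈ S.U ∧ P (orderOf a)} := by
  have := count_of_ti (N := S.B) P (fun g hg => S.conj_U (h _ hg)) fun b hb h3 x =>
    ⟨fun e => mem_B_of_conj hb (by rintro rfl; simpa using h _ h3) (S.U_le_B e), fun e => S.conj_mem_U e hb⟩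
  rw [← S.B.card_mul_index, index_B] at this
  exact Nat.eq_of_mul_eq_mul_right (m := Nat.card S.B) Nat.card_pos (by linear_combination this)

theorem mem_BC {g : Γ} : g ∈ S.B ⊓ centralizer {S.z} ↔ ∃ u s, g = S.y 0 u 0 * S.d s := by
  refine ⟨fun ⟨⟨t, u, v, s, e⟩, hg⟩ => ?_, ?_⟩
  · subst e
    have h1 := mem_centralizer_singleton_iff.1 ((mul_mem_cancel_right (mem_centralizer_singleton_iff.2 (S.d_comm_z s))).1 hg)
    rw [eq_comm, ← mul_inv_eq_iff_eq_mul, z, S.d_conj] at h1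
    obtain ⟨rfl, rfl, -⟩ := d_fix S.neg_ne (S.inj h1)
    exact ⟨u, s, rfl⟩
  · rintro ⟨u, s, rfl⟩
    exact ⟨⟨_, _, _, _, rfl⟩, mem_centralizer_singleton_iff.2 ((S.y_comm_z u).mul_left (S.d_comm_z s))⟩

theorem card_BC : Nat.card (S.B ⊓ centralizer {S.z} : Subgroup Γ) = Fintype.card K * (Fintype.card K - 1) := by
  rw [show Fintype.card K * (Fintype.card K - 1) = Nat.card (K × Kˣ) by simp [Nat.card_units], ← cnt_true (α := K × Kˣ)]
  exact (cnt_eq_of_bij (fun p : K × Kˣ => S.y 0 p.1 0 * S.d p.2) (fun p _ => S.mem_BC.2 ⟨_, _, rfl⟩)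
    (fun p p' _ _ e => Prod.ext (S.eq_of_yd e).1.2.1 (S.eq_of_yd e).2)
    fun g hg => let ⟨u, s, e⟩ := S.mem_BC.1 hg; ⟨(u, s), trivial, e.symm⟩).symm

include S in
theorem count_six : Nat.card {g : Γ // orderOf g = 6} = Fintype.card K ^ 2 * (Fintype.card K - 1) * (Fintype.card K ^ 3 + 1) := by
  have h1 : ∀ b, (S.y 0 b 0 * S.z) ^ 3 = S.z := fun b => by
    rw [(S.y_comm_z b).mul_pow, y_cube, pow_three, z_z]; simp
  have := ti_count (p := fun a => ∃ b, b ≠ 0 ∧ a = S.y 0 b 0 * S.z) (N := S.B ⊓ centralizer {S.z}) (by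
    rintro _ ⟨b, hb, rfl⟩ x
    refine ⟨fun ⟨b', _, e⟩ => ?_, fun h => ?_⟩
    · have h2 := congrArg (· ^ 3) e
      simp only [conj_pow, h1] at h2
      rw [← conj_mul, h2, mul_left_inj] at e
      exact ⟨mem_B_of_conj (S.y_mem ..) (by simp [y_eq_one, hb]) (e ▸ S.y_mem_B ..),
        mem_centralizer_singleton_iff.2 (mul_inv_eq_iff_eq_mul.1 h2)⟩
    · obtain ⟨u, s, rfl⟩ := S.mem_BC.1 h
      refine ⟨s * S.τ s * b, by simp [hb], ?_⟩
      rw [← conj_mul, mem_centralizer_singleton_iff.1 h.2, mul_inv_cancel_right, mul_left_inj, mul_inv_rev, ← mul_assoc,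
        mul_assoc (S.y ..), mul_assoc (S.y ..), S.d_conj]
      simp [S.y_inv, S.y_mul])
  rw [card_BC, S.card_eq, ← cnt_eq_of_bij (p := fun b : K => True ∧ b ≠ 0)
    (q := fun a => ∃ b, b ≠ 0 ∧ a = S.y 0 b 0 * S.z) (fun b => S.y 0 b 0 * S.z)
    (fun b h => ⟨b, h.2, rfl⟩) (fun _ _ _ _ e => (S.inj (mul_right_cancel e)).2.1) (fun _ ⟨b, h, e⟩ => ⟨b, ⟨trivial, h⟩, e.symm⟩),
    ← cnt_congr (p := fun g => orderOf g = 6) fun g => ⟨S.conj_six, fun ⟨x, b, h, e⟩ => by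
      rw [← orderOf_conj x, e, S.orderOf_yz h]⟩] at this
  have h2 := cnt_erase (p := fun _ : K => True) (a := 0) trivial
  rw [cnt_true, Nat.card_eq_fintype_card (α := K)] at h2
  rw [Nat.eq_sub_of_add_eq h2] at this
  exact Nat.eq_of_mul_eq_mul_right (m := Fintype.card K * (Fintype.card K - 1))
    (by have := S.q_mod; exact mul_pos (by omega) (by omega)) (by linear_combination this)

theorem card_gt_two {A : Subgroup Γ} : Nat.card {a // a ∈ A ∧ 2 < orderOf a} + Nat.card {a // a ∈ A ∧ a * a = 1} = Nat.card A := by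
  rw [cnt_split (· ∈ A) (fun a => 2 < orderOf a)]
  congr 1
  refine cnt_congr fun a => and_congr_right fun _ => ?_
  rw [← sq, ← orderOf_dvd_iff_pow_eq_one, Nat.dvd_prime Nat.prime_two]
  have := orderOf_pos a
  omega

include S in
theorem count_cc : 3 * Nat.card {g : Γ // 1 < orderOf g ∧ orderOf g ∣ cc K} =
    Fintype.card K ^ 4 * (Fintype.card K - 2) * (Fintype.card K - 1) * (Fintype.card K + 1) := by
  have a := fun n => S.arith (n := n)
  have h0 : Nat.card Γ = Nat.card {g : Γ // (((((orderOf g = 2 ∨ (orderOf g = 3 ∨ orderOf g = 9)) ∨ orderOf g = 6) ∨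
      (2 < orderOf g ∧ orderOf g ∣ Fintype.card K - 1)) ∨ (2 < orderOf g ∧ orderOf g ∣ 2 * bb K)) ∨
      (1 < orderOf g ∧ orderOf g ∣ cc K)) ∨ g = 1} := by
    rw [← cnt_true (α := Γ)]
    exact cnt_congr fun g => ⟨fun _ => or_iff_not_imp_right.2 fun h => by have := S.cases h; tauto, fun _ => trivial⟩
  rw [cnt_insert (by simp), cnt_or fun g => by have := a (orderOf g); omega, cnt_or fun g => by have := a (orderOf g); omega,
    cnt_or fun g => by have := a (orderOf g); omega, cnt_or fun g => by omega, cnt_or fun g => by omega,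
    cnt_or fun g => by omega, S.card_invol, S.count_six, S.count_U (· = 3) fun _ => .inl, S.count_U (· = 9) fun _ => .inr,
    card_three, card_nine, S.card_eq, ← cc] at h0
  have h1 := S.count_H (fun n => 2 < n ∧ n ∣ Fintype.card K - 1) fun _ => id
  have h2 := S.count_E (fun n => 2 < n ∧ n ∣ 2 * bb K) fun _ => id
  have h3 := card_gt_two (A := S.H)
  have h4 := card_gt_two (A := S.E)
  rw [cnt_congr (p := fun a => a ∈ S.H ∧ _) (q := fun a => a ∈ S.H ∧ 2 < orderOf a) fun a => ⟨fun h => ⟨h.1, h.2.1⟩, fun h => ⟨h.1, h.2, pow_H h.1⟩⟩] at h1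
  rw [cnt_congr (p := fun a => a ∈ S.E ∧ _) (q := fun a => a ∈ S.E ∧ 2 < orderOf a) fun a => ⟨fun h => ⟨h.1, h.2.1⟩, fun h => ⟨h.1, h.2, pow_E h.1⟩⟩] at h2
  rw [card_H, cnt_eq_two (p := fun a => a ∈ S.H ∧ a * a = 1) S.z_ne.symm fun x => ⟨?_, ?_⟩] at h3
  · rw [card_E, ← cnt_congr fun _ => mem_V', S.card_V] at h4
    generalize Nat.card {g : Γ // 1 < orderOf g ∧ orderOf g ∣ cc K} = n0 at *
    generalize Nat.card {g : Γ // 2 < orderOf g ∧ orderOf g ∣ Fintype.card K - 1} = n1 at *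
    generalize Nat.card {g : Γ // 2 < orderOf g ∧ orderOf g ∣ 2 * bb K} = n2 at *
    generalize Nat.card {a // a ∈ S.H ∧ 2 < orderOf a} = n3 at *
    generalize Nat.card {a // a ∈ S.E ∧ 2 < orderOf a} = n4 at *
    clear a
    obtain ⟨k, e1, -, e2⟩ := S.exists_k
    rw [e2] at h0 h2
    rw [e1] at h0 h1 h2 h3 h4 ⊢
    simp only [show 24 * k + 3 - 1 = 24 * k + 2 from rfl, show 24 * k + 3 - 2 = 24 * k + 1 from rfl,
      show (24 * k + 3) ^ 2 - 1 = 576 * k ^ 2 + 144 * k + 8 by rw [Nat.sub_eq_iff_eq_add (Nat.one_le_pow _ _ (by omega))]; ring] at *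
    obtain rfl : n3 = 24 * k := by omega
    obtain rfl : n4 = 24 * k := by omega
    zify at *
    refine mul_left_cancel₀ two_ne_zero ?_
    linear_combination -6 * h0 - 3 * h1 - h2
  · rintro ⟨⟨s, rfl⟩, e⟩
    rw [← map_mul, ← map_one S.d, S.d_inj.eq_iff, Units.ext_iff, Units.val_mul, Units.val_one, mul_self_eq_one_iff] at e
    exact e.imp (fun e => by rw [show s = 1 from Units.ext e, map_one]) fun e => congrArg _ (Units.ext e)
  · rintro (rfl | rfl)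
    exacts [⟨one_mem _, mul_one _⟩, ⟨S.d_mem _, S.z_z⟩]

end ReeS
end Cfsg.Agent.Ree
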