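import Cfsg.Agent.Lib.Ree.App
import Cfsg.Agent.Lib.Sz.App

set_option autoImplicit false
set_option linter.unusedSectionVars false
set_option linter.style.haveILetI false

/-! Groups with the spectrum of the cube of a small Ree group. -/

namespace Cfsg.Agent.Ree

open Perm.GL2 MulAction Subgroup Transfer Suz Matrix

section Aff
variable {K V Y ι : Type*} [Field K] [AddCommGroup V] [Module K V] [Group Y] (T : Y →* Module.End K V)

/-- a permutation with the given linear part -/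
def Lin (f : Equiv.Perm (ι → V)) (p : Y) : Prop := ∃ c : ι → V, ∀ v i, f v i = T p (v i) + c i

variable (ι) in
/-- the group of affine permutations -/
def Aff : Subgroup (Equiv.Perm (ι → V)) where
  carrier := {f | ∃ p, Lin T f p}
  one_mem' := ⟨1, 0, by simp⟩
  mul_mem' := by
    rintro f g ⟨p, c, h⟩ ⟨p', c', h'⟩
    exact ⟨p * p', fun i => T p (c' i) + c i, by simp [h, h', add_assoc]⟩
  inv_mem' := by
    rintro f ⟨p, c, h⟩
    refine ⟨p⁻¹, fun i => -T p⁻¹ (c i), fun v i => ?_⟩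
    obtain ⟨v, rfl⟩ := f.surjective v
    simp [h, ← Module.End.mul_apply, ← map_mul]

/-- an affine permutation -/
def aff (p : Y) (c : ι → V) : Equiv.Perm (ι → V) where
  toFun v i := T p (v i) + c i
  invFun v i := T p⁻¹ (v i - c i)
  left_inv v := by simp [← Module.End.mul_apply, ← map_mul]
  right_inv v := by simp [← Module.End.mul_apply, ← map_mul, -map_sub]

theorem lin_aff (p : Y) (c : ι → V) : Lin T (aff T p c) p := ⟨c, fun _ _ => rfl⟩

variable {T} {f : Equiv.Perm (ι → V)} {p : Y}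

theorem Lin.pow (h : Lin T f p) (n : ℕ) : Lin T (f ^ n) (p ^ n) := by
  obtain ⟨c, h⟩ := h
  induction n with
  | zero => exact ⟨0, by simp⟩
  | succ n ih =>
    obtain ⟨c', h'⟩ := ih
    exact ⟨fun i => T (p ^ n) (c i) + c' i, by simp [pow_succ, h, h', add_assoc, -map_pow]⟩

theorem Lin.cube (h3 : (3 : K) = 0) (h : Lin T f p) (e : T p = 1) : f ^ 3 = 1 := by
  obtain ⟨c, h⟩ := h
  ext v i
  have := congrArg (· • c i) h3
  simp only [show (3 : K) = 1 + 1 + 1 by norm_num, add_smul, one_smul, zero_smul] at this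
  simp [pow_three, h, e, add_assoc, ← this]

theorem Lin.sq (h : Lin T f p) (e : T p = -1) : f ^ 2 = 1 := by
  obtain ⟨c, h⟩ := h
  ext v i
  simp [pow_two, h, e]

theorem Lin.fpf [FiniteDimensional K V] (h : Lin T f p) (e : ∀ v, T p v = v → v = 0) {n : ℕ} (hn : T (p ^ n) = 1) :
    f ^ n = 1 := by
  obtain ⟨c', h'⟩ := h.pow n
  obtain ⟨c, h⟩ := h
  have : Function.Surjective (1 - T p : Module.End K V) := LinearMap.injective_iff_surjective.1
    ((injective_iff_map_eq_zero _).2 fun v hv => e v (sub_eq_zero.1 hv).symm)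
  choose v hv using fun i => this (c i)
  have h1 : f v = v := funext fun i => by simp [h, ← hv]
  ext w i
  have := h' v i
  rw [Equiv.Perm.pow_apply_eq_self_of_apply_eq_self h1] at this
  simpa [h', hn] using this

theorem aff_pow [Nonempty ι] {n : ℕ} : aff T p (0 : ι → V) ^ n = 1 ↔ T (p ^ n) = 1 := by
  obtain ⟨c, h⟩ := (lin_aff T p (0 : ι → V)).pow n
  have h1 := fun i => h 0 i
  rw [Equiv.Perm.pow_apply_eq_self_of_apply_eq_self (by ext; simp [aff])] at h1
  simp only [Pi.zero_apply, map_zero, zero_add] at h1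
  refine ⟨fun e => LinearMap.ext fun v => ?_, fun e => Equiv.ext fun v => funext fun i => by simp [h, e, ← h1]⟩
  simpa [e, ← h1] using (h (fun _ => v) (Classical.arbitrary ι)).symm

end Aff

section Tw
variable (K : Type*) [Field K] [Fintype K] [CharP K 3]

/-- the Frobenius map -/
noncomputable def fr : SL2 K →* SL2 K := SpecialLinearGroup.map (frobenius K 3)

/-- the twisted tensor square, with a sign -/
noncomputable def tw : SL2 K × ℤˣ →* Module.End K (M2 K) where
  toFun p := p.2 • LinearMap.mulLeftRight K ((p.1 : M2 K), ((fr K p.1)⁻¹ : SL2 K))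
  map_one' := by ext X : 1; simp
  map_mul' p p' := by
    ext X : 1
    simp only [Prod.fst_mul, Prod.snd_mul, _root_.mul_inv_rev, map_mul, Matrix.SpecialLinearGroup.coe_mul, LinearMap.smul_apply,
      LinearMap.mulLeftRight_apply, Module.End.mul_apply, Units.smul_def, Units.val_mul, mul_smul, mul_smul_comm,
      smul_mul_assoc, Matrix.mul_assoc, map_zsmul, smul_comm (p.2 : ℤ)]

end Tw

namespace ReeS
variable {m : ℕ} {K : Type*} [Field K] [Fintype K] [CharP K 3] {Γ : Type*} [Group Γ] [Finite Γ] (S : ReeS m K Γ) (hm : 1 ≤ m)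

theorem tw_eq {p : SL2 K × ℤˣ} {X Y : M2 K} : tw K p X = Y ↔ p.2 • ((p.1 : M2 K) * X) = Y * (fr K p.1 : M2 K) := by
  constructor
  · rintro rfl
    simp [tw, Matrix.mul_assoc, -Matrix.SpecialLinearGroup.coe_inv, ← Matrix.SpecialLinearGroup.coe_mul]
  · intro h
    simpa [tw, Matrix.mul_assoc, -Matrix.SpecialLinearGroup.coe_inv, ← Matrix.SpecialLinearGroup.coe_mul] using
      congrArg (· * (((fr K p.1)⁻¹ : SL2 K) : M2 K)) h

theorem tw_neg (h : SL2 K) (e : ℤˣ) : tw K (-h, e) = tw K (h, e) := LinearMap.ext fun X => tw_eq.2 (by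
  have := (tw_eq (p := (h, e))).1 (rfl : tw K (h, e) X = _)
  rw [show (fr K (-h, e).1 : M2 K) = -(fr K h : M2 K) by ext; simp [fr], Matrix.mul_neg, ← this]
  simp)

theorem tw_one (e : ℤˣ) : tw K (1, e) = e • 1 := LinearMap.ext fun X => tw_eq.2 (by simp)

include S in
theorem tw_eq_one {p : SL2 K × ℤˣ} : tw K p = 1 ↔ S.φ p.1 = 1 ∧ p.2 = 1 := by
  obtain ⟨h, e⟩ := p
  rw [φ_eq_one]
  refine ⟨fun a => ?_, ?_⟩
  · have h1 := fun X => tw_eq.1 (LinearMap.congr_fun a X)
    have h2 : h = 1 ∨ h = -1 := isScal_SL_iff.1 (by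
      have h2 := h1 1
      simp only [Module.End.one_apply, Matrix.mul_one, Matrix.one_mul] at h1 h2
      simp only [← h2, Matrix.mul_smul, smul_left_cancel_iff] at h1
      have a := congrFun₂ (h1 !![0, 1; 0, 0])
      have b := congrFun₂ (h1 !![0, 0; 1, 0])
      exact ⟨by simpa [mul_apply] using b 0 0, by simpa [mul_apply] using (a 0 0).symm, by simpa [mul_apply] using a 0 1⟩)
    refine ⟨h2, (Int.units_eq_one_or e).resolve_right ?_⟩
    rintro rfl
    have : tw K (1, -1) = 1 := by rcases h2 with rfl | rfl; exacts [a, (tw_neg ..).symm.trans a]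
    have := congrArg (fun f : Module.End K (M2 K) => f 1 0 0) ((tw_one _).symm.trans this)
    exact S.c2 (by simp at this; linear_combination -this)
  · rintro ⟨rfl | rfl, rfl⟩
    exacts [map_one _, (tw_neg ..).trans (map_one _)]

include S in
theorem lin_order {ι : Type*} {f : Equiv.Perm (ι → M2 K)} {p : SL2 K × ℤˣ} (h : Lin (tw K) f p) :
    orderOf f ∣ 6 ∨ orderOf f ∣ 9 ∨ orderOf f ∣ Fintype.card K - 1 ∨ orderOf f ∣ (Fintype.card K + 1) / 2 := by
  simp only [orderOf_dvd_iff_pow_eq_one]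
  by_cases h0 : ∀ X, tw K p X = X → X = 0
  · have : ∀ n, Even n → S.φ p.1 ^ n = 1 → f ^ n = 1 := fun n hn e =>
      h.fpf h0 (S.tw_eq_one.2 ⟨by simpa using e, by obtain ⟨k, rfl⟩ := hn; simp [← two_mul, pow_mul]⟩)
    have := S.q_mod
    rcases S.order_Cz (S.φ_comm_z p.1) with e | e | e
    exacts [.inl (by apply_assumption <;> [decide; exact e]), .inr (.inr (.inl (by apply_assumption <;> [grind; exact e]))),
      .inr (.inr (.inr (by apply_assumption <;> [grind; exact e])))]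
  push Not at h0
  obtain ⟨X, h1, h2⟩ := h0
  obtain ⟨g, e⟩ := p
  rw [tw_eq] at h1
  have ch : ∀ a : SL2 K, (a : M2 K) * (a : M2 K) = (a : M2 K).trace • (a : M2 K) - 1 := fun a => by
    have := a.2
    ext i j
    rw [det_fin_two] at this
    fin_cases i <;> fin_cases j <;> simp [mul_apply, trace_fin_two] <;> grind
  have h3 : (g : M2 K).trace = e • (g : M2 K).trace ^ 3 := by
    have a1 := congrArg (· * (fr K g : M2 K)) h1
    simp only [Matrix.mul_assoc, smul_mul_assoc, ch] at a1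
    rw [← h1, Matrix.mul_sub, Matrix.mul_smul, Matrix.mul_smul, ← h1, smul_smul, Int.units_mul_self, one_smul, ← Matrix.mul_assoc,
      ch, Matrix.sub_mul, Matrix.one_mul, Matrix.mul_one, sub_left_inj, smul_mul_assoc, smul_comm, ← smul_assoc,
      ← sub_eq_zero, ← sub_smul, smul_eq_zero, sub_eq_zero] at a1
    refine (a1.resolve_right fun a => h2 ?_).trans (by simp [fr, trace_fin_two, frobenius_def, add_pow_char])
    simpa [← Matrix.mul_assoc, ← Matrix.SpecialLinearGroup.coe_mul, -Matrix.SpecialLinearGroup.coe_inv] using congrArg (((g⁻¹ : SL2 K) : M2 K) * ·) a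
  by_cases h4 : (g : M2 K).trace = 0
  · refine .inl (by
      rw [show 6 = 2 * 3 from rfl, pow_mul]
      refine (h.pow 2).cube S.c3 (S.tw_eq_one.2 ⟨S.φ_eq_one.2 (.inr (Subtype.ext ?_)), Int.units_sq _⟩)
      simp [sq, ch, h4])
  have h5 : (g : M2 K).trace ^ 2 = 1 := by
    rcases (Int.units_eq_one_or e) with rfl | rfl
    · simp at h3; grind
    · have a1 : (g : M2 K).trace ^ 2 = -1 := by simp at h3; grind
      have a2 := FiniteField.pow_card_sub_one_eq_one _ h4
      obtain ⟨k, hk, -⟩ := S.exists_k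
      rw [hk, show 24 * k + 3 - 1 = 2 * (2 * (6 * k) + 1) by omega, pow_mul, a1, pow_succ, pow_mul] at a2
      exact absurd (by simp at a2; linear_combination -a2) S.c2
  have h6 : S.φ (g ^ 3) = 1 := S.φ_eq_one.2 (by
    have : ((g ^ 3 : SL2 K) : M2 K) = -(g : M2 K).trace • (1 : M2 K) := by
      rw [pow_succ, sq, Matrix.SpecialLinearGroup.coe_mul, Matrix.SpecialLinearGroup.coe_mul, ch, Matrix.sub_mul, smul_mul_assoc, ch, smul_sub,
        smul_smul, ← sq, h5]
      simp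
    exact (mul_self_eq_one_iff.1 (sq (g : M2 K).trace ▸ h5)).symm.imp (fun e => Subtype.ext (by simp [this, e])) fun e => Subtype.ext (by simp [this, e]))
  rcases (Int.units_eq_one_or e) with rfl | rfl
  · exact .inr (.inl (by
      rw [show 9 = 3 * 3 from rfl, pow_mul]; exact (h.pow 3).cube S.c3 (S.tw_eq_one.2 ⟨h6, by simp⟩)))
  · refine .inl (by
      rw [show 6 = 3 * 2 from rfl, pow_mul]
      refine (h.pow 3).sq ?_
      rw [show (g, (-1 : ℤˣ)) ^ 3 = (g ^ 3, 1) * (1, -1) by simp; decide, map_mul, S.tw_eq_one.2 ⟨h6, rfl⟩, tw_one]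
      simp)

theorem exists_aff {ι : Type*} [Nonempty ι] {g : Γ} (h : g * S.z = S.z * g) : ∃ f : Aff ι (tw K), orderOf f = orderOf g := by
  obtain ⟨k, rfl | rfl⟩ := exists_φ h
  · exact ⟨⟨aff _ (k, 1) 0, _, lin_aff ..⟩, (orderOf_mk ..).trans (orderOf_eq_orderOf_iff.2 fun n => by
      simp [aff_pow, S.tw_eq_one])⟩
  · refine ⟨⟨aff _ (k, -1) 0, _, lin_aff ..⟩, (orderOf_mk ..).trans (orderOf_eq_orderOf_iff.2 fun n => ?_)⟩
    rw [aff_pow, S.tw_eq_one, (S.φ_comm_z k).mul_pow, ← map_pow]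
    obtain ⟨n, rfl | rfl⟩ := n.even_or_odd'
    · simp [pow_mul S.z, sq, z_z, pow_mul (-1 : ℤˣ)]
    · simpa [pow_succ S.z, pow_mul S.z, sq, z_z, pow_succ (-1 : ℤˣ), pow_mul (-1 : ℤˣ), mul_eq_one_iff_eq_inv, z_inv, -map_pow]
        using S.φ_ne_z _

include S in
theorem exists_nine {ι : Type*} [Nonempty ι] : ∃ f : Aff ι (tw K), orderOf f = 9 := by
  haveI : Fact (Nat.Prime 3) := ⟨Nat.prime_three⟩
  have h1 : ∀ a b c d : K, tw K (upS 1 1, 1) !![a, b; c, d] = !![a + c, b + d - a - c; c, d - c] := fun a b c d =>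
    tw_eq.2 (by ext i j; fin_cases i <;> fin_cases j <;> simp [fr, mul_apply] <;> ring)
  refine ⟨⟨aff _ (upS 1 1, 1) fun _ => !![0, 0; 1, 0], _, lin_aff ..⟩, (orderOf_mk ..).trans
    (orderOf_eq_prime_pow (p := 3) (n := 1) (fun e => ?_) ?_)⟩
  · have := congrFun₂ (congrFun (congrArg (· 0) e) (Classical.arbitrary ι)) 0 1
    simp [pow_three, aff, h1] at this
    exact S.c2 (by linear_combination -this - S.c3)
  · rw [pow_succ, pow_mul, pow_one]
    exact ((lin_aff ..).pow 3).cube S.c3 (S.tw_eq_one.2 ⟨by simp [S.φ_u, y_cube], by simp⟩)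

include S in
theorem exists_aff_order {ι : Type*} [Nonempty ι] [Finite ι] (d : ℕ)
    (h : d ∣ 6 ∨ d ∣ 9 ∨ d ∣ Fintype.card K - 1 ∨ d ∣ (Fintype.card K + 1) / 2) : ∃ f : Aff ι (tw K), orderOf f = d := by
  obtain ⟨f, h⟩ : ∃ f : Aff ι (tw K), d ∣ orderOf f := by
    rcases h with h | h | h | h
    · exact (S.exists_aff ((S.y_comm_z 1).mul_left (.refl _))).imp fun _ e => by rwa [e, S.orderOf_yz one_ne_zero]
    · exact S.exists_nine.imp fun _ e => by rwa [e]
    · obtain ⟨_, ⟨s, rfl⟩, e'⟩ := exists_order_of_cyclic S.cyclic_H dvd_rfl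
      exact (S.exists_aff (S.d_comm_z s)).imp fun _ e => by rwa [e, e', card_H]
    · exact (S.exists_aff (S.φ_comm_z (e0 K))).imp fun _ e => by
        rwa [e, orderOf_φ_e0, show 2 * bb K = (Fintype.card K + 1) / 2 by have := S.four_bb; omega]
  exact (exists_order_of_cyclic (A := zpowers f) inferInstance (by rwa [Nat.card_zpowers])).imp fun _ => And.right

include S hm in
theorem mu_spec : ∃ (H : Type) (_ : Group H) (_ : Fintype H), (∃ P : Subgroup H, P.Normal ∧ P ≠ ⊥ ∧ IsPGroup 3 ↥P) ∧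
    {n : ℕ | n ∈ Set.range (orderOf : H → ℕ) ∧ ∀ m ∈ Set.range (orderOf : H → ℕ), n ∣ m → m = n} =
      ({6, 9, Fintype.card K - 1, (Fintype.card K + 1) / 2} : Set ℕ) := by
  obtain ⟨H, _, _, ⟨e⟩⟩ := exists_type0 (Aff Unit (tw K))
  refine ⟨H, inferInstance, inferInstance, ?_, ?_⟩
  · let P : Subgroup (Aff Unit (tw K)) :=
      { carrier := {f | ∃ c, ∀ v, f.1 v = v + c}
        one_mem' := ⟨0, by simp⟩
        mul_mem' := by
          rintro f g ⟨c, h⟩ ⟨c', h'⟩
          exact ⟨c' + c, by simp [h, h', add_assoc]⟩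
        inv_mem' := by
          rintro f ⟨c, h⟩
          refine ⟨-c, fun v => ?_⟩
          obtain ⟨v, rfl⟩ := f.1.surjective v
          simp [Equiv.symm_apply_eq, h] }
    haveI : P.Normal := ⟨by
      rintro f ⟨c, h⟩ ⟨g, p, c', h'⟩
      refine ⟨fun i => tw K p (c i), fun v => ?_⟩
      obtain ⟨v, rfl⟩ := g.surjective v
      ext1 i
      simp [h, h', add_right_comm]⟩
    refine ⟨P.comap e.toMonoidHom, inferInstance, fun h => ?_, IsPGroup.comap_of_injective ?_ _ e.injective⟩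
    · have : e.symm ⟨aff _ 1 1, _, lin_aff ..⟩ ∈ P.comap e.toMonoidHom := ⟨1, fun v => by ext1; simp [aff]⟩
      rw [h, mem_bot, map_eq_one_iff _ e.symm.injective] at this
      simpa [aff] using congrArg (·.1 0 ()) this
    · rintro ⟨f, c, h⟩
      refine ⟨1, Subtype.ext (Subtype.ext ?_)⟩
      exact Lin.cube (T := tw K) (p := 1) S.c3 ⟨c, by simp [h]⟩ (map_one _)
  rw [show (orderOf : H → ℕ) = orderOf ∘ e from funext fun x => (e.orderOf_eq x).symm, e.surjective.range_comp]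
  have h1 : ∀ d, d ∈ Set.range (orderOf : Aff Unit (tw K) → ℕ) ↔
      d ∣ 6 ∨ d ∣ 9 ∨ d ∣ Fintype.card K - 1 ∨ d ∣ (Fintype.card K + 1) / 2 := fun d =>
    ⟨by rintro ⟨f, rfl⟩; obtain ⟨p, h⟩ := f.2; rw [← orderOf_coe]; exact S.lin_order h, S.exists_aff_order d⟩
  obtain ⟨k, hk, -⟩ := S.exists_k
  have hk0 : 0 < k := by
    have := S.card
    have : 3 ^ 3 ≤ 3 ^ (2 * m + 1) := Nat.pow_le_pow_right (by omega) (by omega)
    omega
  simp only [h1, hk, show 24 * k + 3 - 1 = 24 * k + 2 by omega, show (24 * k + 3 + 1) / 2 = 12 * k + 2 by omega]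
  have h2 : ¬ 12 * k + 2 ∣ 24 * k + 2 := fun h => by
    have := Nat.le_of_dvd two_pos ((Nat.dvd_add_right h).1 (show _ ∣ 24 * k + 2 + 2 from ⟨2, by ring⟩))
    omega
  ext n
  simp only [Set.mem_ofPred_eq, Set.mem_insert_iff, Set.mem_singleton_iff]
  refine ⟨fun ⟨h, h'⟩ => ?_, fun h => ⟨by rcases h with rfl | rfl | rfl | rfl <;> simp, fun d hd h' => ?_⟩⟩
  · rcases h with h | h | h | h <;> have := h' _ (by simp) h <;> omega
  · rcases hd with hd | hd | hd | hd <;> have a1 := h'.trans hd <;> have a2 := Nat.le_of_dvd (by omega) a1 <;>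
      rcases h with rfl | rfl | rfl | rfl <;> first | exact Nat.dvd_antisymm hd h' | omega | exact absurd a1 h2

include S hm in
theorem cube_spec (N : ℕ) : ∃ (H : Type) (_ : Group H) (_ : Fintype H), N < Fintype.card H ∧
    Set.range (orderOf : H → ℕ) = Set.range (orderOf : Γ × Γ × Γ → ℕ) := by
  obtain ⟨H, _, _, ⟨e⟩⟩ := exists_type0 (Aff (Fin (N + 1)) (tw K) × Γ × Γ)
  refine ⟨H, inferInstance, inferInstance, ?_, ?_⟩
  · rw [← Nat.card_eq_fintype_card, Nat.card_congr e.toEquiv]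
    refine lt_of_lt_of_le ?_ (Nat.card_le_card_of_injective (fun c : Fin (N + 1) → M2 K => (⟨aff _ 1 c, _, lin_aff ..⟩, 1))
      fun c c' e => by simpa [aff] using congrArg (·.1.1 0) e)
    rw [Nat.card_fun, Nat.card_eq_fintype_card (α := Fin _), Fintype.card_fin]
    exact (Nat.lt_succ_self N).trans (Nat.lt_pow_self Finite.one_lt_card)
  rw [show (orderOf : H → ℕ) = orderOf ∘ e from funext fun x => (e.orderOf_eq x).symm, e.surjective.range_comp]
  have h1 := S.exists_aff_order (ι := Fin (N + 1))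
  refine Set.Subset.antisymm ?_ ?_
  · rintro _ ⟨⟨f, a⟩, rfl⟩
    obtain ⟨p, h⟩ := f.2
    obtain ⟨g, e⟩ := (S.orders hm (orderOf f)).2 (by have := S.lin_order h; rw [← orderOf_coe]; tauto)
    exact ⟨(g, a), by rw [Prod.orderOf, Prod.orderOf (α := Aff ..), e]⟩
  rintro _ ⟨⟨a, b, c⟩, rfl⟩
  simp only [Set.mem_range, Prod.exists, Prod.orderOf]
  have key : ∀ g : Γ, (∃ f : Aff (Fin (N + 1)) (tw K), orderOf f = orderOf g) ∨ orderOf g ∣ Fintype.card K - 3 ^ (m + 1) + 1 ∨
      orderOf g ∣ Fintype.card K + 3 ^ (m + 1) + 1 := fun g => by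
    have := (S.orders hm _).1 ⟨g, rfl⟩
    have := h1 (orderOf g)
    tauto
  have key2 : ∀ g g' : Γ, ∀ n, (n = Fintype.card K - 3 ^ (m + 1) + 1 ∨ n = Fintype.card K + 3 ^ (m + 1) + 1) → orderOf g ∣ n →
      orderOf g' ∣ n → ∃ x : Γ, orderOf x = (orderOf g).lcm (orderOf g') := fun g g' n h a b =>
    (S.orders hm _).2 (by have := Nat.lcm_dvd a b; rcases h with rfl | rfl <;> tauto)
  rcases key a with ⟨f, e⟩ | ha
  · exact ⟨f, b, c, by rw [e]⟩
  rcases key b with ⟨f, e⟩ | hb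
  · exact ⟨f, a, c, by rw [e, ← Nat.lcm_assoc, Nat.lcm_comm _ (orderOf a), Nat.lcm_assoc]⟩
  rcases key c with ⟨f, e⟩ | hc
  · exact ⟨f, a, b, by rw [e, Nat.lcm_comm, Nat.lcm_assoc]⟩
  obtain ⟨x, h⟩ | ⟨x, h⟩ | ⟨x, h⟩ : (∃ x : Γ, orderOf x = (orderOf a).lcm (orderOf b)) ∨
      (∃ x : Γ, orderOf x = (orderOf a).lcm (orderOf c)) ∨ ∃ x : Γ, orderOf x = (orderOf b).lcm (orderOf c) := by
    rcases ha with ha | ha <;> rcases hb with hb | hb <;> rcases hc with hc | hc
    all_goals first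
      | exact .inl (key2 _ _ _ (by simp) ha hb)
      | exact .inr (.inl (key2 _ _ _ (by simp) ha hc))
      | exact .inr (.inr (key2 _ _ _ (by simp) hb hc))
  exacts [⟨1, x, c, by simp [h, Nat.lcm_assoc]⟩, ⟨1, b, x, by
    rw [orderOf_one, Nat.lcm_one_left, h, ← Nat.lcm_assoc, Nat.lcm_comm _ (orderOf a), Nat.lcm_assoc]⟩, ⟨1, a, x, by simp [h]⟩]

end ReeS
end Cfsg.Agent.Ree
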