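import Cfsg.Agent.Lib.Chev.AutRee
import Cfsg.Agent.Lib.Chev.SL2
import Cfsg.Agent.Lib.Chev.Fix
import Cfsg.Agent.Lib.Perm.GL2h

set_option autoImplicit false
set_option linter.unusedSectionVars false
set_option linter.style.haveILetI false

/-! The data describing a small Ree group. -/

namespace Cfsg.Agent.Ree

open Cfsg.Lie Chev Checked Perm.GL2 Matrix

/-- the Weyl element of `SL₂` -/
def n0 (K : Type*) [Field K] : SL2 K := ⟨!![0, 1; -1, 0], by simp [det_fin_two]⟩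

/-- the data of a small Ree group -/
structure ReeS (m : ℕ) (K : Type*) [Field K] [Fintype K] (Γ : Type*) [Group Γ] where
  card : Fintype.card K = 3 ^ (2 * m + 1)
  τ : K →+* K
  ττ : ∀ t, τ (τ t) = t ^ 3
  y : K → K → K → Γ
  y_mul : ∀ t u v t' u' v', y t u v * y t' u' v' =
    y (t + t') (u + u' - t * τ t') (v + v' - u * t' + t * τ t' * t' - t ^ 2 * τ t')
  inj : ∀ {t u v t' u' v'}, y t u v = y t' u' v' → t = t' ∧ u = u' ∧ v = v'
  d : Kˣ →* Γ
  d_conj : ∀ s t u v, d s * y t u v * (d s)⁻¹ = y (s * t) (s * τ s * u) (s ^ 2 * τ s * v)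
  φ : SL2 K →* Γ
  φ_u : ∀ u, φ (upS 1 u) = y 0 u 0
  φ_t : ∀ c, ∃ s, φ (upS c 0) = d s
  φ_neg : φ (-1) = 1
  w_d : ∀ s, φ (n0 K) * d s * (φ (n0 K))⁻¹ = d s⁻¹
  bruhat : ∀ g, (∃ t u v s, g = y t u v * d s) ∨ ∃ t u v s t' u' v', g = y t u v * d s * φ (n0 K) * y t' u' v'
  ti : ∀ {t u v t' u' v' s}, φ (n0 K) * y t u v * (φ (n0 K))⁻¹ = y t' u' v' * d s → t = 0 ∧ u = 0 ∧ v = 0
  ρ : Γ →* Module.End K (Fin 7 → K)
  ρ_ne : ρ (d (-1)) ≠ 1
  simple : 1 ≤ m → IsSimpleGroup Γ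

section Rk1
variable {F : Type*} [Field F] {G : Type*} [Group G] (A B : Rk1 F G) (f : F →+* F)
  (h1 : ∀ t u, Commute (A.x t) (B.x u)) (h2 : ∀ t u, Commute (A.x t) (B.y u))
  (h3 : ∀ t u, Commute (A.y t) (B.x u)) (h4 : ∀ t u, Commute (A.y t) (B.y u))
include h1 h2 h3 h4

theorem rk_n (c d : Fˣ) : A.x c * B.x d * (A.y (-(c : F)⁻¹) * B.y (-(d : F)⁻¹)) * (A.x c * B.x d) = A.n c * B.n d :=
  (mul_aba (h1 _ _) (h2 _ _) (h3 _ _) (h4 _ _)).symm

theorem rk_comm (c d : Fˣ) : Commute (A.n c) (B.n d) :=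
  have : ∀ {a}, (∀ u, Commute a (B.x u)) → (∀ u, Commute a (B.y u)) → Commute a (B.n d) := fun h h' =>
    ((h _).mul_right (h' _)).mul_right (h _)
  ((this (h1 _) (h2 _)).mul_left (this (h3 _) (h4 _))).mul_left (this (h1 _) (h2 _))

/-- product of commuting rank one data -/
def rkProd : Rk1 F G where
  x t := A.x (f t) * B.x t
  y t := A.y (f t) * B.y t
  add_x t u := by rw [(h1 _ _).symm.mul_mul_mul_comm, A.add_x, B.add_x, map_add]
  add_y t u := by rw [(h4 _ _).symm.mul_mul_mul_comm, A.add_y, B.add_y, map_add]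
  nx c t := by
    have e := rk_n A B h1 h2 h3 h4 (Units.map (f : F →* F) c) c
    have a1 : Commute (B.n c) (A.x (f t)) := (((h1 _ _).mul_right (h2 _ _)).mul_right (h1 _ _)).symm
    have a2 : ∀ d u, Commute (A.n d) (B.y u) := fun d u => ((h2 _ _).mul_left (h4 _ _)).mul_left (h2 _ _)
    simp only [Units.coe_map, MonoidHom.coe_coe] at e
    rw [map_neg, map_inv₀, e, a1.mul_mul_mul_comm, A.n_x, B.n_x, (a2 _ _).mul_mul_mul_comm]
    simp

theorem rkProd_n (c : Fˣ) : (rkProd A B f h1 h2 h3 h4).n c = A.n (Units.map (f : F →* F) c) * B.n c := by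
  rw [← rk_n A B h1 h2 h3 h4]; simp [Rk1.n, rkProd]

theorem rkProd_h (c : Fˣ) : (rkProd A B f h1 h2 h3 h4).h c = A.h (Units.map (f : F →* F) c) * B.h c := by
  rw [Rk1.h, rkProd_n, rkProd_n, (rk_comm A B h1 h2 h3 h4 _ _).symm.mul_mul_mul_comm,
    show Units.map (f : F →* F) (-1) = -1 from Units.ext (by simp)]
  rfl

end Rk1

/-- the coordinates of the seven-dimensional submodule -/
def J7 : Fin 7 → chevG2.Idx := ![.inl (g2n 0), .inr (g2r 2), .inr (g2r 3), .inr (g2r 4), .inr (g2r 7), .inr (g2r 8), .inr (g2r 9)]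

theorem J7_inj : Function.Injective J7 := by decide +kernel

section
variable {K : Type*} [Field K] [CharP K 3]

theorem xMat_J7 (r : Fin chevG2.nroots) (t : K) (a : chevG2.Idx) (j : Fin 7) (h : ∀ i, J7 i ≠ a) :
    chevG2.xMat K r t a (J7 j) = 0 := by
  have h0 : ∀ z : ℤ, 3 ∣ z → (z : K) = 0 := fun z => (CharP.intCast_eq_zero_iff K 3 z).2
  have hne : a ≠ J7 j := (h j).symm
  have c1 : ∀ (i : Fin chevG2.rank) (r : Fin chevG2.nroots) j, J7 j = .inl i → (∀ i, J7 i ≠ .inr r) →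
    3 ∣ (chevG2.cartanSR.getD i.val #[]).getD r.val 0 := by decide +kernel
  have c2 : ∀ (i : Fin chevG2.rank) (r s : Fin chevG2.nroots) j, J7 j = .inr s → (∀ j, J7 j ≠ .inl i) →
    s.val = chevG2.negIdx.getD r.val 0 → 3 ∣ (chevG2.coroot.getD r.val #[]).getD i.val 0 := by decide +kernel
  have c3 : ∀ (r s : Fin chevG2.nroots) j, J7 j = .inr s → s.val = chevG2.negIdx.getD r.val 0 → ∃ i, J7 i = .inr r := by
    decide +kernel
  have c4 : ∀ (r s u : Fin chevG2.nroots) j, J7 j = .inr s → (∀ i, J7 i ≠ .inr u) →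
    ∀ km ∈ chevG2.chainCoeff r.val s.val u.val, 3 ∣ km.2 := by decide +kernel
  rcases e : J7 j with i | s <;> rw [e] at hne <;> rcases a with i' | u <;>
    simp only [ChevalleyDatum.xMat, of_apply]
  · exact if_neg fun e => hne (congrArg _ e)
  · split_ifs with e'
    · subst e'; rw [h0 _ (c1 _ _ _ e h)]; simp
    · rfl
  · split_ifs with e1 e2
    · rfl
    · rw [h0 _ (c2 _ _ _ _ e h e2), zero_mul]
    · rfl
  · have : u ≠ s := fun e => hne (congrArg _ e)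
    split_ifs with e1 e2 e3 e4
    · exact absurd (e2.trans e1.symm) this
    · rfl
    · subst e4
      obtain ⟨i, hi⟩ := c3 _ _ _ e e3
      exact absurd hi (h i)
    · rfl
    · rw [zero_add]
      refine List.sum_eq_zero fun x hx => ?_
      obtain ⟨km, h1, rfl⟩ := List.mem_map.1 hx
      rw [h0 _ (c4 _ _ _ _ e h _ h1), zero_mul]

theorem mul_J7 {M N : Matrix chevG2.Idx chevG2.Idx K} (hN : ∀ a j, (∀ i, J7 i ≠ a) → N a (J7 j) = 0)
    (a : chevG2.Idx) (j : Fin 7) : (M * N) a (J7 j) = ∑ i, M a (J7 i) * N (J7 i) (J7 j) := by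
  rw [mul_apply]
  exact (Fintype.sum_of_injective J7 J7_inj _ _ (fun b hb => by rw [hN b j fun i e => hb ⟨i, e⟩, mul_zero])
    fun _ => rfl).symm

theorem mat_J7 (g : chevG2.group K) : ∀ (a : chevG2.Idx) (j : Fin 7), (∀ i, J7 i ≠ a) →
    (checkedG2.adj K).mat g a (J7 j) = 0 := by
  refine St.Ux_induction (S := checkedG2.adj K) (A := Set.univ)
    (p := fun g => ∀ a j, (∀ i, J7 i ≠ a) → (checkedG2.adj K).mat g a (J7 j) = 0)
    (fun a j h => ?_) (fun r _ t g _ ih a j h => ?_) (g := g) ((checkedG2.adj_Gx (K := K)).ge trivial)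
  · rw [St.mat_one, one_apply_ne (h j).symm]
  · have : (checkedG2.adj K).mat ((checkedG2.adj K).x r t) = chevG2.xMat K r t :=
      (checkedG2.adj_val r t).trans (dif_pos r.2)
    rw [St.mat_mul, this, mul_J7 fun a j => xMat_J7 r t a j]
    exact Finset.sum_eq_zero fun i _ => by rw [ih a i h, zero_mul]

variable (K) in
/-- the seven-dimensional representation -/
noncomputable def rho7 : chevG2.group K →* Matrix (Fin 7) (Fin 7) K where
  toFun g := ((checkedG2.adj K).mat g).submatrix J7 J7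
  map_one' := by rw [St.mat_one, submatrix_one _ J7_inj]
  map_mul' g h := by
    ext i j
    rw [St.mat_mul, submatrix_apply, mul_J7 (mat_J7 h)]; rfl

end

theorem exists_reeS {K : Type*} [Field K] [Fintype K] {m : ℕ} (hK : Fintype.card K = 3 ^ (2 * m + 1)) :
    ∃ S : ReeS m K (twistedG2 K (3 ^ m)),
      (∀ g : twistedG2 K (3 ^ m), g.1 ∈ chevG2.posUnipotent K ↔ ∃ t u v, g = S.y t u v) ∧
      (∀ g : twistedG2 K (3 ^ m), g.1 ∈ chevG2.diagonalSubgroup K ↔ ∃ s, g = S.d s) ∧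
      (∀ g : twistedG2 K (3 ^ m), g.1 ∈ chevG2.borelSubgroup K ↔ ∃ t u v s, g = S.y t u v * S.d s) := by
  unfold twistedG2
  obtain ⟨_, θ, hf, hθ⟩ := exists_theta hK
  have h4 : Fintype.card K % 4 = 3 := hK ▸ three_pow_mod m
  have hι := checkedG2.inc_inj (K := K) (g2Words K (3 ^ m))
  have hX := sub_2G2 hf hθ
  have hA := checkedG2.adj_inj (K := K)
  obtain ⟨y, hy, hy'⟩ := exists_ree hf hθ
  choose d b d1 d2 d3 d4 using tor_2G2 hf hθ h4
  set ι := checkedG2.inc (K := K) (g2Words K (3 ^ m))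
  set A := checkedG2.adj K
  have hb : ∀ {g c s}, A.IsTor (ι g) c → c (g2n 1) = s → g = d s := fun {g c s} h e =>
    hι (h.eq_of_inj hA (tfix_ext_2G2 hθ ((twG2 θ).tor_mem_tfix (hX.fix _ ⟨_, rfl⟩) (d2 s))
      ((twG2 θ).tor_mem_tfix (hX.fix _ ⟨_, rfl⟩) h) ((d4 s).trans e.symm) ▸ d2 s))
  have hH : ∀ g, ι g ∈ A.H ↔ ∃ s, g = d s := fun g => ⟨fun h =>
    let ⟨c, hc⟩ := St.exists_isTor h; ⟨_, hb hc rfl⟩, by rintro ⟨s, rfl⟩; exact d1 s⟩
  have hB : ∀ g, ι g ∈ A.B ↔ ∃ t u v s, g = y t u v * d s := fun g => ⟨fun h => by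
      obtain ⟨u, h1, k, h2, ⟨u, rfl⟩, ⟨k, rfl⟩, e⟩ := hX.split_B h ⟨g, rfl⟩
      obtain ⟨t, u, v, rfl⟩ := (hy' u).1 h1
      obtain ⟨s, rfl⟩ := (hH k).1 h2
      exact ⟨t, u, v, s, hι (e.trans (map_mul ..).symm)⟩, by
    rintro ⟨t, u, v, s, rfl⟩
    rw [map_mul]
    exact mul_mem (St.U_le_B ((hy' _).2 ⟨_, _, _, rfl⟩)) (St.H_le_B (d1 s))⟩
  let dd : Kˣ →* chevG2.genSubgroup K (g2Words K (3 ^ m)) := MonoidHom.mk' d fun s s' =>
    (hb (c := b s * b s') (by rw [map_mul]; exact (d2 s).mul (d2 s')) (by simp [d4])).symm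
  have hc : ∀ a ∈ [g2r 8, checkedG2.toCD.neg (g2r 8)], ∀ b ∈ [g2r 10, checkedG2.toCD.neg (g2r 10)],
    b ≠ a ∧ b ≠ checkedG2.toCD.neg a ∧ checkedG2.toCD.ct a b = [] := by decide +kernel
  have c1 := St.commute_of_ct (S := A) (hc _ (.head _) _ (.head _))
  have c2 := St.commute_of_ct (S := A) (hc _ (.head _) _ (.tail _ (.head _)))
  have c3 := St.commute_of_ct (S := A) (hc _ (.tail _ (.head _)) _ (.head _))
  have c4 := St.commute_of_ct (S := A) (hc _ (.tail _ (.head _)) _ (.tail _ (.head _)))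
  let R := rkProd (A.rk1 (g2r 8)) (A.rk1 (g2r 10)) θ c1 c2 c3 c4
  have hh : ∀ c, R.h c = A.h (g2r 8) (Units.map (θ : K →* K) c) * A.h (g2r 10) c := rkProd_h _ _ _ c1 c2 c3 c4
  have hn : ∀ c, R.n c = A.n (g2r 8) (Units.map (θ : K →* K) c) * A.n (g2r 10) c := rkProd_n _ _ _ c1 c2 c3 c4
  have hm := St.hMul_of_inj hA
  obtain ⟨φ0, hφ⟩ := R.exists_hom fun t u => by
    have := fun c d => rk_comm (A.rk1 (g2r 8)) (A.rk1 (g2r 10)) c1 c2 c3 c4 c d
    have e : Commute (A.h (g2r 10) t) (A.h (g2r 8) (Units.map (θ : K →* K) u)) :=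
      (((this _ _).mul_left (this _ _)).mul_right ((this _ _).mul_left (this _ _))).symm
    rw [hh, hh, hh, e.mul_mul_mul_comm, hm.all, hm.all, map_mul]
  have e1 : ∀ u, R.x u = ι (y 0 u 0) := fun u => by
    rw [hy]; simp [R, rkProd, St.rk1, ree, uG2, wd, checkedG2.xN_zero A.rel]; rfl
  have e2 : ∀ u, R.y u ∈ A.V := fun u => mul_mem (St.x_mem_V (by decide +kernel) _) (St.x_mem_V (by decide +kernel) _)
  have e3 : ∀ u, R.y u ∈ ι.range := fun u => hX.mem_of_V (e2 u) (by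
    have a1 : symG2.ρ (checkedG2.toCD.neg (g2r 8)) = checkedG2.toCD.neg (g2r 10) ∧
      symG2.ρ (checkedG2.toCD.neg (g2r 10)) = checkedG2.toCD.neg (g2r 8) ∧
      look exG2 2 (checkedG2.toCD.neg (g2r 8)) = 3 ∧ look exG2 2 (checkedG2.toCD.neg (g2r 10)) = 1 := by
      decide +kernel
    show (twG2 θ).σ (A.x _ _ * A.x _ _) = A.x _ _ * A.x _ _
    rw [map_mul, (exists_2G2 θ).choose_spec, (exists_2G2 θ).choose_spec, a1.1, a1.2.1, a1.2.2.1, a1.2.2.2, hθ, pow_one]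
    exact (c4 _ _).eq.symm)
  have e4 : ∀ g, φ0 g ∈ ι.range := fun g => (sl2_eq_top (K := ι.range.comap φ0) (fun g t h => by
    rcases h with h | h
    · exact Subgroup.mem_comap.2 ((hφ g t).1 h ▸ e1 t ▸ ⟨_, rfl⟩)
    · exact Subgroup.mem_comap.2 ((hφ g t).2 h ▸ e3 t))).ge trivial
  let φ : SL2 K →* chevG2.genSubgroup K (g2Words K (3 ^ m)) := (MonoidHom.ofInjective hι).symm.toMonoidHom.comp (φ0.codRestrict _ e4)
  have hφ' : ∀ g, ι (φ g) = φ0 g := fun g => MonoidHom.apply_ofInjective_symm hι _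
  have e5 : ∀ c : Kˣ, φ0 (mkS 0 c (-(c : K)⁻¹) 0 (by simp)) = R.n c := fun c => by
    rw [Rk1.n, ← (hφ (upS 1 c) c).1 (by simp), ← (hφ (mkS 1 0 (-(c : K)⁻¹) 1 (by simp)) _).2 rfl, ← map_mul, ← map_mul]
    congr 1
    ext i j; fin_cases i <;> fin_cases j <;> simp [mul_apply_SL]
  have e6 : ∀ c : Kˣ, φ0 (upS c 0) = R.h c := fun c => by
    rw [Rk1.h, ← e5, ← e5, ← map_mul]
    congr 1
    ext i j; fin_cases i <;> fin_cases j <;> simp [mul_apply_SL]
  have e7 : ι (φ (n0 K)) = R.n 1 := by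
    rw [hφ', ← e5]; congr 1; ext i j; fin_cases i <;> fin_cases j <;> simp [n0]
  have e8 : ι (φ (n0 K)) ∈ A.N := by rw [e7, hn]; exact mul_mem (St.n_mem _ _) (St.n_mem _ _)
  have hyi : ∀ {t u v t' u' v'}, y t u v = y t' u' v' → _ := fun h => ree_inj ((hy ..).symm.trans ((congrArg _ h).trans (hy ..)))
  have h0 : y 0 0 0 = 1 := hι (by rw [hy, ree_zero, map_one])
  have e9 : A.Acts (ι (φ (n0 K))) (checkedG2.toCD.w0 Set.univ) := by
    obtain ⟨w, hw⟩ := St.exists_acts e8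
    rcases W1_G2 w (hX.acts_mem e8 ⟨_, rfl⟩ hw) with rfl | rfl
    · have a1 := St.conj_H_Ux (St.mem_H_of_acts e8 hw) ((hy' _).2 ⟨0, 1, 0, rfl⟩)
      rw [← e1, e7, R.n_x, mul_inv_cancel_right] at a1
      have a2 := R.n_x 1 1
      rw [St.eq_one_of_mem_B_V (St.U_le_B a1) (e2 _), one_mul, mul_eq_left, e1, ← map_one ι, ← h0] at a2
      exact absurd (hyi (hι a2)).2.1 one_ne_zero
    · exact hw
  refine ⟨⟨hK, tau θ, tau_tau hθ, y, fun t u v t' u' v' => hι ((map_mul _ (y t u v) (y t' u' v')).trans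
    ((congrArg₂ _ (hy ..) (hy ..)).trans ((ree_mul hθ ..).trans (hy ..).symm))), hyi, dd, fun s t u v => hι ?_, φ,
    fun u => hι ?_, fun c => (hH _).1 ?_, hι ?_, fun s => hι ?_, fun g => ?_, fun {t u v t' u' v' s} h => ?_,
    (toLinAlgEquiv' (R := K) (n := Fin 7)).toMonoidHom.comp ((rho7 K).comp ι), fun h => ?_, fun hm => ?_⟩,
    fun g => ?_, fun g => ?_, fun g => ?_⟩
  · rw [map_mul, map_mul, map_inv, hy, hy]
    exact (ree_conj hθ (d2 s) (d3 s) ..).trans (by rw [d4])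
  · rw [hφ', ← e1]; exact (hφ _ _).1 (by simp)
  · rw [hφ', e6, hh]; exact mul_mem (St.h_mem _ _) (St.h_mem _ _)
  · rw [hφ', show (-1 : SL2 K) = upS (-1) 0 by ext i j; fin_cases i <;> fin_cases j <;> simp, e6, hh, map_one]
    refine St.IsTor.eq_of_inj hA ?_ St.isTor_one
    convert (St.isTor_h (S := A) _ _).mul (St.isTor_h _ _) using 1
    refine (funext fun j => ?_).symm
    have : ∀ j, Even (checkedG2.toCD.pair (g2r 8) (checkedG2.toCD.sim j) +
      checkedG2.toCD.pair (g2r 10) (checkedG2.toCD.sim j)) := by decide +kernel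
    rw [show Units.map (θ : K →* K) (-1) = -1 from Units.ext (by simp), Pi.mul_apply, ← _root_.zpow_add,
      (this j).neg_one_zpow]; rfl
  · have a1 := (d2 s).conj (d1 s) e8 e9
    have hw : ∀ i, checkedG2.toCD.w0 Set.univ • checkedG2.toCD.sim i = checkedG2.toCD.neg (checkedG2.toCD.sim i) := by
      rw [w0_G2]; decide +kernel
    simp only [RS.w0_inv, hw, RS.rv_neg, RS.rv_sim, RS.chi_neg, RS.chi_single, zpow_one] at a1
    simp only [map_mul, map_inv]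
    exact a1.eq_of_inj hA (d2 s).inv
  · obtain ⟨w, h⟩ := hX.bruhat' hι g
    rcases W1_G2 w w.2 with e | e <;> rw [e] at h
    · obtain ⟨b, hb, u, hu, rfl⟩ := h 1 (by simp) (by simpa using St.acts_one)
      exact .inl ((hB _).1 (by simpa using mul_mem hb (St.U_le_B (St.Uw_le_U _ hu))))
    · obtain ⟨b, hb, u, hu, rfl⟩ := h _ e8 e9
      obtain ⟨t, u, v, s, rfl⟩ := (hB _).1 hb
      obtain ⟨t', u', v', rfl⟩ := (hy' _).1 (St.Uw_le_U _ hu)
      exact .inr ⟨_, _, _, _, _, _, _, rfl⟩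
  · have a1 := e9.conj_Uw (St.Uw_w0.ge ((hy' _).2 ⟨t, u, v, rfl⟩))
    rw [← map_inv, ← map_mul, ← map_mul] at a1
    have a2 := St.eq_one_of_mem_B_V ((hB _).2 ⟨_, _, _, _, h⟩) a1
    rw [← map_one ι] at a2
    exact hyi ((by simpa [mul_inv_eq_iff_eq_mul] using hι a2 : y t u v = 1).trans h0.symm)
  · have a1 := congrFun₂ (toLinAlgEquiv'.injective (h.trans (map_one _).symm)) 4 4
    have a2 : A.mat (ι (d (-1))) = _ := congrArg Units.val (d2 (-1)).1
    have a3 : (RS.chi (b (-1)) (checkedG2.toCD.rv (checkedG2.toCD.sim (g2n 0))) : K) = 1 := by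
      have a4 : A.mat (ι (d (-1))) (J7 4) (J7 4) = 1 := a1.trans (one_apply_eq _)
      rw [a2, RS.tG_val, RS.tM, diagonal_apply_eq] at a4
      exact a4
    rw [RS.rv_sim, RS.chi_single, zpow_one, d3, d4] at a3
    exact two_ne_zero_of_odd (F := K) (Nat.odd_iff.2 (by omega)) (by simp at a3; linear_combination -a3)
  · haveI : Nonempty (Fin chevG2.rank) := ⟨g2n 0⟩
    exact (hX.isSimpleGroup hι hA conn_G2 (co_2G2 hf hθ) (perfect_2G2 hf hθ h4
      (by rw [hK]; exact lt_self_pow₀ (by norm_num) (by omega)))).1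
  · exact .trans (by rw [checkedG2.adj_U]; rfl) (hy' g)
  · exact .trans (by rw [checkedG2.adj_H]; rfl) (hH g)
  · exact .trans (by rw [checkedG2.adj_B]; rfl) (hB g)

end Cfsg.Agent.Ree
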