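import Cfsg.Agent.Lib.Ree.Three
import Cfsg.Agent.Lib.Solv.Gen
import Cfsg.Agent.Lib.Transfer.Hall

set_option autoImplicit false
set_option linter.unusedSectionVars false
set_option linter.style.haveILetI false

/-! Four-groups and Sylow 2-subgroups of a small Ree group. -/

namespace Cfsg.Agent.Ree

open Perm.GL2 MulAction Subgroup Transfer Suz

section Gen
variable {G : Type*} [Group G] [Finite G]

theorem pow_card_of_mem {B : Subgroup G} {x : G} (hx : x ∈ B) : x ^ Nat.card B = 1 :=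
  orderOf_dvd_iff_pow_eq_one.1 (orderOf_dvd_natCard _ hx)

theorem mem_of_cyclic {A B : Subgroup G} (hA : IsCyclic A) (h : B ≤ A) {x : G} (hx : x ∈ A) (e : x ^ Nat.card B = 1) :
    x ∈ B := by_contra fun hB => by
  classical
  haveI := Fintype.ofFinite A
  have h1 := IsCyclic.card_pow_eq_one_le (α := A) (n := Nat.card B) Nat.card_pos
  have h2 := cnt_le_of_injOn (p := fun y => y ∈ B ∨ y = x) (q := fun y : A => y ^ Nat.card B = 1)
    (fun y => if h : y ∈ A then ⟨y, h⟩ else 1) (fun y hy => by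
      rcases hy with hy | rfl
      · rw [dif_pos (h hy)]; exact Subtype.ext (pow_card_of_mem hy)
      · rw [dif_pos hx]; exact Subtype.ext e) fun a b ha hb e => by
      simpa [show a ∈ A from ha.elim (h ·) (· ▸ hx), show b ∈ A from hb.elim (h ·) (· ▸ hx)] using e
  rw [cnt_insert hB, Nat.card_eq_fintype_card (α := {y : A // _}), Fintype.card_subtype] at h2
  exact absurd (h2.trans h1) (Nat.not_succ_le_self _)

theorem eq_of_cyclic {A B C : Subgroup G} (hA : IsCyclic A) (h : B ≤ A) (h' : C ≤ A) (e : Nat.card B = Nat.card C) : B = C :=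
  eq_of_le_of_card_ge (fun x hx => mem_of_cyclic hA h' (h hx)
    (e ▸ pow_card_of_mem hx)) e.ge

theorem normalizer_le_of_cyclic {A B : Subgroup G} (hA : IsCyclic A) (h : B ≤ A) :
    normalizer (A : Set G) ≤ normalizer (B : Set G) := fun g hg =>
  mem_normalizer_iff_cj.2 (eq_of_cyclic hA (cj_eq_of_mem_normalizer hg ▸ cj_mono g h) h (card_cj ..))

theorem mem_of_sq {A : Subgroup G} {x : G} {n : ℕ} (hn : Odd n) (e : x ^ n = 1) (h : x ^ 2 ∈ A) : x ∈ A := by
  obtain ⟨k, rfl⟩ := hn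
  have := pow_mem h (k + 1)
  rwa [← pow_mul, show 2 * (k + 1) = 2 * k + 1 + 1 by ring, pow_succ, e, one_mul] at this

theorem exists_prime_pow {x : G} (h : x ≠ 1) : ∃ p k, p.Prime ∧ p ∣ orderOf x ∧ orderOf (x ^ k) = p := by
  obtain ⟨p, hp, k, hk⟩ := Nat.exists_prime_and_dvd (orderOf_eq_one_iff.not.2 h)
  have := orderOf_pos x
  exact ⟨p, k, hp, ⟨k, hk⟩, by rw [orderOf_pow, hk, Nat.gcd_mul_left_left, Nat.mul_div_cancel _ (by rw [hk] at this; exact Nat.pos_of_mul_pos_left this)]⟩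

theorem exists_conj_of_index {A : Subgroup G} {p : ℕ} (hp : p.Prime) (h : ¬ p ∣ A.index) {x : G} (hx : x ^ p = 1) :
    ∃ g, g * x * g⁻¹ ∈ A := by
  haveI := Fact.mk hp
  obtain ⟨P, hP⟩ := exists_isSyl p A
  obtain ⟨g, -, hg⟩ := (hP.trans le_top (by rwa [relIndex_top_right])).exists_cj_le
    (isPGroup_zpowers (k := 1) (by rwa [pow_one])) le_top
  exact ⟨g, hP.le (hg (conj_mem_cj (mem_zpowers x)))⟩

theorem exists_comm_of_dvd {A : Subgroup G} {x : G} {p : ℕ} (hp : p.Prime) (h : ¬ p ∣ A.index)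
    (hx : p ∣ Nat.card (centralizer {x})) : ∃ g, ∃ y ∈ A, orderOf y = p ∧ g * x * g⁻¹ ∈ centralizer {y} := by
  haveI := Fact.mk hp
  obtain ⟨⟨a, ha⟩, h1⟩ := exists_prime_orderOf_dvd_card' p hx
  rw [← orderOf_coe] at h1
  obtain ⟨g, hg⟩ := exists_conj_of_index hp h (h1 ▸ pow_orderOf_eq_one a)
  exact ⟨g, _, hg, (orderOf_conj ..).trans h1, by
    rw [← cj_centralizer_singleton]; exact conj_mem_cj (mem_centralizer_singleton_iff.2 (mem_centralizer_singleton_iff.1 ha).symm)⟩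

theorem orderOf_dvd_cent (x : G) : orderOf x ∣ Nat.card (centralizer {x}) :=
  orderOf_dvd_natCard _ (mem_centralizer_singleton_iff.2 rfl)

end Gen

section SL
variable (K : Type*) [Field K] [Fintype K]

/-- a generator of the anisotropic torus -/
noncomputable def e0 : SL2 K := (exists_reg_add (F := K)).choose

/-- a quarter of the order of the anisotropic torus -/
def bb : ℕ := (Fintype.card K + 1) / 4

/-- an element of order four -/
noncomputable def i0 : SL2 K := e0 K ^ bb K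

theorem e0_ell : IsEll (e0 K : M2 K) := (exists_reg_add (F := K)).choose_spec.1
theorem orderOf_e0 : orderOf (e0 K) = Fintype.card K + 1 := (exists_reg_add (F := K)).choose_spec.2

theorem cent_e0 : cent (e0 K) = zpowers (e0 K) :=
  (eq_of_le_of_card_ge (zpowers_le.2 (mem_cent.2 rfl)) (by rw [Nat.card_zpowers, orderOf_e0, (e0_ell K).card_cent_SL])).symm

theorem i0_mem : i0 K ∈ cent (e0 K) := pow_mem (mem_cent.2 rfl) _

theorem neg_mem_cent (g : SL2 K) : -1 ∈ cent g := mem_cent.2 (by simp)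

end SL

namespace ReeS
variable {m : ℕ} {K : Type*} [Field K] [Fintype K] {Γ : Type*} [Group Γ] [Finite Γ] (S : ReeS m K Γ)

include S in
theorem four_bb : 4 * bb K = Fintype.card K + 1 := by have := S.q_mod; rw [bb]; omega

include S in
theorem odd_bb : Odd (bb K) := Nat.odd_iff.2 (by have := S.q_mod; rw [bb]; omega)

include S in
theorem e0_pow {n : ℕ} : e0 K ^ n = 1 ∨ e0 K ^ n = -1 ↔ 2 * bb K ∣ n := by
  rw [← isScal_SL_iff, ← Nat.mul_dvd_mul_iff_left two_pos, ← mul_assoc, show 2 * 2 = 4 from rfl, S.four_bb, ← orderOf_e0,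
    orderOf_dvd_iff_pow_eq_one, two_mul, pow_add]
  exact ⟨fun h => by rcases isScal_SL_iff.1 h with h | h <;> simp [h], isScal_of_mul_self_eq_one S.c2⟩

include S in
theorem i0_sq : i0 K * i0 K = -1 := by
  rw [i0, ← pow_add, ← two_mul]
  refine (S.e0_pow.2 dvd_rfl).resolve_left (pow_ne_one_of_lt_orderOf ?_ ?_)
  all_goals have := S.four_bb; have := orderOf_e0 K; omega

include S in
theorem i0_not_scal : ¬ IsScal (i0 K : M2 K) := fun h => neg_one_ne_one_SL S.c2 (by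
  rw [← S.i0_sq]; rcases isScal_SL_iff.1 h with h | h <;> simp [h])

include S in
theorem i0_ell : IsEll (i0 K : M2 K) := (e0_ell K).of_comm (mem_cent_coe.1 (i0_mem K)) S.i0_not_scal

include S in
theorem cent_i0 : cent (i0 K) = cent (e0 K) := cent_eq_cent_SL (e0_ell K).not_scal (i0_mem K) S.i0_not_scal

theorem isConj_i0 {h : SL2 K} (h1 : S.φ h ≠ 1) (h2 : S.φ h * S.φ h = 1) : IsConj (i0 K) h := by
  have h3 := mt isScal_SL_iff.1 (mt S.φ_eq_one.2 h1)
  rw [← map_mul, φ_eq_one, or_iff_right (mt (isScal_of_mul_self_eq_one S.c2) h3)] at h2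
  exact S.i0_ell.isConj_SL ((trace_of_mul_self S.i0_not_scal S.i0_sq).trans (trace_of_mul_self h3 h2).symm)

/-- an involution commuting with `z` -/
noncomputable def i : Γ := S.φ (i0 K)

/-- the abelian subgroup of order `q + 1` -/
noncomputable def E : Subgroup Γ := S.lift (cent (e0 K))

/-- the cyclic subgroup of order `(q + 1) / 4` -/
noncomputable def A : Subgroup Γ := zpowers (S.φ (e0 K) ^ 2)

/-- the four-group -/
noncomputable def V : Subgroup Γ := S.lift (zpowers (i0 K))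

theorem i_i : S.i * S.i = 1 := by rw [i, ← map_mul, S.i0_sq, S.φ_neg]

theorem i_ne : S.i ≠ 1 := mt S.φ_eq_one.1 (mt isScal_SL_iff.2 S.i0_not_scal)

theorem i_ne_z : S.i ≠ S.z := S.φ_ne_z _

theorem orderOf_φ_e0 : orderOf (S.φ (e0 K)) = 2 * bb K :=
  Nat.dvd_antisymm (orderOf_dvd_of_pow_eq_one (by rw [← map_pow, φ_eq_one, S.e0_pow]))
    (by rw [← S.e0_pow, ← S.φ_eq_one, map_pow, pow_orderOf_eq_one])

theorem card_A : Nat.card S.A = bb K := by
  rw [A, Nat.card_zpowers, orderOf_pow, orderOf_φ_e0, Nat.gcd_mul_right_left]; simp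

theorem cyclic_A : IsCyclic S.A := inferInstanceAs (IsCyclic (zpowers _))

theorem card_E : Nat.card S.E = Fintype.card K + 1 := by rw [E, S.card_lift (neg_mem_cent K _), (e0_ell K).card_cent_SL]

theorem A_le_E : S.A ≤ S.E := zpowers_le.2 (pow_mem (S.φ_mem_lift (mem_cent.2 rfl)) _)

theorem V_le_E : S.V ≤ S.E := S.lift_mono (zpowers_le.2 (i0_mem K))

theorem E_le : S.E ≤ centralizer {S.z} := S.cent_z ▸ S.lift_mono le_top

theorem E_comm {x y : Γ} (hx : x ∈ S.E) (hy : y ∈ S.E) : x * y = y * x := by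
  have : ∀ h ∈ cent (e0 K), ∀ k ∈ cent (e0 K), Commute (S.φ h) (S.φ k) := fun h hh k hk =>
    Commute.map (cent_comm_SL (e0_ell K).not_scal hh hk) S.φ
  obtain ⟨h, hh, rfl | rfl⟩ := hx <;> obtain ⟨k, hk, rfl | rfl⟩ := hy
  exacts [this h hh k hk, (this h hh k hk).mul_right (S.φ_comm_z h), (this h hh k hk).mul_left (S.φ_comm_z k).symm,
    ((this h hh k hk).mul_right (S.φ_comm_z h)).mul_left ((S.φ_comm_z k).symm.mul_right rfl)]

theorem φz_sq (h : SL2 K) : (S.φ h * S.z) ^ 2 = S.φ h ^ 2 := by rw [(S.φ_comm_z h).mul_pow, sq S.z, z_z, mul_one]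

variable {S}

theorem sq_mem_A {x : Γ} (hx : x ∈ S.E) : x ^ 2 ∈ S.A := by
  obtain ⟨h, hh, e⟩ := hx
  obtain ⟨n, rfl⟩ := (cent_e0 K).le hh
  have : S.φ (e0 K ^ n) ^ 2 ∈ S.A := ⟨n, by
    simp only [map_zpow, ← zpow_natCast, ← zpow_mul, mul_comm]⟩
  rcases e with rfl | rfl
  exacts [this, S.φz_sq _ ▸ this]

theorem pow_bb {x : Γ} (hx : x ∈ S.A) : x ^ bb K = 1 := S.card_A ▸ pow_card_of_mem hx

theorem mem_A {x : Γ} : x ∈ S.A ↔ x ∈ S.E ∧ x ^ bb K = 1 :=
  ⟨fun h => ⟨S.A_le_E h, pow_bb h⟩, fun h => mem_of_sq S.odd_bb h.2 (sq_mem_A h.1)⟩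

theorem mem_V {x : Γ} : x ∈ S.V ↔ x = 1 ∨ x = S.z ∨ x = S.i ∨ x = S.i * S.z := by
  constructor
  · rintro ⟨_, ⟨n, rfl⟩, e⟩
    have : S.φ (i0 K ^ n) = 1 ∨ S.φ (i0 K ^ n) = S.i := by
      rw [map_zpow, ← i, ← zpow_mod_orderOf, orderOf_eq_prime (p := 2) (by rw [sq, i_i]) S.i_ne]
      rcases Int.emod_two_eq_zero_or_one n with h | h <;> simp [h]
    rcases this with h | h <;> simp only [h, one_mul] at e <;> tauto
  · rintro (rfl | rfl | rfl | rfl)
    exacts [one_mem _, S.z_mem_lift _, S.φ_mem_lift (mem_zpowers _), ⟨_, mem_zpowers _, .inr rfl⟩]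

theorem mem_V' {x : Γ} : x ∈ S.V ↔ x ∈ S.E ∧ x * x = 1 := by
  refine ⟨fun h => ⟨S.V_le_E h, ?_⟩, fun ⟨⟨h, hh, e⟩, h2⟩ => ?_⟩
  · rcases mem_V.1 h with rfl | rfl | rfl | rfl
    exacts [mul_one _, S.z_z, S.i_i, by rw [← sq, i, φz_sq, sq, ← i, i_i]]
  have h3 : S.φ h * S.φ h = 1 := by
    rcases e with rfl | rfl
    exacts [h2, by rwa [← sq, φz_sq, sq] at h2]
  have : S.φ h ∈ S.V := by
    by_cases h1 : S.φ h = 1
    · simp [h1]
    rcases (e0_ell K).isReg.eq_or_eq_inv (i0_mem K) hh (S.isConj_i0 h1 h3) with rfl | rfl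
    exacts [S.φ_mem_lift (mem_zpowers _), S.φ_mem_lift (inv_mem (mem_zpowers _))]
  rcases e with rfl | rfl
  exacts [this, mul_mem this (S.z_mem_lift _)]

variable (S)

theorem card_V : Nat.card S.V = 4 := by
  rw [V, S.card_lift (S.i0_sq ▸ mul_mem (mem_zpowers _) (mem_zpowers _)), Nat.card_zpowers,
    orderOf_eq_four S.c2 (trace_of_mul_self S.i0_not_scal S.i0_sq)]

theorem z_mem_V : S.z ∈ S.V := S.z_mem_lift _
theorem i_mem_V : S.i ∈ S.V := mem_V.2 (by simp)

theorem isPGroup_V : IsPGroup 2 S.V := .of_card (n := 2) S.card_V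

theorem comm_φ {g h : SL2 K} : Commute (S.φ h) (S.φ g) ↔ h * g * h⁻¹ = g ∨ h * g * h⁻¹ = -g := by
  rw [← S.φ_eq_iff, map_mul, map_mul, map_inv, mul_inv_eq_iff_eq_mul, commute_iff_eq]

theorem cent_inf (g : SL2 K) : centralizer {S.φ g} ⊓ centralizer {S.z} = S.lift ((cent (toP g)).comap toP) := by
  ext x
  rw [mem_inf, cent_z, mem_centralizer_singleton_iff]
  constructor
  · rintro ⟨h1, h, -, rfl | rfl⟩
    · exact S.φ_mem_lift (mem_comap_cent.2 (S.comm_φ.1 h1))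
    · refine ⟨h, mem_comap_cent.2 (S.comm_φ.1 ?_), .inr rfl⟩
      simpa [mul_assoc, z_z] using Commute.mul_left h1 (S.φ_comm_z g).symm
  · rintro ⟨h, hh, e⟩
    have := S.comm_φ.2 (mem_comap_cent.1 hh)
    refine ⟨?_, h, trivial, e⟩
    rcases e with rfl | rfl
    exacts [this, this.mul_left (S.φ_comm_z g).symm]

variable {S} in
theorem cent_E {x : Γ} (hx : x ∈ S.E) (h : x * x ≠ 1) : centralizer {x} ⊓ centralizer {S.z} = S.E := by
  obtain ⟨g, hg, e⟩ := hx
  have h1 : S.φ g * S.φ g ≠ 1 := by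
    rcases e with rfl | rfl
    exacts [h, by rwa [← sq, φz_sq, sq] at h]
  have h2 : centralizer {S.φ g} ⊓ centralizer {S.z} = S.E := by
    rw [cent_inf, comap_cent_of_ne (.inr fun e => h1 (by rw [← map_mul, mul_self_of_trace e, S.φ_neg])),
      cent_eq_cent_SL (e0_ell K).not_scal hg fun e => h1 (by rw [S.φ_eq_one.2 (isScal_SL_iff.1 e), mul_one]), E]
  rcases e with rfl | rfl
  · exact h2
  · rw [← h2]; ext y
    simp only [mem_inf, mem_centralizer_singleton_iff]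
    exact and_congr_left fun e => by rw [← mul_assoc, mul_assoc _ S.z, ← e, ← mul_assoc, mul_left_inj]

theorem cent_V : centralizer (S.V : Set Γ) = S.lift (normalizer (cent (e0 K) : Set (SL2 K))) := by
  rw [← S.cent_i0, ← comap_cent_of_trace S.c2 (trace_of_mul_self S.i0_not_scal S.i0_sq), ← cent_inf]
  ext x
  rw [mem_inf, mem_centralizer_singleton_iff, mem_centralizer_singleton_iff, mem_centralizer_iff]
  refine ⟨fun h => ⟨(h _ S.i_mem_V).symm, (h _ S.z_mem_V).symm⟩, fun h y hy => ?_⟩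
  rcases mem_V.1 hy with rfl | rfl | rfl | rfl
  exacts [by simp, h.2.symm, h.1.symm, (Commute.mul_right h.1 h.2).eq.symm]

theorem card_CV : Nat.card (centralizer (S.V : Set Γ)) = 2 * (Fintype.card K + 1) := by
  rw [cent_V, S.card_lift (le_normalizer (neg_mem_cent K _)), (e0_ell K).isReg.card_normalizer, (e0_ell K).card_cent_SL]

variable {S}

theorem CV_cases {x : Γ} (hx : x ∈ centralizer (S.V : Set Γ)) : x ∈ S.E ∨ x * x = 1 ∧ ∀ a ∈ S.A, x * a * x⁻¹ = a⁻¹ := by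
  obtain ⟨h, hh, e⟩ := S.cent_V.le hx
  refine ((e0_ell K).isReg.mem_normalizer_iff.1 hh).imp (fun h => ⟨_, h, e⟩) fun h1 => ?_
  have h2 : S.φ h * S.φ h = 1 := by rw [← map_mul, mul_self_of_trace ((e0_ell K).isReg.trace_of_inverts h1), S.φ_neg]
  have h3 : ∀ a ∈ S.A, S.φ h * a * (S.φ h)⁻¹ = a⁻¹ := by
    rintro _ ⟨n, rfl⟩
    rw [← conj_zpow, ← conj_pow, ← map_inv, ← map_mul, ← map_mul, h1]; simp
  rcases e with rfl | rfl
  · exact ⟨h2, h3⟩
  · refine ⟨by rwa [← sq, φz_sq, sq], fun a ha => ?_⟩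
    rw [← h3 a ha, mul_inv_rev, mul_assoc _ S.z, ← mem_centralizer_singleton_iff.1 (S.E_le (S.A_le_E ha))]
    simp [mul_assoc]

include S in
theorem eq_one_of_bb {x : Γ} (h : x ^ bb K = 1) (h2 : x * x = 1) : x = 1 :=
  mem_bot.1 (mem_of_sq S.odd_bb h (by rw [sq, h2]; exact one_mem _))

theorem mem_A' {x : Γ} : x ∈ S.A ↔ x ∈ centralizer (S.V : Set Γ) ∧ x ^ bb K = 1 :=
  ⟨fun h => ⟨fun _ hy => S.E_comm (S.V_le_E hy) (S.A_le_E h), pow_bb h⟩, fun h => (CV_cases h.1).elim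
    (fun e => mem_A.2 ⟨e, h.2⟩) fun e => eq_one_of_bb (S := S) h.2 e.1 ▸ one_mem _⟩

theorem conj_E_of_ell {h : SL2 K} (he : IsEll (h : M2 K)) : ∃ c, S.φ c * S.φ h * (S.φ c)⁻¹ ∈ S.E := by
  obtain ⟨c, h1, h2⟩ := IsEll.exists_isConj_SL (e := Matrix.SpecialLinearGroup.toGL (e0 K)) (e0_ell K) he
  obtain ⟨k, rfl⟩ := isConj_iff.1 h2
  exact ⟨k, by simpa [E] using S.φ_mem_lift (mem_cent_SL.2 h1)⟩

theorem conj_A_of_comm {x j : Γ} (h : x ^ bb K = 1) (h1 : j ≠ 1) (h2 : j * j = 1) (hc : x * j = j * x) :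
    ∃ g, j = g * S.z * g⁻¹ ∧ g⁻¹ * x * g ∈ S.A := by
  obtain ⟨g, rfl⟩ := S.exists_z h1 h2
  have h3 : (g⁻¹ * x * g) ^ bb K = 1 := by simpa [h] using conj_pow (a := g⁻¹) (b := x) (i := bb K)
  obtain ⟨k, e | e⟩ := exists_φ (S := S) (g := g⁻¹ * x * g) (by simpa [mul_assoc] using congrArg (g⁻¹ * · * g) hc)
  · by_cases h4 : orderOf k ≤ 2
    · refine ⟨g, rfl, ?_⟩
      have : k * k = 1 := by
        have := orderOf_pos k
        rw [← sq, ← orderOf_dvd_iff_pow_eq_one]; interval_cases orderOf k <;> simp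
      rw [e, S.φ_eq_one.2 (isScal_SL_iff.1 (isScal_of_mul_self_eq_one S.c2 this))]; exact one_mem _
    classical
    obtain ⟨c, hc⟩ := conj_E_of_ell (S := S) (isEll_of_orderOf (not_le.1 h4) (orderOf_dvd_of_pow_eq_one (by
      rw [e, ← map_pow, φ_eq_one] at h3
      rw [← S.four_bb, mul_comm, pow_mul]
      rcases h3 with h | h <;> simp [h, pow_succ])))
    refine ⟨g * (S.φ c)⁻¹, by simp [mul_assoc, (S.φ_comm_z c).symm.left_comm], mem_A.2 ⟨?_, ?_⟩⟩
    · simpa [← e, mul_assoc] using hc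
    · simpa [h, mul_assoc] using conj_pow (a := S.φ c * g⁻¹) (b := x) (i := bb K)
  · obtain ⟨n, hn⟩ := S.odd_bb
    rw [e, (S.φ_comm_z k).mul_pow, hn, pow_succ S.z, pow_mul S.z, sq, z_z, one_pow, one_mul, ← map_pow] at h3
    exact absurd ((map_one _).trans h3.symm) (S.φ_ne _ _)

variable (S) in
include S in
theorem coprime_bb : (bb K).Coprime (Fintype.card K ^ 3 * (Fintype.card K - 1)) ∧
    (bb K).Coprime (Fintype.card K ^ 2 - Fintype.card K + 1) := by
  have h := S.four_bb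
  have h1 := S.three_dvd
  have h2 := S.odd_bb
  generalize bb K = b at *
  obtain ⟨k, hk⟩ : ∃ k, b = k + 1 := ⟨b - 1, by omega⟩
  have h3 : Fintype.card K = 4 * k + 3 := by omega
  rw [h3] at h1 ⊢
  refine ⟨.mul_right (.pow_right _ ?_) ?_, ?_⟩ <;> refine Nat.coprime_of_dvd fun p hp a1 a2 => ?_
  · exact hp.not_dvd_one ((Nat.dvd_add_right a2).1 (show p ∣ 4 * k + 3 + 1 by rw [← h3, ← h]; exact a1.mul_left 4))
  · have : p ∣ 2 := (Nat.dvd_add_right a2).1 (show p ∣ 4 * k + 3 - 1 + 2 from (by omega : 4 * b = 4 * k + 3 - 1 + 2) ▸ a1.mul_left 4)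
    obtain rfl := (Nat.prime_dvd_prime_iff_eq hp Nat.prime_two).1 this
    exact h2.not_two_dvd_nat a1
  · rw [show (4 * k + 3) ^ 2 - (4 * k + 3) + 1 = b * (16 * k + 4) + 3 by
      rw [hk, ← Nat.sub_add_comm (by nlinarith), Nat.sub_eq_iff_eq_add (by nlinarith)]; ring] at a2
    obtain rfl := (Nat.prime_dvd_prime_iff_eq hp Nat.prime_three).1 ((Nat.dvd_add_right (a1.mul_right _)).1 a2)
    omega

theorem cent_A {x : Γ} (hx : x ∈ S.A) (h1 : x ≠ 1) : centralizer {x} = S.E := by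
  have h2 := pow_bb hx
  have hE : S.E ≤ centralizer {x} := fun y hy => mem_centralizer_singleton_iff.2 (S.E_comm hy (S.A_le_E hx))
  have h3 : ∀ k ∈ S.V, k ≠ 1 → centralizer {x} ⊓ centralizer {k} = S.E := fun k hk h4 => by
    obtain ⟨g, rfl, h5⟩ := conj_A_of_comm (S := S) h2 h4 (mem_V'.1 hk).2 (S.E_comm (S.A_le_E hx) (S.V_le_E hk))
    refine (eq_of_le_of_card_ge (le_inf hE fun y hy => mem_centralizer_singleton_iff.2 (S.E_comm hy (S.V_le_E hk))) ?_).symm
    rw [← card_cj g S.E, ← cent_E (S.A_le_E h5) (fun e => h1 (by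
      simpa [mul_assoc, inv_mul_eq_one] using eq_one_of_bb (S := S) (pow_bb h5) e)), cj_inf, cj_centralizer_singleton,
      cj_centralizer_singleton]
    simp [mul_assoc]
  have h4 : IsSyl 2 S.V (centralizer {x}) := isSyl_of_maximal S.isPGroup_V (S.V_le_E.trans hE) fun R h5 h6 h7 y hy =>
    mem_V'.2 ⟨(h3 _ S.z_mem_V S.z_ne).le ⟨h6 hy, mem_centralizer_singleton_iff.2 (S.comm_of_pgroup h5 hy (h7 S.z_mem_V))⟩,
      S.sq_of_pgroup h5 hy⟩
  have h5 : ¬ 3 ∣ Nat.card (centralizer {x}) := fun e => by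
    obtain ⟨g, hg⟩ := S.exists_B_of_three e
    have := orderOf_dvd_natCard _ hg
    rw [card_B, orderOf_conj] at this
    exact h1 (orderOf_eq_one_iff.1 (Nat.eq_one_of_dvd_coprimes S.coprime_bb.1 (orderOf_dvd_of_pow_eq_one h2) this))
  have h6 : res 2 (centralizer {x} ⊓ normalizer (S.V : Set Γ)) ≤ centralizer (S.V : Set Γ) := by_contra fun e => by
    obtain ⟨p, j, a1, a2, a3, a4, a5⟩ := exists_prime_of_not_res_le (n := 2) S.card_V inf_le_right e
    interval_cases j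
    · obtain rfl := (Nat.prime_dvd_prime_iff_eq a1 Nat.prime_three).1 a5
      exact h5 (a3.trans (card_dvd_of_le inf_le_left))
    · exact a1.not_dvd_one a5
  obtain ⟨P, N, hN, h7⟩ := h4.hasNPC_of_le_centralizer (le_of_forall_primePow_mem fun p hp _ y hy ⟨k, hk⟩ => by
    by_cases e : p = 2
    · subst e
      exact fun v hv => S.comm_of_pgroup (S.isPGroup_V.to_sup_of_normal_left' (isPGroup_zpowers hk) (zpowers_le.2 hy.2))
        (mem_sup_left hv) (mem_sup_right (mem_zpowers y))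
    · exact h6 (mem_res hy (((Nat.coprime_primes hp Nat.prime_two).2 e).pow_left k |>.coprime_dvd_left
        (orderOf_dvd_of_pow_eq_one hk))))
  have h8 : Nat.card P = 4 := by
    rw [← S.card_V, h4.card_eq (isSyl_map_subtype P), card_map_of_injective (subtype_injective _)]
  have h9 : ¬ 2 ∣ Nat.card N := h7.index_eq_card ▸ P.not_dvd_index
  have h10 : N.map (centralizer {x}).subtype ≤ S.E := Solv.le_of_forall_centralizer_le (A := S.V)
    ⟨⟨fun a b => Subtype.ext (S.E_comm (S.V_le_E a.2) (S.V_le_E b.2))⟩⟩ (fun e => by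
      obtain ⟨g, hg⟩ := e.exists_ofOrder_eq_natCard
      rw [card_V] at hg
      exact absurd (hg ▸ orderOf_dvd_of_pow_eq_one (Subtype.ext (by simpa [sq] using (mem_V'.1 g.2).2) : g ^ 2 = 1)) (by decide))
    (S.V_le_E.trans (hE.trans fun g hg => mem_normalizer_of_conj_mem (by
      rintro _ ⟨n, hn, rfl⟩; exact ⟨_, hN.conj_mem n hn ⟨g, hg⟩, rfl⟩)))
    (by rw [card_V, card_map_of_injective (subtype_injective _)]
        exact ((Nat.prime_two.coprime_iff_not_dvd).2 h9).pow_left 2)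
    fun a ha h => (inf_le_inf_right _ (map_subtype_le N)).trans (h3 a ha h).le
  refine (eq_of_le_of_card_ge hE ?_).symm
  have := card_dvd_of_le h10
  rw [card_map_of_injective (subtype_injective _), card_E, ← S.four_bb] at this
  have := Nat.le_of_dvd S.odd_bb.pos
    ((((Nat.prime_two.coprime_iff_not_dvd).2 h9).pow_left 2).symm.dvd_of_dvd_mul_left this)
  rw [← h7.card_mul_card, h8, card_E, ← S.four_bb]
  omega

end ReeS
end Cfsg.Agent.Ree
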