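import Cfsg.Agent.Lib.Ree.Basic

set_option autoImplicit false
set_option linter.unusedSectionVars false
set_option linter.style.haveILetI false

/-! Involutions of a small Ree group. -/

namespace Cfsg.Agent.Ree

open Perm.GL2 MulAction Subgroup Transfer Suz

theorem sl2_decomp {K : Type*} [Field K] (g : SL2 K) (h : (g : M2 K) 1 0 ≠ 0) :
    ∃ a b c, g = upS a b * n0 K * upS 1 c := by
  refine ⟨(Units.mk0 (-(g : M2 K) 1 0) (by simpa))⁻¹, -(g : M2 K) 0 0, (g : M2 K) 1 1 / (g : M2 K) 1 0, ?_⟩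
  have := det_SL g
  ext i j; simp only [mul_apply_SL]
  fin_cases i <;> fin_cases j <;> simp [n0] <;> field_simp
  linear_combination -this

theorem upS_eq {K : Type*} [Field K] (a : Kˣ) (b : K) : upS a b = upS 1 (a * b) * upS a 0 := by
  rw [upS_mul, upS_inj]; exact ⟨by simp, by field_simp; simp⟩

theorem cnt_le_of_surj {α β : Type*} [Finite β] {p : α → Prop} (f : β → α) (h : ∀ a, p a → ∃ b, f b = a) :
    Nat.card {a // p a} ≤ Nat.card β := by
  choose g hg using h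
  exact Nat.card_le_card_of_injective (fun a => g a.1 a.2) fun a b e => Subtype.ext (by rw [← hg a.1 a.2, ← hg b.1 b.2]; exact congrArg f e)

namespace ReeS
variable {m : ℕ} {K : Type*} [Field K] [Fintype K] {Γ : Type*} [Group Γ] (S : ReeS m K Γ)

theorem φ_tor (c : Kˣ) : ∃ s, S.φ (upS c 0) = S.d s ∧ s * S.τ s = c ^ 2 := by
  obtain ⟨s, e⟩ := S.φ_t c
  have := S.d_conj s 0 1 0
  rw [← e, ← S.φ_u, ← map_inv, ← map_mul, ← map_mul, upS_inv, upS_mul, upS_mul, mul_one, mul_inv_cancel, S.φ_u] at this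
  exact ⟨s, e, by simpa [sq] using (S.inj this).2.1.symm⟩

theorem φ_up (a : Kˣ) (b : K) : ∃ s, S.φ (upS a b) = S.y 0 (a * b) 0 * S.d s ∧ s * S.τ s = a ^ 2 :=
  let ⟨s, h1, h2⟩ := S.φ_tor a; ⟨s, by rw [upS_eq, map_mul, S.φ_u, h1], h2⟩

theorem φ_up_mem (a : Kˣ) (b : K) : S.φ (upS a b) ∈ S.B := let ⟨s, h, _⟩ := S.φ_up a b; ⟨_, _, _, s, h⟩

theorem φ_mem_B {g : SL2 K} : S.φ g ∈ S.B ↔ (g : M2 K) 1 0 = 0 := by
  refine ⟨fun h => by_contra fun e => ?_, fun h => eq_upS h ▸ S.φ_up_mem ..⟩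
  obtain ⟨a, b, c, rfl⟩ := sl2_decomp g e
  rw [map_mul, map_mul, mul_mem_cancel_right (S.φ_up_mem ..), mul_mem_cancel_left (S.φ_up_mem ..)] at h
  exact S.w_not_mem h

theorem y_comm_z (u : K) : Commute (S.y 0 u 0) S.z := by
  rw [Commute, SemiconjBy, eq_comm, ← mul_inv_eq_iff_eq_mul, z_conj, neg_zero]

theorem d_comm_z (s : Kˣ) : Commute (S.d s) S.z := S.d_comm ..

theorem w_comm_z : Commute S.w S.z := (S.w_mul_d (-1)).trans (by rw [inv_neg_one]; rfl)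

theorem φ_comm_z (g : SL2 K) : Commute (S.φ g) S.z := by
  have : ∀ a b, Commute (S.φ (upS a b)) S.z := fun a b => by
    obtain ⟨s, h, -⟩ := S.φ_up a b
    exact h ▸ (S.y_comm_z _).mul_left (S.d_comm_z _)
  by_cases h : (g : M2 K) 1 0 = 0
  · exact eq_upS h ▸ this ..
  · obtain ⟨a, b, c, rfl⟩ := sl2_decomp g h
    rw [map_mul, map_mul]
    exact ((this ..).mul_left S.w_comm_z).mul_left (this ..)

theorem φ_neg' (g : SL2 K) : S.φ (-g) = S.φ g := by rw [← neg_one_mul, map_mul, S.φ_neg, one_mul]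

theorem scal_of_φ {g : SL2 K} {s : Kˣ} (h : S.φ g = S.d s) (hs : s = 1 ∨ s = -1) : g = 1 ∨ g = -1 := by
  have h1 := eq_upS (S.φ_mem_B.1 (h ▸ S.d_mem_B s))
  obtain ⟨a, b, rfl⟩ : ∃ a b, g = upS a b := ⟨_, _, h1⟩
  obtain ⟨s', h2, h3⟩ := S.φ_up a b
  obtain ⟨⟨-, h4, -⟩, rfl⟩ := S.eq_of_yd (h2.symm.trans (h.trans (by simp : _ = S.y 0 0 0 * S.d s)))
  have h5 : (a : K) * a = 1 := by rcases hs with rfl | rfl <;> simpa [sq] using h3.symm
  rw [← isScal_SL_iff]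
  exact ⟨by simpa using h4, by simp, by simpa using eq_inv_of_mul_eq_one_left h5⟩

theorem φ_eq_one {g : SL2 K} : S.φ g = 1 ↔ g = 1 ∨ g = -1 :=
  ⟨fun h => S.scal_of_φ (h.trans (map_one S.d).symm) (.inl rfl), by rintro (rfl | rfl); exacts [map_one _, S.φ_neg]⟩

theorem φ_ne_z (g : SL2 K) : S.φ g ≠ S.z := fun h => S.z_ne (h ▸ S.φ_eq_one.2 (S.scal_of_φ h (.inr rfl)))

theorem φ_ne (g h : SL2 K) : S.φ g ≠ S.φ h * S.z := fun e => S.φ_ne_z (h⁻¹ * g) (by simp [e])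

theorem φ_eq_iff {g h : SL2 K} : S.φ g = S.φ h ↔ g = h ∨ g = -h := by
  rw [← mul_inv_eq_one, ← map_inv, ← map_mul, φ_eq_one, mul_inv_eq_one, mul_inv_eq_iff_eq_mul, neg_one_mul]

/-- subgroups of the centraliser of the involution -/
def lift (A : Subgroup (SL2 K)) : Subgroup Γ where
  carrier := {g | ∃ h ∈ A, g = S.φ h ∨ g = S.φ h * S.z}
  one_mem' := ⟨1, one_mem _, .inl (map_one _).symm⟩
  mul_mem' := by
    rintro _ _ ⟨h, h1, rfl | rfl⟩ ⟨k, h2, rfl | rfl⟩ <;> refine ⟨_, mul_mem h1 h2, ?_⟩ <;> rw [map_mul]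
    exacts [.inl rfl, .inr (mul_assoc ..).symm, .inr ((S.φ_comm_z k).symm.right_comm _),
      .inl (by rw [(S.φ_comm_z k).symm.mul_mul_mul_comm, z_z, mul_one])]
  inv_mem' := by
    rintro _ ⟨h, h1, rfl | rfl⟩ <;> refine ⟨_, inv_mem h1, ?_⟩
    exacts [.inl (map_inv ..).symm, .inr (by rw [mul_inv_rev, z_inv, ← map_inv, S.φ_comm_z])]

theorem φ_mem_lift {A : Subgroup (SL2 K)} {h : SL2 K} (hh : h ∈ A) : S.φ h ∈ S.lift A := ⟨h, hh, .inl rfl⟩

theorem z_mem_lift (A : Subgroup (SL2 K)) : S.z ∈ S.lift A := ⟨1, one_mem _, .inr (by simp)⟩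

theorem φ_mem_lift_iff {A : Subgroup (SL2 K)} (hA : -1 ∈ A) {h : SL2 K} : S.φ h ∈ S.lift A ↔ h ∈ A :=
  ⟨fun ⟨k, hk, e⟩ => by
    rcases S.φ_eq_iff.1 (e.resolve_right (S.φ_ne _ _)) with rfl | rfl
    exacts [hk, neg_one_mul k ▸ mul_mem hA hk], S.φ_mem_lift⟩

theorem card_lift {A : Subgroup (SL2 K)} (hA : -1 ∈ A) : Nat.card (S.lift A) = Nat.card A := by
  haveI := S.finite
  have h1 : Nat.card {h // h ∈ A} = Nat.card {g // g ∈ A.map S.φ} * 2 :=
    cnt_eq_mul_of_fiber S.φ (fun a ha => ⟨a, ha, rfl⟩) (by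
      rintro _ ⟨k, hk, rfl⟩
      refine cnt_eq_two (a := k) (b := -k) (fun e => neg_one_ne_one_SL S.c2 (by simpa using congrArg (· * k⁻¹) e.symm))
        fun x => ⟨fun h => S.φ_eq_iff.1 h.2, ?_⟩
      rintro (rfl | rfl)
      exacts [⟨hk, rfl⟩, ⟨neg_one_mul k ▸ mul_mem hA hk, S.φ_neg' k⟩])
  refine Eq.trans ?_ (h1.trans (mul_two _)).symm
  refine (cnt_congr (q := fun g => g ∈ A.map S.φ ∨ g * S.z ∈ A.map S.φ) fun g => ⟨?_, ?_⟩).trans ((cnt_or ?_).trans ?_)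
  · rintro ⟨h, h1, rfl | rfl⟩
    exacts [.inl ⟨h, h1, rfl⟩, .inr ⟨h, h1, by rw [mul_assoc, z_z, mul_one]⟩]
  · rintro (⟨h, h1, rfl⟩ | ⟨h, h1, e⟩)
    exacts [⟨h, h1, .inl rfl⟩, ⟨h, h1, .inr (by rw [e, mul_assoc, z_z, mul_one])⟩]
  · rintro _ ⟨h, -, rfl⟩ ⟨k, -, e⟩
    exact S.φ_ne _ _ e
  · congr 1
    exact cnt_eq_of_bij (· * S.z) (fun _ => id) (fun _ _ _ _ => mul_right_cancel) fun y hy => ⟨y * S.z⁻¹, by simpa, by simp⟩

theorem d_mem_lift (s : Kˣ) : S.d s ∈ S.lift (torS : Kˣ →* SL2 K).range := by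
  have key : ∀ a : Kˣ, S.d (a * a) ∈ S.lift (torS : Kˣ →* SL2 K).range := fun a => by
    obtain ⟨s, h1, h2⟩ := S.φ_tor (a * Units.map (S.τ : K →* K) a)
    have h3 := S.sq_of_mul (s := a * a / s) (by
      simp only [map_div₀, map_mul, Units.val_mul, Units.coe_map, MonoidHom.coe_coe] at h2 ⊢
      have := S.τ_ne s.ne_zero
      field_simp; linear_combination -h2)
    refine ⟨_, ⟨_, rfl⟩, h3.imp (fun e => Eq.trans (congrArg _ (Units.ext ?_)) h1.symm) fun e => ?_⟩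
    · field_simp at e; simpa [sq] using e
    · refine Eq.trans ?_ (congrArg (· * S.z) h1.symm)
      rw [z, ← map_mul]; congr 1; ext
      field_simp at e; simpa [sq] using e
  have h0 : ¬ IsSquare (-1 : K) := by rw [FiniteField.isSquare_neg_one_iff]; have := S.q_mod; omega
  classical
  by_cases h : IsSquare (s : K)
  · obtain ⟨a, e⟩ := h
    rw [show s = Units.mk0 a (by rintro rfl; simp at e) * Units.mk0 a (by rintro rfl; simp at e) from Units.ext e]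
    exact key _
  · obtain ⟨a, e⟩ := isSquare_mul_of_not h h0
    have h1 : a ≠ 0 := by rintro rfl; simp at e
    rw [show s = Units.mk0 a h1 * Units.mk0 a h1 * -1 from Units.ext (by simp [← e]), map_mul]
    exact mul_mem (key _) (S.z_mem_lift _)

theorem lift_mono {A A' : Subgroup (SL2 K)} (h : A ≤ A') : S.lift A ≤ S.lift A' := fun _ ⟨k, hk, e⟩ => ⟨k, h hk, e⟩

theorem cent_z : centralizer {S.z} = S.lift ⊤ := by
  refine le_antisymm (fun g hg => ?_) ?_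
  · have key : ∀ g ∈ centralizer {S.z}, g • S.oo = S.oo → g ∈ S.lift ⊤ := fun g hg h => by
      obtain ⟨t, u, v, s, rfl⟩ := fix_oo.1 h
      have h1 := mem_centralizer_singleton_iff.1 ((mul_mem_cancel_right (mem_centralizer_singleton_iff.2 (S.d_comm_z s))).1 hg)
      rw [eq_comm, ← mul_inv_eq_iff_eq_mul, z, S.d_conj] at h1
      obtain ⟨rfl, rfl, -⟩ := d_fix S.neg_ne (S.inj h1)
      exact mul_mem (S.φ_u u ▸ S.φ_mem_lift (mem_top _)) (S.lift_mono le_top (S.d_mem_lift s))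
    rcases (fix_z (S := S) (p := g • S.oo)).1 (by
      rw [← mul_smul, ← mem_centralizer_singleton_iff.1 hg, mul_smul, z, d_oo]) with e | ⟨u, e⟩
    · exact key g hg e
    · rw [pt_eq, ← mul_smul, eq_comm, smul_eq_iff_eq_inv_smul, ← mul_smul, eq_comm, ← S.φ_u, w, ← map_mul] at e
      have := key _ (mul_mem (inv_mem (mem_centralizer_singleton_iff.2 (S.φ_comm_z _))) hg) e
      rwa [mul_mem_cancel_left (inv_mem (S.φ_mem_lift (mem_top _)))] at this
  · rintro _ ⟨h, -, rfl | rfl⟩ <;> rw [mem_centralizer_singleton_iff]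
    exacts [S.φ_comm_z h, (S.φ_comm_z h).mul_left rfl]

variable {S} in
theorem exists_φ {g : Γ} (h : g * S.z = S.z * g) : ∃ h, g = S.φ h ∨ g = S.φ h * S.z :=
  let ⟨k, _, e⟩ := S.cent_z.le (mem_centralizer_singleton_iff.2 h); ⟨k, e⟩

theorem card_Cz : Nat.card (centralizer {S.z}) = Fintype.card K * (Fintype.card K + 1) * (Fintype.card K - 1) := by
  rw [cent_z, S.card_lift (mem_top _), card_top, card_SL2]

theorem equiv_Cz : Nonempty (centralizer {S.z} ≃* Multiplicative (ZMod 2) × PSL2 K) := by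
  haveI := S.finite
  let ψ : PSL2 K →* Γ := QuotientGroup.lift _ S.φ fun g hg =>
    S.φ_eq_one.2 (isScal_SL_iff.1 (isScal_iff_center_SL.2 hg))
  let ζ : Multiplicative (ZMod 2) →* Γ := MonoidHom.mk' (fun a => S.z ^ a.toAdd.val) fun a b => by
    rw [toAdd_mul, ZMod.val_add, ← pow_add, ← pow_mod_orderOf, orderOf_z, Nat.mod_mod, ← pow_mod_orderOf _ (_ + _), orderOf_z]
  have hc : ∀ a b, Commute (ζ a) (ψ b) := fun a b => by
    obtain ⟨b, rfl⟩ := toP_surjective b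
    exact (S.φ_comm_z b).symm.pow_left _
  let f := (ζ.noncommCoprod ψ hc).codRestrict (centralizer {S.z}) fun ⟨a, b⟩ => by
    obtain ⟨b, rfl⟩ := toP_surjective b
    exact mem_centralizer_singleton_iff.2 (((Commute.refl _).pow_left _).mul_left (S.φ_comm_z b))
  refine ⟨(MulEquiv.ofBijective f ((Nat.bijective_iff_surjective_and_card f).2 ⟨fun ⟨g, hg⟩ => ?_, ?_⟩)).symm⟩
  · obtain ⟨h, rfl | rfl⟩ := exists_φ (mem_centralizer_singleton_iff.1 hg)
    · exact ⟨(1, toP h), Subtype.ext ((congrArg (· * _) (map_one ζ)).trans (one_mul _))⟩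
    · exact ⟨(.ofAdd 1, toP h), Subtype.ext ((congrArg (· * _) (pow_one S.z)).trans (S.φ_comm_z h).eq.symm)⟩
  · have := S.q_mod
    rw [card_Cz, ← card_PSL2_mul, show Nat.gcd 2 (Fintype.card K - 1) = 2 from Nat.gcd_eq_left (by omega), Nat.card_prod, mul_comm]
    simp

variable [Finite Γ]

theorem card_class_z : Nat.card {j // IsConj S.z j} = Fintype.card K ^ 2 * (Fintype.card K ^ 2 - Fintype.card K + 1) := by
  have h := card_isConj_mul S.z
  have := S.q_mod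
  rw [card_Cz, S.card_eq] at h
  obtain ⟨k, hk⟩ : ∃ k, Fintype.card K = k + 1 := ⟨Fintype.card K - 1, by omega⟩
  refine Nat.eq_of_mul_eq_mul_right (mul_pos (by positivity) (by omega)) (h.trans ?_)
  rw [hk, show (k + 1) ^ 2 - (k + 1) = k ^ 2 + k by rw [Nat.sub_eq_iff_eq_add (by nlinarith)]; ring]
  simp; ring

include S in
theorem card_invol_le : Nat.card {j : Γ // orderOf j = 2} ≤ Fintype.card K ^ 2 * (Fintype.card K ^ 2 - Fintype.card K + 1) := by
  have h1 : Nat.card {j : Γ // orderOf j = 2 ∧ j ∈ S.B} ≤ Nat.card (K × K) := by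
    refine cnt_le_of_surj (fun p => S.y p.1 0 p.2 * S.z * (S.y p.1 0 p.2)⁻¹) fun j ⟨h1, h2⟩ => ?_
    rcases B_cases h2 with ⟨t, u, v, rfl⟩ | ⟨_, ⟨t, u, v, rfl⟩, b, rfl⟩ | ⟨x, -, s, h3, h4, rfl⟩
    · exact absurd (h1 ▸ orderOf_dvd_of_pow_eq_one (S.y_pow_nine t u v)) (by decide)
    · have h3 := pow_orderOf_eq_one (S.y 0 b 0 * S.z)
      rw [← orderOf_conj (S.y t u v), h1, (S.y_comm_z b).mul_pow, sq, sq, z_z, mul_one, S.y_mul, y_eq_one] at h3
      obtain rfl : b = 0 := mul_left_cancel₀ S.c2 (by simpa [two_mul] using h3.2.1)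
      refine ⟨(t, v), ?_⟩
      rw [show S.y t u v = S.y t 0 v * S.y 0 u 0 by simp [S.y_mul]]
      simp [mul_assoc, (S.y_comm_z u).left_comm]
    · rw [orderOf_conj, orderOf_injective _ S.d_inj] at h1
      have := congrArg Units.val (h1 ▸ pow_orderOf_eq_one s)
      exact (mul_self_eq_one_iff.1 (by simpa [sq] using this)).elim (fun e => absurd (Units.ext e) h3)
        fun e => absurd (Units.ext e) h4
  have h2 : Nat.card {j : Γ // orderOf j = 2 ∧ j ∉ S.B} ≤ Nat.card (S.U × Kˣ) := by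
    refine cnt_le_of_surj (fun p => p.1 * (S.d p.2 * S.w) * (p.1 : Γ)⁻¹) fun j ⟨h1, h2⟩ => ?_
    obtain ⟨x, hx, e⟩ := exists_U (mt fix_oo.1 h2)
    have h3 : j • x • S.pt 0 0 0 = S.oo := by rw [← e, ← mul_smul, ← sq, ← h1, pow_orderOf_eq_one, one_smul]
    have h4 := fix_oo.2 (S.U_le_B hx)
    obtain ⟨s, h⟩ := eq_dw (S := S) (g := x⁻¹ * j * x) (mem_H.2 ⟨by simp [mul_smul, w_oo, h3, inv_smul_eq_iff, h4],
      by simp [mul_smul, w_pt, h4, e]⟩)
    exact ⟨(⟨x, hx⟩, s), by simp [← h, mul_assoc]⟩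
  rw [cnt_split _ (· ∈ S.B)]
  refine (add_le_add h1 h2).trans_eq ?_
  have := S.q_mod
  obtain ⟨k, hk⟩ : ∃ k, Fintype.card K = k + 1 := ⟨Fintype.card K - 1, by omega⟩
  rw [Nat.card_prod, Nat.card_prod, card_U, Nat.card_units, Nat.card_eq_fintype_card, hk,
    show (k + 1) ^ 2 - (k + 1) = k ^ 2 + k by rw [Nat.sub_eq_iff_eq_add (by nlinarith)]; ring]
  simp; ring

include S in
theorem card_invol : Nat.card {j : Γ // orderOf j = 2} = Fintype.card K ^ 2 * (Fintype.card K ^ 2 - Fintype.card K + 1) :=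
  S.card_invol_le.antisymm (S.card_class_z ▸ cnt_mono fun _ h => (IsConj.orderOf_eq' h).trans S.orderOf_z)

theorem isConj_z {j : Γ} (h : orderOf j = 2) : IsConj S.z j := by_contra fun e => by
  have h1 := cnt_mono (p := fun x => IsConj S.z x ∨ x = j) (q := fun x => orderOf x = 2)
    (by rintro x (h' | rfl); exacts [(IsConj.orderOf_eq' h').trans S.orderOf_z, h])
  rw [cnt_insert e, card_class_z, S.card_invol] at h1
  omega

theorem exists_z {j : Γ} (h1 : j ≠ 1) (h2 : j * j = 1) : ∃ g, j = g * S.z * g⁻¹ :=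
  (isConj_iff.1 (S.isConj_z (orderOf_eq_prime (by rwa [sq]) h1))).imp fun _ => Eq.symm

include S in
theorem equiv_C {j : Γ} (h1 : j ≠ 1) (h2 : j * j = 1) : Nonempty (centralizer {j} ≃* Multiplicative (ZMod 2) × PSL2 K) := by
  obtain ⟨g, rfl⟩ := S.exists_z h1 h2
  obtain ⟨e⟩ := S.equiv_Cz
  exact ⟨((MulEquiv.subgroupCongr (cj_centralizer_singleton ..).symm).trans (cjEquiv g _).symm).trans e⟩

theorem order_Cz {g : Γ} (h : g * S.z = S.z * g) :
    g ^ 6 = 1 ∨ g ^ (Fintype.card K - 1) = 1 ∨ g ^ ((Fintype.card K + 1) / 2) = 1 := by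
  classical
  haveI := S.charP
  have := S.q_mod
  have key : ∀ k n, Even n → S.φ k ^ n = 1 → (S.φ k * S.z) ^ n = 1 := fun k n ⟨a, e⟩ h => by
    rw [(S.φ_comm_z k).mul_pow, h, e, ← two_mul, pow_mul, sq, z_z, one_pow, one_mul]
  have : ∀ k, S.φ k ^ 6 = 1 ∨ S.φ k ^ (Fintype.card K - 1) = 1 ∨ S.φ k ^ ((Fintype.card K + 1) / 2) = 1 := fun k => by
    simp only [← map_pow]
    rcases order_cases k with h | ⟨-, h⟩ | h <;> rw [orderOf_dvd_iff_pow_eq_one] at h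
    · exact .inl (by rw [ringChar.eq K 3] at h; rw [h, map_one])
    · refine .inr (.inr (S.φ_eq_one.2 (isScal_SL_iff.1 (isScal_of_mul_self_eq_one S.c2 ?_))))
      rwa [← pow_add, show _ + _ = Fintype.card K + 1 by omega]
    · exact .inr (.inl (by rw [h, map_one]))
  obtain ⟨k, rfl | rfl⟩ := exists_φ h
  · exact this k
  · exact (this k).imp (key _ _ (by decide)) (.imp (key _ _ (Nat.even_iff.2 (by omega))) (key _ _ (Nat.even_iff.2 (by omega))))

include S in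
theorem card_syl_two (P : Sylow 2 Γ) : Nat.card P = 8 := by
  obtain ⟨k, hk⟩ : ∃ k, Fintype.card K = 8 * k + 3 := ⟨Fintype.card K / 8, by have := S.q_mod; omega⟩
  have h : Nat.card Γ = 2 ^ 3 * ((8 * k + 3) ^ 3 * (4 * k + 1) * (2 * (64 * k ^ 3 + 72 * k ^ 2 + 27 * k + 3) + 1)) := by
    rw [S.card_eq, hk, show 8 * k + 3 - 1 = 8 * k + 2 from rfl]; ring
  rw [P.card_eq_multiplicity, h, Nat.factorization_mul (by simp) (by positivity), Nat.Prime.factorization_pow Nat.prime_two,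
    Finsupp.add_apply, Nat.factorization_eq_zero_of_not_dvd (by
      rw [← even_iff_two_dvd, Nat.not_even_iff_odd]
      exact ((Odd.pow ⟨4 * k + 1, by ring⟩).mul ⟨2 * k, by ring⟩).mul ⟨_, rfl⟩)]
  simp

include S in
theorem sq_of_two {x j : Γ} (h1 : j ≠ 1) (h2 : j * j = 1) (h : x * j = j * x) {n : ℕ} (hx : x ^ 2 ^ n = 1) : x * x = 1 := by
  obtain ⟨g, rfl⟩ := S.exists_z h1 h2
  have h3 := S.order_Cz (g := g⁻¹ * x * g) (by simpa [mul_assoc] using congrArg (g⁻¹ * · * g) h)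
  simp only [← orderOf_dvd_iff_pow_eq_one, orderOf_conj'] at h3 hx
  rw [← sq, ← orderOf_dvd_iff_pow_eq_one]
  obtain ⟨k, -, e⟩ := (Nat.dvd_prime_pow Nat.prime_two).1 hx
  have := S.q_mod
  rw [e] at h3 ⊢
  rcases k with _ | _ | k
  exacts [by simp, by simp, by
    rcases h3 with h | h | h <;> have := (pow_dvd_pow 2 (by omega : 2 ≤ k + 1 + 1)).trans h <;> omega]

include S in
theorem sq_of_pgroup {P : Subgroup Γ} (hP : IsPGroup 2 P) {x : Γ} (hx : x ∈ P) : x * x = 1 := by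
  by_cases h : x = 1
  · simp [h]
  haveI : Nontrivial P := ⟨⟨⟨x, hx⟩, 1, by simpa⟩⟩
  haveI := hP.center_nontrivial
  obtain ⟨j, hj⟩ := exists_prime_orderOf_dvd_card' (G := center P) 2
    ((hP.to_subgroup _).card_eq_or_dvd.resolve_left Finite.one_lt_card.ne')
  have h1 : orderOf ((j : P) : Γ) = 2 := by rw [orderOf_coe, orderOf_coe, hj]
  obtain ⟨n, hn⟩ := IsPGroup.pow_eq_one_of_mem hP hx
  exact S.sq_of_two (j := j) (by rintro e; simp [e] at h1) (by rw [← sq, ← h1, pow_orderOf_eq_one])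
    (congrArg Subtype.val (mem_center_iff.1 j.2 ⟨x, hx⟩)) hn

include S in
theorem comm_of_pgroup {P : Subgroup Γ} (hP : IsPGroup 2 P) {x y : Γ} (hx : x ∈ P) (hy : y ∈ P) : x * y = y * x := by
  rw [← inv_eq_of_mul_eq_one_right (S.sq_of_pgroup hP (mul_mem hx hy)), mul_inv_rev,
    inv_eq_of_mul_eq_one_right (S.sq_of_pgroup hP hx), inv_eq_of_mul_eq_one_right (S.sq_of_pgroup hP hy)]

end ReeS
end Cfsg.Agent.Ree
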