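import Cfsg.Agent.Lib.Ree.Basic
import Cfsg.Agent.Lib.Transfer.Residual
import Cfsg.Agent.S0721
import Cfsg.Agent.S1011

set_option autoImplicit false
set_option linter.unusedSectionVars false
set_option linter.style.haveILetI false

/-! The Ree group `²G₂(3)`. -/

namespace Cfsg.Agent.Ree
open Cfsg.Lie Chev Subgroup
open scoped commutatorElement

theorem mk_one {Γ : Type*} [Group Γ] {N : Subgroup Γ} [N.Normal] {n : Γ} (h : n ∈ N) : QuotientGroup.mk' N n = 1 := (QuotientGroup.eq_one_iff _).2 h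

namespace ReeS
variable {Γ : Type*} [Group Γ] [Finite Γ] (S : ReeS 0 (ZMod 3) Γ)

theorem τ3 (t : ZMod 3) : S.τ t = t := congrFun (congrArg DFunLike.coe (RingHom.ext_zmod S.τ (.id _))) t

theorem not_mem_comm : S.y 0 1 0 ∉ commutator Γ := fun h => by
  let Q : Subgroup Γ :=
    { carrier := {g | ∃ t v, g = S.y t (t ^ 2) v}
      one_mem' := ⟨0, 0, by simp⟩
      mul_mem' := by
        rintro _ _ ⟨t, _, rfl⟩ ⟨t', _, rfl⟩
        exact ⟨t + t', _, by rw [S.y_mul, S.τ3]; congr 1; revert t t'; decide⟩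
      inv_mem' := by
        rintro _ ⟨t, _, rfl⟩
        exact ⟨-t, _, by rw [S.y_inv, S.τ3]; congr 1; revert t; decide⟩ }
  obtain ⟨t, v, e⟩ := Transfer.focalSubgroup_le_of (P := S.U) (Q₁ := Q) (fun x hx k hk => by
    by_cases h1 : x = 1
    · simp [h1]
    obtain ⟨a, b, c, s, rfl⟩ := mem_B_of_conj hx h1 (S.U_le_B hk)
    obtain ⟨t, u, v, rfl⟩ := hx
    rw [show ∀ x, S.y a b c * S.d s * x * (S.y a b c * S.d s)⁻¹ = S.y a b c * (S.d s * x * (S.d s)⁻¹) * (S.y a b c)⁻¹ from fun _ => by group, S.d_conj]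
    simp only [S.y_inv, S.y_mul, S.τ3]
    refine ⟨_, _, S.y_inj.2 ⟨rfl, ?_, rfl⟩⟩
    clear * -
    revert a b s t u; decide +kernel) ((commutator_inf_eq_focalSubgroup S.syl).le ⟨h, S.y_mem ..⟩)
  obtain ⟨rfl, e, -⟩ := S.inj e
  simp at e

variable (hU : ∀ Y : Subgroup Γ, Y.Normal → S.U ≤ Y → Y = ⊤) {N : Subgroup Γ} [hN : N.Normal] (h0 : N ≠ ⊥)
include hU h0

theorem exists_cos (g : Γ) : ∃ n ∈ N, ∃ u, g = n * S.y 0 u 0 := by
  have h1 : ∀ g, ∃ n ∈ N, ∃ b ∈ S.B, g = n * b := by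
    obtain ⟨n, a, b⟩ : ∃ n ∈ N, n ∉ S.B := by_contra fun h => h0 (eq_bot_iff.2 fun n hn => by
      have k : ∀ p : Γ ⧸ S.B, n • p = p := fun p => by
        induction p using QuotientGroup.induction_on with
        | H g => exact QuotientGroup.eq.2 (by_contra fun c => h ⟨_, hN.conj_mem' _ (inv_mem hn) g, by simpa [mul_assoc] using c⟩)
      obtain ⟨s, rfl⟩ := mem_H.2 ⟨k _, k _⟩
      obtain rfl | rfl := (by decide : ∀ s : (ZMod 3)ˣ, s = 1 ∨ s = -1) s
      · simp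
      · rcases fix_z.1 (k (S.pt 1 0 0)) with e | ⟨u, e⟩
        exacts [absurd e (S.pt_ne _ _ _), by simpa using S.pt_inj.1 e])
    intro g
    by_cases c : g ∈ S.B
    · exact ⟨1, one_mem _, g, c, by simp⟩
    obtain ⟨x, d, e⟩ := exists_U (mt fix_oo.1 b)
    obtain ⟨x', d', e'⟩ := exists_U (mt fix_oo.1 c)
    refine ⟨_, hN.conj_mem n a (x' * x⁻¹), _, fix_oo.1 ?_, (mul_inv_cancel_left _ _).symm⟩
    rw [mul_smul, inv_smul_eq_iff, e', mul_smul, mul_smul, fix_oo.2 (inv_mem (S.U_le_B (mul_mem d' (inv_mem d)))), e, mul_smul, inv_smul_smul]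
  have h2 : ∀ g, ∃ n ∈ N, ∃ u ∈ S.U, n * u = g := fun g => mem_sup_of_normal_left.1 ((hU _ ⟨fun x hx g => by
    obtain ⟨n, a, b, c, rfl⟩ := h1 g
    obtain ⟨n', d, u, e, rfl⟩ := mem_sup_of_normal_left.1 hx
    simpa [mul_assoc] using mul_mem (mul_mem (mem_sup_left a) (mul_mem_sup (hN.conj_mem _ d b) (S.conj_mem_U c e))) (mem_sup_left (inv_mem a))⟩
      le_sup_right).ge (mem_top g))
  have h3 : S.z ∈ N := by
    obtain ⟨n, a, _, ⟨t, u, v, rfl⟩, e⟩ := h2 S.z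
    have : (QuotientGroup.mk' N S.z) ^ 9 = 1 := by
      rw [← e, map_mul, mk_one a, one_mul, ← map_pow, S.y_pow_nine, map_one]
    rwa [← map_pow, pow_succ, show 8 = 2 * 4 from rfl, pow_mul, sq, S.z_z, one_pow, one_mul, QuotientGroup.mk'_apply, QuotientGroup.eq_one_iff] at this
  obtain ⟨n, a, _, ⟨t, u, v, rfl⟩, rfl⟩ := h2 g
  have h4 : ∀ x, S.z * x * S.z⁻¹ * x⁻¹ ∈ N := fun x => by simpa [mul_assoc] using mul_mem h3 (hN.conj_mem _ (inv_mem h3) x)
  obtain ⟨c, k, e⟩ : ∃ c k, S.y t u v = S.z * S.y t 0 0 * S.z⁻¹ * (S.y t 0 0)⁻¹ * (S.z * S.y 0 0 c * S.z⁻¹ * (S.y 0 0 c)⁻¹) * S.y 0 k 0 := by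
    simp only [S.z_conj, S.y_inv, S.y_mul, S.τ3, S.y_inj]
    revert t u v; decide
  exact ⟨_, mul_mem a (mul_mem (h4 _) (h4 _)), k, by rw [e, mul_assoc n]⟩

theorem comm_le : commutator Γ ≤ N := commutator_le.2 fun g _ g' _ => by
  obtain ⟨n, a, u, rfl⟩ := S.exists_cos hU h0 g
  obtain ⟨n', a', u', rfl⟩ := S.exists_cos hU h0 g'
  rw [← QuotientGroup.eq_one_iff, ← QuotientGroup.mk'_apply, map_commutatorElement, map_mul, map_mul, mk_one a,
    mk_one a', one_mul, one_mul, ← map_commutatorElement, commutatorElement_eq_one_iff_mul_comm.2 (by simp [S.y_mul, add_comm]), map_one]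

omit h0 in
theorem comm3 : Nat.card (commutator Γ) = 504 ∧ IsSimpleGroup (commutator Γ) := by
  have h0 : commutator Γ ≠ ⊥ := fun h => by
    have := commutatorElement_eq_one_iff_mul_comm.1 (h.le (commutator_mem_commutator (mem_top S.z) (mem_top (S.y 0 0 1))))
    rw [← mul_inv_eq_iff_eq_mul, S.z_conj, S.y_inj] at this
    exact absurd this.2.2 (by decide)
  have h1 : (commutator Γ).index = 3 := by
    have : zpowers (QuotientGroup.mk' (commutator Γ) (S.y 0 1 0)) = ⊤ := eq_top_iff.2 fun g _ => by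
      obtain ⟨g, rfl⟩ := QuotientGroup.mk'_surjective _ g
      obtain ⟨n, a, u, rfl⟩ := S.exists_cos hU h0 g
      rw [map_mul, mk_one a, one_mul]
      obtain rfl | rfl | rfl := (by decide : ∀ u : ZMod 3, u = 0 ∨ u = 1 ∨ u = 1 + 1) u
      exacts [by simp, mem_zpowers _, ⟨2, by simp only [zpow_two, ← map_mul, S.y_mul]; simp⟩]
    rw [index, ← card_top, ← this, Nat.card_zpowers]
    refine orderOf_eq_prime ?_ (mt (QuotientGroup.eq_one_iff _).1 S.not_mem_comm)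
    rw [← map_pow, S.y_cube]; simp
  have h2 : Nat.card (commutator Γ) = 504 := by
    have := (commutator Γ).card_mul_index
    rw [h1, S.card_eq, ZMod.card] at this
    omega
  obtain ⟨T, _, m, a, b, ⟨e⟩⟩ := S0721.result _ h0 fun M c d => or_iff_not_imp_left.2 fun f => d.antisymm (S.comm_le hU f)
  have h3 := Nat.card_congr e.toEquiv
  rw [h2, Nat.card_fun, Nat.card_fin] at h3
  obtain rfl : m = 1 := by_contra fun c => absurd ((pow_dvd_pow 7 (by omega : 2 ≤ m)).trans (h3 ▸ pow_dvd_pow_of_dvd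
    ((by decide : Nat.Prime 7).dvd_of_dvd_pow (h3 ▸ (by decide : 7 ∣ 504))) m)) (by decide)
  exact ⟨h2, (e.trans (MulEquiv.funUnique _ _)).isSimpleGroup⟩
end ReeS

theorem ree3 : Nat.card (commutator (twistedG2 (ZMod 3) 1)) = 504 ∧ IsSimpleGroup (commutator (twistedG2 (ZMod 3) 1)) := by
  obtain ⟨S, h, -⟩ := exists_reeS (K := ZMod 3) (m := 0) rfl
  have := S.finite
  refine S.comm3 fun Y a b => ?_
  have hf : ∀ t : ZMod 3, RingHom.id _ t = t ^ 1 := by simp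
  have hθ : ∀ t : ZMod 3, RingHom.id _ (RingHom.id _ t) ^ 3 = t := by decide
  exact (sub_2G2 hf hθ).eq_top (hY := a) (checkedG2.inc_inj _) (gen_2G2 hf hθ) fun k g hg => b ((h g).1 (checkedG2.adj_U.le (St.UL_le_U _ hg)))

end Cfsg.Agent.Ree
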