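import Cfsg.Agent.Lib.Ree.Schur
import Cfsg.Agent.Lib.Sz.Rep

set_option autoImplicit false
set_option linter.unusedSectionVars false
set_option linter.style.haveILetI false

/-! Generation and the smallest degree of a complex representation of a small Ree group. -/

namespace Cfsg.Agent.Ree

open Perm.GL2 MulAction Subgroup Transfer Suz Module
open scoped commutatorElement

namespace ReeS
variable {m : ℕ} {K : Type*} [Field K] [Fintype K] {Γ : Type*} [Group Γ] [Finite Γ] (S : ReeS m K Γ) (hm : 1 ≤ m)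

theorem comm_y1 (t u v u' v' : K) : ⁅S.y t u v, S.y 0 u' v'⁆ = S.y 0 0 (u' * t) := by
  rw [commutatorElement_def, mul_inv_eq_iff_eq_mul, mul_inv_eq_iff_eq_mul]; simp [S.y_mul, y_inj]; grind

include hm in
theorem U_le {M : Subgroup Γ} (h : S.H ≤ M) {t u v : K} (h0 : t ≠ 0) (h1 : S.y t u v ∈ M) : S.U ≤ M := by
  have c : ∀ s, ∀ x ∈ M, S.d s * x * (S.d s)⁻¹ ∈ M := fun s x hx => mul_mem (mul_mem (h (S.d_mem s)) hx) (inv_mem (h (S.d_mem s)))
  have a1 : ∀ t', ∃ u v, S.y t' u v ∈ M := fun t' => by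
    by_cases e : t' = 0
    · exact ⟨0, 0, by simp [e]⟩
    · exact ⟨_, _, by simpa [S.d_conj, h0] using c (Units.mk0 _ (div_ne_zero e h0)) _ h1⟩
  obtain ⟨s, s1, s2⟩ := S.exists_gen hm
  obtain ⟨u0, v0, b0, b1⟩ : ∃ u v, u ≠ 0 ∧ S.y 0 u v ∈ M := by
    obtain ⟨u, v, e⟩ := a1 1
    obtain ⟨u', v', e'⟩ := a1 s
    refine ⟨s - S.τ s, _, fun e => ?_, by
      convert mul_mem (mul_mem (mul_mem e e') (inv_mem e)) (inv_mem e') using 1
      simp only [y_inv, S.y_mul, y_inj, map_neg, map_one]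
      exact ⟨by ring, by ring, rfl⟩⟩
    have h2 := S.ττ s
    rw [← sub_eq_zero.1 e, ← sub_eq_zero.1 e] at h2
    have := s.ne_zero
    have : (s : K) ≠ 1 := fun e => s1 (Units.ext e)
    have : (s : K) ≠ -1 := fun e => s2 (Units.ext e)
    grind
  have a2 : ∀ u, ∃ v, S.y 0 u v ∈ M := fun u => by
    by_cases e : u = 0
    · exact ⟨0, by simp [e]⟩
    obtain ⟨s, e | e⟩ := S.exists_sτ (div_ne_zero e b0)
    · exact ⟨_, by simpa [S.d_conj, e, b0] using c s _ b1⟩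
    · exact ⟨_, by simpa [S.d_conj, e, b0, y_inv] using inv_mem (c s _ b1)⟩
  have a3 : ∀ v, S.y 0 0 v ∈ M := fun v => by
    obtain ⟨u, v', e⟩ := a1 1
    obtain ⟨v'', e'⟩ := a2 v
    simpa [← commutatorElement_def, comm_y1] using mul_mem (mul_mem (mul_mem e e') (inv_mem e)) (inv_mem e')
  rintro _ ⟨t, u, v, rfl⟩
  obtain ⟨u', v', e⟩ := a1 t
  obtain ⟨v'', e'⟩ := a2 (u - u')
  simpa [S.y_mul] using mul_mem (mul_mem e e') (a3 (v - (v' + v'')))

include S hm in
theorem two_gen : ∃ a b : Γ, closure {a, b} = ⊤ := by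
  obtain ⟨s, hs⟩ := IsCyclic.exists_generator (α := Kˣ)
  refine ⟨S.d s, S.y 1 0 0 * S.w, eq_top_iff.2 fun g _ => ?_⟩
  generalize hM : Subgroup.closure (G := Γ) _ = M
  have h1 : S.H ≤ M := by
    rintro _ ⟨s', rfl⟩
    obtain ⟨k, rfl⟩ := hs s'
    exact map_zpow S.d s k ▸ zpow_mem (hM ▸ subset_closure (by simp)) k
  have h2 : S.y 1 0 0 * S.w ∈ M := hM ▸ subset_closure (by simp)
  have h3 := mul_mem (mul_mem (mul_mem h2 (h1 (S.d_mem (-1)))) (inv_mem h2)) (h1 (S.d_mem (-1)))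
  rw [show S.y 1 0 0 * S.w * S.d (-1) * (S.y 1 0 0 * S.w)⁻¹ * S.d (-1) = S.y 1 0 0 * (S.z * (S.y 1 0 0)⁻¹ * S.z⁻¹) by
    rw [z_inv, mul_assoc _ S.w, ← z, S.w_comm_z.eq]; group, y_inv, z_conj, S.y_mul] at h3
  have h4 := S.U_le hm h1 (by simpa [one_add_one_eq_two] using S.c2) h3
  have h5 : S.w ∈ M := (mul_mem_cancel_left (h4 (S.y_mem ..))).1 h2
  rcases S.bruhat g with ⟨t, u, v, s, rfl⟩ | ⟨t, u, v, s, t', u', v', rfl⟩
  exacts [mul_mem (h4 (S.y_mem ..)) (h1 (S.d_mem _)),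
    mul_mem (mul_mem (mul_mem (h4 (S.y_mem ..)) (h1 (S.d_mem _))) h5) (h4 (S.y_mem ..))]

theorem le_finrank {V : Type*} [AddCommGroup V] [Module ℂ V] [FiniteDimensional ℂ V] (ρ : Representation ℂ Γ V)
    (h : ρ (S.y 0 0 1) ≠ 1) : Fintype.card K ^ 2 - Fintype.card K + 1 ≤ finrank ℂ V := by
  classical
  have hψ := AddChar.FiniteField.primitiveChar_to_Complex_isPrimitive K
  generalize AddChar.FiniteField.primitiveChar_to_Complex K = ψ at hψ
  have h1 : ∀ x, ψ (-x) * ψ x = 1 := fun x => by rw [← AddChar.map_add_eq_mul, neg_add_cancel, AddChar.map_zero_eq_one]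
  let W : K → Submodule ℂ V := fun c => ⨅ b, End.eigenspace (ρ (S.y 0 0 b)) (ψ (c * b))
  have hW : ∀ {c v}, v ∈ W c ↔ ∀ b, ρ (S.y 0 0 b) v = ψ (c * b) • v := by simp [W]
  have hq : (Fintype.card K : ℂ) ≠ 0 := by simp
  have h2 : ∀ c, LinearMap.IsProj (W c) ((Fintype.card K : ℂ)⁻¹ • ∑ b, ψ (-c * b) • ρ (S.y 0 0 b)) := fun c =>
    ⟨fun v => hW.2 fun b => by
      simp only [LinearMap.smul_apply, LinearMap.sum_apply, map_smul, map_sum, ← End.mul_apply, ← map_mul, y1_mul]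
      rw [smul_comm, Finset.smul_sum (r := ψ _), ← Equiv.sum_comp (Equiv.addLeft b) (fun x => ψ (c * b) • ψ (-c * x) • ρ (S.y 0 0 x) v)]
      simp [mul_add, AddChar.map_add_eq_mul, smul_smul, ← mul_assoc, (mul_comm ..).trans (h1 _)],
    fun v hv => by simp [hW.1 hv, smul_smul, h1, ← Nat.cast_smul_eq_nsmul ℂ]⟩
  have h3 : finrank ℂ V = ∑ c, finrank ℂ (W c) := by
    have : ∑ c, (Fintype.card K : ℂ)⁻¹ • ∑ b, ψ (-c * b) • ρ (S.y 0 0 b) = 1 := by
      rw [← Finset.smul_sum, Finset.sum_comm]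
      simp [← Finset.sum_smul, ← mul_neg, AddChar.sum_mulShift _ hψ, smul_smul]
    have := congrArg (LinearMap.trace ℂ V) this
    simp only [map_sum (LinearMap.trace ℂ V), (h2 _).trace, LinearMap.trace_one] at this
    exact_mod_cast this.symm
  have h4 : ∀ c c', c ≠ 0 → c' ≠ 0 → finrank ℂ (W c) ≤ finrank ℂ (W c') := fun c c' h h' => by
    obtain ⟨s, hs⟩ := S.exists_δ (div_ne_zero h' h)
    refine LinearMap.finrank_le_finrank_of_injective (f := (ρ (S.d s)⁻¹).restrict (p := W c) (q := W c') fun v hv => hW.2 fun b => ?_)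
      fun v w e => Subtype.ext (by simpa using congrArg (ρ (S.d s) ·.1) e)
    rw [← End.mul_apply, ← map_mul, ← inv_mul_cancel_left (S.d s) (S.y 0 0 b), mul_assoc, S.d_conj, map_mul, End.mul_apply, hs,
      mul_zero, mul_zero, hW.1 hv, map_smul, ← mul_assoc, mul_div_cancel₀ _ h]
  have h5 : finrank ℂ V = finrank ℂ (W 0) + (Fintype.card K - 1) * finrank ℂ (W 1) := by
    rw [h3, ← Finset.add_sum_erase _ _ (Finset.mem_univ 0), Finset.sum_congr rfl fun c hc =>
      le_antisymm (h4 c 1 (by simpa using hc) one_ne_zero) (h4 1 c one_ne_zero (by simpa using hc))]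
    simp
  haveI : Nontrivial (W 1) := nontrivial_of_finrank_pos (R := ℂ) (Nat.pos_of_ne_zero fun e => h (LinearMap.ext fun v =>
    (hW.1 ((Submodule.eq_top_of_finrank_eq (by simpa [e] using h5.symm)).ge (Submodule.mem_top (x := v))) 1).trans
      (by rw [zero_mul, AddChar.map_zero_eq_one, one_smul]; rfl)))
  let σ := Representation.subrepresentation (ρ.comp S.U.subtype) (W 1) (by
    rintro ⟨_, t, u, v, rfl⟩ x hx
    refine hW.2 fun c => ?_
    simp only [MonoidHom.comp_apply, subtype_apply]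
    rw [← End.mul_apply, ← map_mul, show S.y 0 0 c * S.y t u v = S.y t u v * S.y 0 0 c by simp [S.y_mul, add_comm], map_mul,
      End.mul_apply, hW.1 hx, map_smul])
  obtain ⟨r, hr⟩ : ∃ r, ψ r ≠ 1 := by
    by_contra! e
    exact hψ one_ne_zero (AddChar.ext _ _ fun x => by simp [e])
  have h0 : ∀ g x : S.U, ∀ c, ⁅x.1, g.1⁆ = S.y 0 0 c → ψ c ≠ 1 → LinearMap.trace ℂ _ (σ g) = 0 := fun g x c e hc => by
    have h7 : σ x * σ g * σ x⁻¹ = ψ c • σ g := by
      rw [← map_mul, ← map_mul, show (x * g * x⁻¹ : S.U) = ⟨_, S.y_mem 0 0 c⟩ * g from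
        Subtype.ext (by simp [← e, commutatorElement_def]), map_mul]
      ext v
      simpa [σ] using hW.1 (σ g v).2 _
    have := congrArg (LinearMap.trace ℂ _) h7
    rw [LinearMap.trace_mul_cycle, ← map_mul, inv_mul_cancel, map_one, one_mul, map_smul, smul_eq_mul] at this
    grind
  have h6 := card_le_of_trace σ (fun i : K × K => ⟨_, S.y_mem i.1 i.2 0⟩) fun i j e => by
    generalize hg : (_ * _ : S.U) = g
    obtain ⟨_, t, u, v, rfl⟩ := g
    by_cases h : t = 0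
    · subst h
      refine h0 _ ⟨_, S.y_mem (r / u) 0 0⟩ _ (S.comm_y1 ..) ((mul_div_cancel₀ r fun h : u = 0 => e ?_).symm ▸ hr)
      have := congrArg Subtype.val hg
      rw [coe_mul, coe_inv, inv_mul_eq_iff_eq_mul, S.y_mul, y_inj] at this
      exact Prod.ext (by simp [this.1]) (by simp [this.2.1, h])
    · exact h0 _ ⟨_, S.y_mem 0 (-r / t) 0⟩ r (by rw [← commutatorElement_inv, comm_y1]; simp [y_inv, h]) hr
  rw [Nat.card_prod, Nat.card_eq_fintype_card, Nat.mul_self_le_mul_self_iff] at h6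
  obtain ⟨k, e1, -, e2⟩ := S.exists_k
  rw [← cc, e2, h5, e1]
  rw [e1] at h6 h5
  by_cases e : finrank ℂ (W 0) = 0; swap
  · have := Nat.pos_of_ne_zero e
    simp only [show 24 * k + 3 - 1 = 24 * k + 2 from rfl]
    nlinarith
  have tr : ∀ g x, LinearMap.trace ℂ V (ρ (g * x * g⁻¹)) = LinearMap.trace ℂ V (ρ x) := fun g x => by
    rw [map_mul ρ, map_mul ρ, LinearMap.trace_mul_cycle, ← map_mul, inv_mul_cancel, map_one, one_mul]
  have h7 : LinearMap.trace ℂ V (ρ S.z) = 0 := by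
    have h8 : ∑ b, ρ (S.y 0 0 b) = 0 := LinearMap.ext fun v => by
      simpa [Submodule.finrank_eq_zero.1 e] using (h2 0).1 v
    have h9 : ∀ b, LinearMap.trace ℂ V (ρ S.z * ρ (S.y 0 0 b)) = LinearMap.trace ℂ V (ρ S.z) := fun b => by
      rw [← map_mul, show S.z * S.y 0 0 b = S.y 0 0 b * S.z * (S.y 0 0 b)⁻¹ by
        rw [eq_mul_inv_iff_mul_eq, mul_assoc, y1_mul, ← mul_inv_eq_iff_eq_mul, z_conj, y_inj]
        exact ⟨neg_zero, add_zero _, by linear_combination -b * S.c3⟩, tr]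
    have := congrArg (fun x => LinearMap.trace ℂ V (ρ S.z * x)) h8
    simpa [Finset.mul_sum, h9] using this
  have h8 : ∀ j, j ≠ 1 → j * j = 1 → LinearMap.trace ℂ V (ρ j) = 0 := fun j a b => by
    obtain ⟨g, rfl⟩ := S.exists_z a b
    rw [tr, h7]
  have c1 : S.z * S.i = S.i * S.z := (S.φ_comm_z _).symm
  have c2 : S.i * S.z * (S.i * S.z) = 1 := (mem_V'.1 (mul_mem S.i_mem_V S.z_mem_V)).2
  have h9 : IsIdempotentElem ((4 : ℂ)⁻¹ • (1 + ρ S.z + ρ S.i + ρ (S.i * S.z))) := by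
    simp only [IsIdempotentElem, smul_mul_smul_comm, mul_add, add_mul, one_mul, mul_one, ← map_mul, c1, c2, z_z, i_i, ← mul_assoc,
      mul_assoc _ S.z S.z, mul_assoc _ S.z S.i, map_one]
    module
  have h10 := (LinearMap.IsIdempotentElem.isProj_range _ h9).trace
  rw [map_smul, map_add, map_add, map_add, h7, h8 _ S.i_ne S.i_i, h8 _ (fun e => S.i_ne_z (by
    rw [eq_inv_of_mul_eq_one_left e, z_inv])) c2, LinearMap.trace_one, smul_eq_mul, inv_mul_eq_iff_eq_mul₀ (by norm_num)] at h10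
  simp only [add_zero] at h10
  norm_cast at h10
  simp only [show 24 * k + 3 - 1 = 24 * k + 2 from rfl, e, zero_add] at *
  obtain h | h := h6.eq_or_lt
  · rw [← h, h10] at h5
    ring_nf at h5
    omega
  · nlinarith

end ReeS
end Cfsg.Agent.Ree
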