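import Cfsg.Agent.Lib.Ree.App
import Cfsg.Agent.Lib.Sz.Schur

set_option autoImplicit false
set_option linter.unusedSectionVars false
set_option linter.style.haveILetI false

/-! The Schur multiplier of the small Ree groups. -/

namespace Cfsg.Agent.Ree

open Perm.GL2 MulAction Subgroup Transfer Suz Chev
open scoped commutatorElement

section Central
variable {E G : Type*} [Group E] [Group G] {π : E →* G}

theorem pairing_one {F : Type*} [Field F] {f : F → F → E} {γ : F → F}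
    (h1 : ∀ a a' b, f (a + a') b = f a b * f a' b) (h2 : ∀ a b b', f a (b + b') = f a b * f a b')
    (h3 : ∀ a b, a ≠ 0 → f a b = f 1 (γ a * b)) {a : F} (h0 : a ≠ 0) (h1' : 1 + a ≠ 0) (h : γ (1 + a) ≠ γ 1 + γ a) (a' b : F) :
    f a' b = 1 := by
  have h4 : ∀ c, f 1 c = 1 := fun c => by
    obtain ⟨b, rfl⟩ : ∃ b, c = (γ (1 + a) - (γ 1 + γ a)) * b := ⟨c / _, (mul_div_cancel₀ _ (sub_ne_zero.2 h)).symm⟩
    have := h1 1 a b
    rw [h3 _ _ h1', h3 1 b one_ne_zero, h3 a b h0, ← h2, ← add_mul, ← sub_add_cancel (γ (1 + a)) (γ 1 + γ a), add_mul, h2] at this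
    simpa using this
  by_cases e : a' = 0
  · simpa [e] using h1 0 0 b
  · rw [h3 _ _ e, h4]

theorem add_one_of_neg {F : Type*} [Field F] (h3 : (3 : F) = 0) {f : F → E} (h1 : ∀ a a', f (a + a') = f a * f a')
    (h2 : ∀ a, f (-a) = f a) (a : F) : f a = 1 := by
  have := h1 a a
  rw [show a + a = -a by linear_combination a * h3, h2] at this
  simpa using this

variable (hc : π.ker ≤ center E) (hs : Function.Surjective π)

/-- the canonical lift of an abelian subgroup acted on freely -/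
def LW (h : G) (A : Subgroup G) : Subgroup E := closure (lc hs h '' A)

include hc

include hs in
theorem exists_pairing' {W : Subgroup E} {M N : Subgroup G} (hW : ∀ w ∈ W, π w = 1 → w = 1) (hMN : M ≤ N)
    (hN : ∀ n, π n ∈ N → ∀ w ∈ W, n * w * n⁻¹ ∈ W) (h : ∀ a ∈ M, ∀ u ∈ N, ⁅a, u⁆ ∈ W.map π) :
    ∃ f : G → G → E, (∀ a u, π a ∈ M → π u ∈ N → (f (π a) (π u) = 1 ↔ ⁅a, u⁆ ∈ W)) ∧
      (∀ a ∈ M, ∀ a' ∈ M, ∀ u ∈ N, f (a * a') u = f a u * f a' u) ∧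
      (∀ a ∈ M, ∀ u ∈ N, ∀ u' ∈ N, f a (u * u') = f a u * f a u') ∧
      ∀ e, (∀ w ∈ W, e * w * e⁻¹ ∈ W) → ∀ a ∈ M, ∀ u ∈ N, π e * a * (π e)⁻¹ ∈ M → π e * u * (π e)⁻¹ ∈ N →
        f (π e * a * (π e)⁻¹) (π e * u * (π e)⁻¹) = f a u := by
  obtain ⟨f, f1, f2, f3, f4⟩ := exists_pairing hc (M := M.comap π) (N := N.comap π) hW (comap_mono hMN) hN
    fun a ha u hu => map_commutatorElement π a u ▸ h _ ha _ hu
  choose τ hτ using id hs
  have c4 : ∀ x y x' y', π x ∈ M → π y ∈ N → π x' = π x → π y' = π y → f x' y' = f x y :=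
    fun x y x' y' hx hy e e' => f4 1 (by simp) x hx y hy x' (by simpa [e] using hx) y' (by simpa [e'] using hy)
      (by simpa) (by simpa)
  refine ⟨fun a u => f (τ a) (τ u), fun a u ha hu => by
    beta_reduce; rw [c4 a u _ _ ha hu (hτ _) (hτ _), (f1 a ha u hu).2],
    fun a ha a' ha' u hu => ?_, fun a ha u hu u' hu' => ?_, fun e he a ha u hu h1 h2 =>
      f4 e he _ (by simpa [hτ]) _ (by simpa [hτ]) _ (by simpa [hτ]) _ (by simpa [hτ]) (by simp [hτ]) (by simp [hτ])⟩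
  · rw [← f2 _ (by simpa [hτ]) _ (by simpa [hτ]) _ (by simpa [hτ])]
    exact c4 _ _ _ _ (by simpa [hτ] using mul_mem ha ha') (by simpa [hτ]) (by simp [hτ]) rfl
  · rw [← f3 _ (by simpa [hτ]) _ (by simpa [hτ]) _ (by simpa [hτ])]
    exact c4 _ _ _ _ (by simpa [hτ]) (by simpa [hτ] using mul_mem hu hu') rfl (by simp [hτ])

theorem LW_conj {h : G} {A : Subgroup G} {e : E} (h1 : π e * h * (π e)⁻¹ = h) (h2 : ∀ a ∈ A, π e * a * (π e)⁻¹ ∈ A) :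
    ∀ w ∈ LW hs h A, e * w * e⁻¹ ∈ LW hs h A := cj_le_iff.1 <| by
  rw [LW, cj, MonoidHom.map_closure]
  refine closure_mono ?_
  rintro _ ⟨_, ⟨a, ha, rfl⟩, rfl⟩
  exact ⟨_, h2 a ha, by simpa [h1] using lc_conj hc hs e h a⟩

theorem LW_facts {h : G} {A : Subgroup G} [Finite A] (hA : ∀ a ∈ A, ∀ b ∈ A, a ∈ LC π b) (h1 : ∀ a ∈ A, h * a * h⁻¹ ∈ A)
    (h2 : ∀ a ∈ A, h * a * h⁻¹ = a → a = 1) : (∀ w ∈ LW hs h A, π w = 1 → w = 1) ∧ (LW hs h A).map π = A := by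
  have h3 : ∀ a ∈ A, ⁅h, a⁆ ∈ A := fun a ha => mul_mem (h1 a ha) (inv_mem ha)
  let ω : A →* E := MonoidHom.mk' (fun a => lc hs h a) fun a b => lc_mul_right hc hs (hA _ a.2 _ (h3 _ b.2))
  have h4 : LW hs h A = ω.range := le_antisymm ((closure_le _).2 fun _ ⟨a, ha, e⟩ => ⟨⟨a, ha⟩, e⟩)
    fun _ ⟨a, e⟩ => subset_closure ⟨a, a.2, e⟩
  rw [h4]
  refine ⟨?_, le_antisymm ?_ fun x hx => ?_⟩
  · rintro _ ⟨a, rfl⟩ e
    rw [show a = 1 from Subtype.ext (h2 a a.2 (mul_inv_eq_one.1 ((map_lc hs ..).symm.trans e))), map_one]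
  · rintro _ ⟨_, ⟨a, rfl⟩, rfl⟩
    exact (map_lc hs h a).symm ▸ h3 a a.2
  · obtain ⟨u, hu, e⟩ := exists_conj_fpf h1 h2 (inv_mem hx)
    exact ⟨_, ⟨⟨u, hu⟩, rfl⟩, (map_lc hs h u).trans (by
      rw [← inv_inv x, eq_mul_inv_of_mul_eq e, commutatorElement_def]; group)⟩

end Central

namespace ReeS
variable {m : ℕ} {K : Type*} [Field K] [Fintype K] {Γ : Type*} [Group Γ] [Finite Γ] (S : ReeS m K Γ) (hm : 1 ≤ m)

/-- the derived subgroup of the Sylow 3-subgroup -/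
def U1 : Subgroup Γ where
  carrier := {g | ∃ u v, g = S.y 0 u v}
  one_mem' := ⟨0, 0, S.y_zero.symm⟩
  mul_mem' := by rintro _ _ ⟨u, v, rfl⟩ ⟨u', v', rfl⟩; exact ⟨u + u', v + v', by simp [S.y_mul]⟩
  inv_mem' := by rintro _ ⟨u, v, rfl⟩; exact ⟨-u, -v, by simp [S.y_inv]⟩

/-- the centre of the Sylow 3-subgroup -/
def U2 : Subgroup Γ where
  carrier := {g | ∃ v, g = S.y 0 0 v}
  one_mem' := ⟨0, S.y_zero.symm⟩
  mul_mem' := by rintro _ _ ⟨v, rfl⟩ ⟨v', rfl⟩; exact ⟨v + v', by simp [S.y_mul]⟩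
  inv_mem' := by rintro _ ⟨v, rfl⟩; exact ⟨-v, by simp [S.y_inv]⟩

theorem y1_mul (u v u' v' : K) : S.y 0 u v * S.y 0 u' v' = S.y 0 (u + u') (v + v') := by simp [S.y_mul]

theorem y_split (t u v : K) : S.y t u v = S.y t 0 0 * (S.y 0 u 0 * S.y 0 0 v) := by simp [S.y_mul]

include S in
theorem exists_δ {a : K} (h : a ≠ 0) : ∃ s : Kˣ, (s : K) ^ 2 * S.τ s = a := by
  obtain ⟨s, hs⟩ := Finite.injective_iff_surjective.1 (show Function.Injective fun s : K => s ^ 2 * S.τ s from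
    fun _ _ => S.eq_of_δ) a
  exact ⟨Units.mk0 s (by rintro rfl; simp [h.symm] at hs), hs⟩

theorem exists_sτ {a : K} (h : a ≠ 0) : ∃ s : Kˣ, (s : K) * S.τ s = a ∨ (s : K) * S.τ s = -a := by
  obtain ⟨c, hc⟩ : ∃ c, c ^ 2 = a ∨ c ^ 2 = -a := by
    by_contra! e
    classical
    haveI := S.charP
    have h2 : ringChar K ≠ 2 := by rw [ringChar.eq K 3]; decide
    have h3 := (quadraticChar_neg_one_iff_not_isSquare (a := a)).2 fun ⟨c, hc⟩ => (e c).1 (by rw [sq, ← hc])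
    have h4 := (quadraticChar_neg_one_iff_not_isSquare (a := -a)).2 fun ⟨c, hc⟩ => (e c).2 (by rw [sq, ← hc])
    rw [← neg_one_mul, map_mul, h3, quadraticChar_neg_one h2, ZMod.χ₄_nat_three_mod_four (by have := S.q_mod; omega)] at h4
    simp at h4
  obtain ⟨s, -, hs⟩ := S.φ_tor (Units.mk0 c (by rintro rfl; simp [h.symm, h] at hc))
  exact ⟨s, hc.imp hs.trans hs.trans⟩

include S hm in
theorem exists_gen : ∃ a : Kˣ, a ≠ 1 ∧ a ≠ -1 := by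
  obtain ⟨⟨_, s, rfl⟩, h⟩ := ne_bot_iff_exists_ne_one.1 (S.H2_ne hm)
  exact ⟨_, ne_of_order (two_lt_H2 ⟨s, rfl⟩ (by simpa using h))⟩

theorem exists_nonadd {s : K} (h0 : s ≠ 0) (h1 : s ≠ 1) (h2 : 1 + s ≠ 0) : ∃ r : K, r ≠ 0 ∧ 1 + r ≠ 0 ∧
    ((1 + r) ^ 2 * S.τ (1 + r))⁻¹ ≠ (1 ^ 2 * S.τ 1)⁻¹ + (r ^ 2 * S.τ r)⁻¹ := by
  have key : ∀ r, r ≠ 0 → 1 + r ≠ 0 → ((1 + r) ^ 2 * S.τ (1 + r))⁻¹ = (1 ^ 2 * S.τ 1)⁻¹ + (r ^ 2 * S.τ r)⁻¹ →
      r ^ 2 * S.τ r = (1 + r) ^ 2 * (1 + S.τ r) * (r ^ 2 * S.τ r + 1) := fun r a b e => by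
    have b1 := S.τ_ne a
    have b2 := S.τ_ne b
    rw [map_add, map_one] at e b2
    field_simp at e
    linear_combination e
  by_contra! e
  have b5 : 1 + -s ≠ 0 := by rwa [← sub_eq_add_neg, sub_ne_zero, ne_comm]
  have e1 := key _ h0 h2 (e s h0 h2)
  have e2 := key _ (neg_ne_zero.2 h0) b5 (e _ (neg_ne_zero.2 h0) b5)
  have b6 := S.ττ s
  have c3 := S.c3
  rw [map_neg] at e2
  have e3 : 2 * ((s ^ 2 + 1) * (s * S.τ s + 1) ^ 2) = 0 := by linear_combination -e1 - e2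
  clear e e1 e2 key
  simp only [mul_eq_zero, S.c2, false_or, pow_eq_zero_iff two_ne_zero] at e3
  obtain h | h := e3
  · have h1 := congrArg S.τ h
    simp only [map_add, map_one, map_pow, map_zero] at h1
    obtain h2 | h2 : S.τ s = s ∨ S.τ s = -s := sq_eq_sq_iff_eq_or_eq_neg.1 (by linear_combination h1 - h)
    · rw [h2, h2] at b6; grind
    · rw [h2, map_neg, h2] at b6; grind
  · have h1 := congrArg S.τ h
    simp only [map_add, map_one, map_mul, map_zero, b6] at h1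
    grind

include hm in
theorem der_U {E : Type*} [Group E] {σ : E →* Γ} (hc : σ.ker ≤ center E) (hs : Function.Surjective σ) :
    ∀ z ∈ ⁅S.U.comap σ, S.U.comap σ⁆, σ z = 1 → z = 1 := by
  obtain ⟨s, s1, s2⟩ := S.exists_gen hm
  have c3 := S.c3
  have a0 : (s : K) ≠ 1 := fun e => s1 (Units.ext e)
  have a0' : 1 + (s : K) ≠ 0 := fun e => s2 (Units.ext (by simpa using eq_neg_of_add_eq_zero_right e))
  have a1 : (1 + s : K)⁻¹ ≠ 1⁻¹ + (s : K)⁻¹ := fun e => by have := s.ne_zero; field_simp at e; grind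
  obtain ⟨r, r0, r1, r2⟩ := S.exists_nonadd s.ne_zero a0 a0'
  choose τ hτ using id hs
  have m1 : ∀ u v, S.y 0 u v ∈ S.U1 := fun u v => ⟨u, v, rfl⟩
  have m2 : ∀ v, S.y 0 0 v ∈ S.U2 := fun v => ⟨v, rfl⟩
  have l1 : S.U1 ≤ S.U := fun _ ⟨_, _, e⟩ => ⟨_, _, _, e⟩
  have l2 : S.U2 ≤ S.U1 := fun _ ⟨_, e⟩ => ⟨_, _, e⟩
  have d1 : ∀ s, ∀ a ∈ S.U1, S.d s * a * (S.d s)⁻¹ ∈ S.U1 := by rintro s _ ⟨u, v, rfl⟩; simp [S.d_conj, m1]
  have d2 : ∀ s, ∀ a ∈ S.U2, S.d s * a * (S.d s)⁻¹ ∈ S.U2 := by rintro s _ ⟨v, rfl⟩; simp [S.d_conj, m2]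
  have d3 : ∀ a ∈ S.U1, S.d s * a * (S.d s)⁻¹ = a → a = 1 := by
    rintro _ ⟨u, v, rfl⟩ e
    obtain ⟨-, h1, h2⟩ := d_fix s1 (S.inj ((S.d_conj ..).symm.trans e))
    rw [h1, h2 s2, y_zero]
  have dW : ∀ {A : Subgroup Γ} (s' : Kˣ), (∀ a ∈ A, S.d s' * a * (S.d s')⁻¹ ∈ A) →
      ∀ w ∈ LW hs (S.d s) A, τ (S.d s') * w * (τ (S.d s'))⁻¹ ∈ LW hs (S.d s) A := fun s' h =>
    LW_conj hc hs (by rw [hτ, S.d_comm, mul_inv_cancel_right]) (by rwa [hτ])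
  have A : ∀ a u, σ a ∈ S.U2 → σ u ∈ S.U → ⁅a, u⁆ = 1 := by
    obtain ⟨f, f1, f2, f3, f4⟩ := exists_pairing' hc hs (W := ⊥) (M := S.U2) (N := S.U) (by simp) (l2.trans l1) (by simp) (by
      rintro _ ⟨v, rfl⟩ _ ⟨t, u, v', rfl⟩
      simp [commutatorElement_eq_one_iff_mul_comm, S.y_mul, add_comm])
    have f5 : ∀ (s : Kˣ) v t u v', f (S.y 0 0 (s ^ 2 * S.τ s * v)) (S.y (s * t) (s * S.τ s * u) (s ^ 2 * S.τ s * v')) =
        f (S.y 0 0 v) (S.y t u v') := fun s v t u v' => by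
      simpa [hτ, S.d_conj, m2, y_mem] using f4 (τ (S.d s)) (by simp) _ (m2 v) _ (S.y_mem t u v')
    have f6 : ∀ a a' x, x ∈ S.U → f (S.y 0 0 (a + a')) x = f (S.y 0 0 a) x * f (S.y 0 0 a') x := fun a a' x hx => by
      rw [← f2 _ (m2 _) _ (m2 _) _ hx, y1_mul, add_zero]
    have b1 := pairing_one (f := fun a b => f (S.y 0 0 a) (S.y 0 0 b)) (γ := (·⁻¹)) (fun a a' b => f6 _ _ _ (S.y_mem ..))
      (fun a b b' => by rw [← f3 _ (m2 _) _ (S.y_mem ..) _ (S.y_mem ..), y1_mul, add_zero])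
      (fun a b h => by obtain ⟨s, e⟩ := S.exists_δ (inv_ne_zero h); simpa [e, h] using (f5 s a 0 0 b).symm) s.ne_zero a0' a1
    have b2 : ∀ u a, f (S.y 0 0 a) (S.y 0 u 0) = 1 := fun u => add_one_of_neg c3 (fun a a' => f6 _ _ _ (S.y_mem ..))
      fun a => by simpa using f5 (-1) a 0 u 0
    have b3 : ∀ a t u v, f (S.y 0 0 a) (S.y t u v) = f (S.y 0 0 a) (S.y t 0 0) := fun a t u v => by
      rw [S.y_split t u v, f3 _ (m2 _) _ (S.y_mem ..) _ (mul_mem (S.y_mem ..) (S.y_mem ..)), f3 _ (m2 _) _ (S.y_mem ..) _ (S.y_mem ..),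
        b1, b2, mul_one, mul_one]
    have b4 := pairing_one (f := fun t a => f (S.y 0 0 a) (S.y t 0 0)) (γ := fun t => (t ^ 2 * S.τ t)⁻¹)
      (fun a a' b => by rw [← f3 _ (m2 _) _ (S.y_mem ..) _ (S.y_mem ..), S.y_mul, b3 _ _ (_ - _)])
      (fun a b b' => f6 _ _ _ (S.y_mem ..))
      (fun a b h => by simpa [h, mul_comm] using (f5 (Units.mk0 a h)⁻¹ b a 0 0).symm) r0 r1 r2
    rintro a u ⟨v, e⟩ ⟨t, u', v', e'⟩
    exact (f1 a u ⟨v, e⟩ ⟨_, _, _, e'⟩).1 (by rw [e, e', b3, b4])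
  have A' : ∀ a ∈ S.U2, ∀ u ∈ S.U, a ∈ LC σ u := fun a ha u hu => by
    rw [← hτ a, ← hτ u, mem_LC hc, ← commutatorElement_eq_one_iff_commute]
    exact A _ _ (by rwa [hτ]) (by rwa [hτ])
  obtain ⟨w1, w2⟩ := LW_facts hc hs (fun a ha b hb => A' a ha b (l1 (l2 hb))) (d2 s) fun a ha => d3 a (l2 ha)
  have B : ∀ a u, σ a ∈ S.U1 → σ u ∈ S.U → ⁅a, u⁆ ∈ LW hs (S.d s) S.U2 := by
    obtain ⟨f, f1, f2, f3, f4⟩ := exists_pairing' hc hs (M := S.U1) (N := S.U) w1 l1 (fun n hn w hw => by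
      rwa [← commutatorElement_eq_one_iff_mul_comm.1 (A w n (w2.le ⟨w, hw, rfl⟩) hn), mul_inv_cancel_right]) (by
      rintro _ ⟨u, v, rfl⟩ _ ⟨t, u', v', rfl⟩
      exact w2.ge ⟨-(u * t), by rw [commutatorElement_def, mul_inv_eq_iff_eq_mul, mul_inv_eq_iff_eq_mul]; simp [S.y_mul, y_inj]; grind⟩)
    have f5 : ∀ (s : Kˣ) u t u', f (S.y 0 (s * S.τ s * u) 0) (S.y (s * t) (s * S.τ s * u') 0) =
        f (S.y 0 u 0) (S.y t u' 0) := fun s u t u' => by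
      simpa [hτ, S.d_conj, m1, y_mem] using f4 (τ (S.d s)) (dW s (d2 s)) _ (m1 u 0) _ (S.y_mem t u' 0)
    have f6 : ∀ a a' x, x ∈ S.U → f (S.y 0 (a + a') 0) x = f (S.y 0 a 0) x * f (S.y 0 a' 0) x := fun a a' x hx => by
      rw [← f2 _ (m1 ..) _ (m1 ..) _ hx, y1_mul, add_zero]
    have f7 : ∀ a b b', f (S.y 0 a 0) (S.y 0 (b + b') 0) = f (S.y 0 a 0) (S.y 0 b 0) * f (S.y 0 a 0) (S.y 0 b' 0) :=
      fun a b b' => by rw [← f3 _ (m1 ..) _ (S.y_mem ..) _ (S.y_mem ..), y1_mul, add_zero]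
    have b0 : ∀ a ∈ S.U2, ∀ u ∈ S.U, f a u = 1 := fun a ha u hu => by
      rw [← hτ a, ← hτ u, f1 _ _ (by simpa [hτ] using l2 ha) (by rwa [hτ]), A _ _ (by rwa [hτ]) (by rwa [hτ])]
      exact one_mem _
    have b0' : ∀ a ∈ S.U1, ∀ u ∈ S.U2, f a u = 1 := fun a ha u hu => by
      rw [← hτ a, ← hτ u, f1 _ _ (by rwa [hτ]) (by simpa [hτ] using l1 (l2 hu)), ← commutatorElement_inv,
        A _ _ (by rwa [hτ]) (by simpa [hτ] using l1 ha)]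
      simp
    have b1 := pairing_one (f := fun a b => f (S.y 0 a 0) (S.y 0 b 0)) (γ := (·⁻¹)) (fun a a' b => f6 _ _ _ (S.y_mem ..)) f7
      (fun a b h => by
        obtain ⟨s, e | e⟩ := S.exists_sτ (inv_ne_zero h)
        · simpa [e, h] using (f5 s a 0 b).symm
        · have h1 := f6 1 (-1) _ (S.y_mem 0 (-(a⁻¹ * b)) 0)
          have h2 := f7 1 (a⁻¹ * b) (-(a⁻¹ * b))
          rw [add_neg_cancel, b0 _ (m2 0) _ (S.y_mem ..)] at h1
          rw [add_neg_cancel, b0' _ (m1 ..) _ (m2 0)] at h2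
          rw [eq_inv_of_mul_eq_one_left h2.symm, ← eq_inv_of_mul_eq_one_right h1.symm]
          simpa [e, h] using (f5 s a 0 b).symm) s.ne_zero a0' a1
    have b3 : ∀ a t u v, f (S.y 0 a 0) (S.y t u v) = f (S.y 0 a 0) (S.y t 0 0) := fun a t u v => by
      rw [S.y_split t u v, f3 _ (m1 ..) _ (S.y_mem ..) _ (mul_mem (S.y_mem ..) (S.y_mem ..)), f3 _ (m1 ..) _ (S.y_mem ..) _ (S.y_mem ..),
        b1, b0' _ (m1 ..) _ (m2 _), mul_one, mul_one]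
    have b4 : ∀ a t, f (S.y 0 a 0) (S.y t 0 0) = 1 := fun a => add_one_of_neg c3
      (fun t t' => by rw [← f3 _ (m1 ..) _ (S.y_mem ..) _ (S.y_mem ..), S.y_mul, b3 _ _ (_ - _)])
      fun t => by simpa using f5 (-1) a t 0
    rintro a u ⟨u₀, v, e⟩ ⟨t, u', v', e'⟩
    refine (f1 a u ⟨_, _, e⟩ ⟨_, _, _, e'⟩).1 ?_
    rw [e, e', show S.y 0 u₀ v = S.y 0 u₀ 0 * S.y 0 0 v by simp [y1_mul], f2 _ (m1 ..) _ (m1 ..) _ (S.y_mem ..), b3, b4,
      b0 _ (m2 _) _ (S.y_mem ..), mul_one]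
  obtain ⟨w3, w4⟩ := LW_facts hc hs (A := S.U1) (fun a ha b hb => by
    rw [← hτ a, ← hτ b, mem_LC hc, ← commutatorElement_eq_one_iff_commute]
    refine w1 _ (B _ _ (by rwa [hτ]) (by simpa [hτ] using l1 hb)) ?_
    obtain ⟨u, v, rfl⟩ := ha
    obtain ⟨u', v', rfl⟩ := hb
    simp [hτ, commutatorElement_eq_one_iff_mul_comm, y1_mul, add_comm]) (d1 s) d3
  have w5 : LW hs (S.d s) S.U2 ≤ LW hs (S.d s) S.U1 := closure_mono (Set.image_mono l2)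
  obtain ⟨f, f1, f2, f3, f4⟩ := exists_pairing' hc hs (M := S.U) (N := S.U) w3 le_rfl (fun n hn w hw => by
    simpa [commutatorElement_def, mul_assoc] using mul_mem (inv_mem (w5 (B w n (w4.le ⟨w, hw, rfl⟩) hn))) hw) (by
    rintro _ ⟨t, u, v, rfl⟩ _ ⟨t', u', v', rfl⟩
    exact w4.ge ⟨_, _, by simp only [commutatorElement_def, y_inv, S.y_mul]; congr 1; ring⟩)
  have b0 : ∀ a ∈ S.U1, ∀ u ∈ S.U, f a u = 1 ∧ f u a = 1 := fun a ha u hu => by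
    have := w5 (B (τ a) (τ u) (by rwa [hτ]) (by rwa [hτ]))
    rw [← hτ a, ← hτ u, f1 _ _ (by simpa [hτ] using l1 ha) (by rwa [hτ]), f1 _ _ (by rwa [hτ]) (by simpa [hτ] using l1 ha),
      ← commutatorElement_inv (τ a)]
    exact ⟨this, inv_mem this⟩
  have b1 : ∀ t u v t' u' v', f (S.y t u v) (S.y t' u' v') = f (S.y t 0 0) (S.y t' 0 0) := fun t u v t' u' v' => by
    rw [S.y_split t, S.y_split t', y1_mul, y1_mul, f2 _ (S.y_mem ..) _ (S.y_mem ..) _ (mul_mem (S.y_mem ..) (S.y_mem ..)),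
      (b0 _ (m1 ..) _ (mul_mem (S.y_mem ..) (S.y_mem ..))).1, f3 _ (S.y_mem ..) _ (S.y_mem ..) _ (S.y_mem ..),
      (b0 _ (m1 ..) _ (S.y_mem ..)).2, mul_one, mul_one]
  have b2 := pairing_one (f := fun a b => f (S.y a 0 0) (S.y b 0 0)) (γ := (·⁻¹))
    (fun a a' b => by rw [← f2 _ (S.y_mem ..) _ (S.y_mem ..) _ (S.y_mem ..), S.y_mul, b1 _ (_ - _)])
    (fun a b b' => by rw [← f3 _ (S.y_mem ..) _ (S.y_mem ..) _ (S.y_mem ..), S.y_mul, b1 _ _ _ _ (_ - _)])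
    (fun a b h => by
      have := f4 (τ (S.d (Units.mk0 a h)⁻¹)) (dW _ (d1 _)) _ (S.y_mem a 0 0) _ (S.y_mem b 0 0)
      rw [hτ, S.d_conj, S.d_conj] at this
      simpa [h] using (this (S.y_mem ..) (S.y_mem ..)).symm) s.ne_zero a0' a1
  refine fun z hz => w3 z (commutator_le.2 (fun x hx y hy => (f1 x y hx hy).1 ?_) hz)
  obtain ⟨t, u, v, e⟩ := id hx
  obtain ⟨t', u', v', e'⟩ := id hy
  rw [e, e', b1, b2]

include S hm in
theorem der_two {E : Type*} [Group E] {σ : E →* Γ} (hc : σ.ker ≤ center E) (hs : Function.Surjective σ) {P : Subgroup Γ}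
    (hP : IsPGroup 2 P) : ⁅P.comap σ, P.comap σ⁆ = ⊥ := by
  obtain ⟨s, s1, s2⟩ := S.exists_gen hm
  have h1 : ∀ k, S.φ k ∈ LC σ S.z := fun k => by
    have : commutator (SL2 K) ≤ (LC σ S.z).comap S.φ := commutator_le.2 fun a _ b _ => by
      rw [mem_comap, map_commutatorElement]; exact comm_mem_LC hc hs (S.φ_comm_z a) (S.φ_comm_z b)
    exact this ((Matrix.SL2.commutator_eq_top s.ne_zero (by
      rw [Ne, sq, mul_self_eq_one_iff]; exact fun h => h.elim (s1 <| Units.ext ·) (s2 <| Units.ext ·))).ge (mem_top k))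
  refine eq_bot_iff.2 (commutator_le.2 fun a ha b hb => ?_)
  rw [mem_bot, commutatorElement_eq_one_iff_commute, ← mem_LC hc]
  by_cases e : σ b = 1
  · exact e ▸ mem_LC_one hc hs _
  obtain ⟨g, e⟩ := S.exists_z e (S.sq_of_pgroup hP hb)
  have h2 := S.comm_of_pgroup hP ha hb
  rw [e] at h2 ⊢
  rw [show σ a = g * (g⁻¹ * σ a * g) * g⁻¹ by group]
  refine LC_conj hc hs ?_ g
  obtain ⟨k, e | e⟩ := exists_φ (S := S) (g := g⁻¹ * σ a * g) (by simpa [mul_assoc] using congrArg (g⁻¹ * · * g) h2) <;> rw [e]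
  exacts [h1 k, mul_mem (h1 k) (self_mem_LC hc hs _)]

include S hm in
theorem schur : HasCyclicSchurMultiplier Γ 1 := hasSchur_one fun E _ _ σ h =>
  ker_eq_bot_of_sylow h fun p hp => by
    haveI := Fact.mk hp
    obtain ⟨P⟩ := (inferInstance : Nonempty (Sylow p Γ))
    by_cases e : p = 3
    · exact ⟨_, e ▸ S.not_dvd_index_U, S.der_U hm h.2.1 h.1⟩
    by_cases e' : p = 2
    · subst e'
      exact ⟨_, P.not_dvd_index, by simp [S.der_two hm h.2.1 h.1 P.2]⟩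
    · exact ⟨_, P.not_dvd_index, by simp [der_eq_bot_of_cyclic h.2.1 (S.cyclic_sylow hm (by have := hp.two_le; omega) P)]⟩

end ReeS
end Cfsg.Agent.Ree
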