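import Cfsg.Agent.Lib.Ree.Four

set_option autoImplicit false
set_option linter.unusedSectionVars false
set_option linter.style.haveILetI false

/-! Normalisers of 2-subgroups of a small Ree group. -/

namespace Cfsg.Agent.Ree

open Perm.GL2 MulAction Subgroup Transfer Suz

theorem card_eq_mul_conj {G : Type*} [Group G] [Finite G] {N : Subgroup G} {a : G} {p : G → Prop}
    (h : ∀ y, p y ↔ ∃ g ∈ N, g * a * g⁻¹ = y) :
    Nat.card N = Nat.card {y // p y} * Nat.card (N ⊓ centralizer {a} : Subgroup G) := by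
  rw [← card_class_mul N a, cnt_congr h]

namespace ReeS
variable {m : ℕ} {K : Type*} [Field K] [Fintype K] {Γ : Type*} [Group Γ] [Finite Γ] {S : ReeS m K Γ}

theorem conj_φ {g : Γ} (hg : g ∈ centralizer {S.z}) (h : SL2 K) : ∃ k, g * S.φ h * g⁻¹ = S.φ (k * h * k⁻¹) := by
  obtain ⟨k, rfl | rfl⟩ := exists_φ (mem_centralizer_singleton_iff.1 hg)
  · exact ⟨k, by simp⟩
  · exact ⟨k, by simp [mul_assoc, (S.φ_comm_z h).symm.left_comm]⟩

theorem exists_four {j j' : Γ} (h1 : j ≠ 1) (h2 : j * j = 1) (h1' : j' ≠ 1) (h2' : j' * j' = 1) (hne : j' ≠ j)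
    (hc : j' * j = j * j') : ∃ g, g * S.z * g⁻¹ = j ∧ (g * S.i * g⁻¹ = j' ∨ g * S.i * g⁻¹ = j' * j) := by
  obtain ⟨g, rfl⟩ := S.exists_z h1 h2
  obtain ⟨j', rfl⟩ : ∃ a, j' = g * a * g⁻¹ := ⟨g⁻¹ * j' * g, by simp [mul_assoc]⟩
  have key : ∀ k, S.φ k ≠ 1 → S.φ k * S.φ k = 1 → ∃ c, g * c * S.z * (g * c)⁻¹ = g * S.z * g⁻¹ ∧
      g * c * S.i * (g * c)⁻¹ = g * S.φ k * g⁻¹ := fun k h h' => by
    obtain ⟨c, rfl⟩ := isConj_iff.1 (S.isConj_i0 h h')
    exact ⟨S.φ c, by simp [mul_assoc, (S.φ_comm_z c).left_comm], by simp [i, mul_assoc]⟩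
  simp only [conj_mul, conj_eq_one_iff, Ne, mul_left_inj, mul_right_inj] at h1' h2' hne hc
  obtain ⟨k, rfl | rfl⟩ := exists_φ hc
  · obtain ⟨c, e, e'⟩ := key k h1' h2'
    exact ⟨_, e, .inl e'⟩
  · obtain ⟨c, e, e'⟩ := key k (by simpa using hne) (by rwa [← sq, φz_sq, sq] at h2')
    exact ⟨_, e, .inr (by rw [e', conj_mul, mul_assoc _ S.z, z_z, mul_one])⟩

theorem NV_inf : normalizer (S.V : Set Γ) ⊓ centralizer {S.z} = centralizer (S.V : Set Γ) := by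
  refine le_antisymm (fun g hg => ?_) (le_inf (centralizer_le_normalizer _) (centralizer_le (by simpa using S.z_mem_V)))
  have h1 := mem_centralizer_singleton_iff.1 hg.2
  have h2 : g * S.i = S.i * g := by
    obtain ⟨k, e⟩ := conj_φ hg.2 (i0 K)
    rcases mem_V.1 (conj_mem_of_mem_normalizer hg.1 S.i_mem_V) with h | h | h | h
    exacts [absurd (by simpa using h) S.i_ne, absurd (e ▸ h) (S.φ_ne_z _), mul_inv_eq_iff_eq_mul.1 h,
      absurd (e ▸ h) (S.φ_ne _ _)]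
  intro y hy
  rcases mem_V.1 hy with rfl | rfl | rfl | rfl
  exacts [by simp, h1.symm, h2.symm, (Commute.mul_right h2 h1).eq.symm]

theorem cj_V {g : Γ} {W : Subgroup Γ} (hW : Nat.card W = 4) (h1 : g * S.z * g⁻¹ ∈ W) (h2 : g * S.i * g⁻¹ ∈ W) :
    cj g S.V = W := by
  refine eq_of_le_of_card_ge (cj_le_iff.2 fun x hx => ?_) (by rw [card_cj, card_V, hW])
  rcases mem_V.1 hx with rfl | rfl | rfl | rfl
  exacts [by simp, h1, h2, by simpa using mul_mem h2 h1]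

theorem exists_cj_V {W : Subgroup Γ} (hW : Nat.card W = 4) {j : Γ} (hj : j ∈ W) (h1 : j ≠ 1) :
    ∃ g, g * S.z * g⁻¹ = j ∧ cj g S.V = W := by
  have h2 : IsPGroup 2 W := .of_card (n := 2) hW
  obtain ⟨k, hk, h3, h4⟩ : ∃ k ∈ W, k ≠ 1 ∧ k ≠ j := by
    by_contra! e
    have := cnt_mono (p := (· ∈ W)) (q := fun x => x = 1 ∨ x = j) fun x hx => or_iff_not_imp_left.2 (e x hx)
    rw [cnt_eq_two h1.symm fun _ => Iff.rfl, hW] at this
    omega
  obtain ⟨g, e, e'⟩ := exists_four (S := S) h1 (S.sq_of_pgroup h2 hj) h3 (S.sq_of_pgroup h2 hk) h4 (S.comm_of_pgroup h2 hk hj)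
  exact ⟨g, e, cj_V hW (e ▸ hj) (by rcases e' with e' | e' <;> rw [e']; exacts [hk, mul_mem hk hj])⟩

variable (S) in
theorem card_NV : Nat.card (normalizer (S.V : Set Γ)) = 6 * (Fintype.card K + 1) := by
  rw [card_eq_mul_conj (a := S.z) (p := fun y => y ∈ S.V ∧ y ≠ 1) fun y => ⟨fun h => ?_, ?_⟩, cnt_sharp, card_V, NV_inf,
    card_CV, ← mul_assoc]
  · rfl
  · obtain ⟨g, e, e'⟩ := exists_cj_V (S := S) S.card_V h.1 h.2
    exact ⟨g, mem_normalizer_iff_cj.2 e', e⟩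
  · rintro ⟨g, hg, rfl⟩
    exact ⟨conj_mem_of_mem_normalizer hg S.z_mem_V, by simpa using S.z_ne⟩

theorem NV_le : normalizer (S.V : Set Γ) ≤ normalizer (S.A : Set Γ) := fun _ hg => mem_normalizer_of_conj_mem fun _ hx =>
  mem_A'.2 ⟨conj_mem_of_mem_normalizer (mem_normalizer_centralizer hg) (mem_A'.1 hx).1, by simp [conj_pow, pow_bb hx]⟩

theorem NE_le : normalizer (S.E : Set Γ) ≤ normalizer (S.V : Set Γ) := fun _ hg => mem_normalizer_of_conj_mem fun _ hx =>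
  mem_V'.2 ⟨conj_mem_of_mem_normalizer hg (S.V_le_E hx), by simp [(mem_V'.1 hx).2]⟩

theorem ti_A {x g : Γ} (hx : x ∈ S.A) (h1 : x ≠ 1) (h : g * x * g⁻¹ ∈ S.A) : g ∈ normalizer (S.E : Set Γ) := by
  rw [mem_normalizer_iff_cj, ← cent_A hx h1, cj_centralizer_singleton, cent_A h (by simpa), cent_A hx h1]

theorem ti_E {x g : Γ} (hx : x ∈ S.E) (h1 : x * x ≠ 1) (h : g * x * g⁻¹ ∈ S.E) : g ∈ normalizer (S.E : Set Γ) :=
  ti_A (sq_mem_A hx) (by rwa [sq]) (by simpa only [conj_pow] using sq_mem_A h)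

theorem cent_E' {x : Γ} (hx : x ∈ S.E) (h1 : x * x ≠ 1) : centralizer {x} = S.E :=
  le_antisymm (fun _ hy => (cent_A (sq_mem_A hx) (by rwa [sq])).le (mem_centralizer_singleton_iff.2
    (Commute.pow_right (mem_centralizer_singleton_iff.1 hy) 2))) fun _ hy => mem_centralizer_singleton_iff.2 (S.E_comm hy hx)

theorem normalizer_sub_A {A₀ : Subgroup Γ} (h : A₀ ≤ S.A) (h0 : A₀ ≠ ⊥) :
    normalizer (A₀ : Set Γ) = normalizer (S.V : Set Γ) := by
  obtain ⟨⟨x, hx⟩, h1⟩ := ne_bot_iff_exists_ne_one.1 h0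
  exact le_antisymm (fun g hg => NE_le (ti_A (h hx) (by simpa using h1) (h (conj_mem_of_mem_normalizer hg hx))))
    (NV_le.trans (normalizer_le_of_cyclic S.cyclic_A h))

theorem A_ne (hm : 1 ≤ m) : S.A ≠ ⊥ := fun e => by
  have := S.card_A
  have := S.four_bb
  have := S.q_ge hm
  rw [e, card_bot] at *
  omega

theorem normalizer_E (hm : 1 ≤ m) : normalizer (S.E : Set Γ) = normalizer (S.V : Set Γ) := by
  obtain ⟨⟨x, hx⟩, h1⟩ := ne_bot_iff_exists_ne_one.1 (A_ne (S := S) hm)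
  exact le_antisymm NE_le fun g hg => ti_A hx (by simpa using h1) (conj_mem_of_mem_normalizer (NV_le hg) hx)

section Syl
variable {P : Sylow 2 Γ} (hP : S.V ≤ P)
include hP

theorem NP_inf : normalizer ((P : Subgroup Γ) : Set Γ) ⊓ centralizer (S.V : Set Γ) = P := by
  have h1 : (P : Subgroup Γ) ≤ centralizer (S.V : Set Γ) := fun _ hx _ hy => S.comm_of_pgroup P.2 (hP hy) hx
  refine le_antisymm (fun g hg => ?_) (le_inf le_normalizer h1)
  have h2 : ∀ g ∈ normalizer ((P : Subgroup Γ) : Set Γ), g * g = 1 → g ∈ P := fun g hg h =>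
    (isSyl_top P).le_of_le_normalizer (isPGroup_zpowers (k := 1) (by rwa [pow_one, sq])) le_top (zpowers_le.2 hg)
      (mem_zpowers g)
  refine (CV_cases hg.2).elim (fun h => h2 g hg.1 ?_) fun h => h2 g hg.1 h.1
  obtain ⟨s, h3, h4⟩ : ∃ s ∈ (P : Subgroup Γ), s ∉ S.E := by
    by_contra! e
    have := card_le_of_le (H := P) (K := S.V) fun x hx => mem_V'.2 ⟨e x hx, S.sq_of_pgroup P.2 hx⟩
    rw [S.card_syl_two, card_V] at this
    omega
  have h5 := ((CV_cases (h1 h3)).resolve_left h4).2 _ (sq_mem_A h)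
  have h6 : g ^ 2 * g ^ 2 ∈ P := by
    have := mul_mem (conj_mem_of_mem_normalizer (pow_mem hg.1 2) (inv_mem h3)) h3
    rwa [← h5, show g ^ 2 * s⁻¹ * (s * g ^ 2 * s⁻¹) * s = g ^ 2 * g ^ 2 by simp [mul_assoc]] at this
  have h7 := mul_mem (sq_mem_A h) (sq_mem_A h)
  rw [← sq, eq_one_of_bb (S := S) (pow_bb (sq_mem_A h)) (eq_one_of_bb (S := S) (pow_bb h7) (S.sq_of_pgroup P.2 h6))]

theorem fuse {g : Γ} (h1 : g * S.z * g⁻¹ ∈ (P : Subgroup Γ)) (h2 : g * S.i * g⁻¹ ∈ (P : Subgroup Γ)) :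
    ∃ n ∈ normalizer ((P : Subgroup Γ) : Set Γ),
    n * S.z * n⁻¹ = g * S.z * g⁻¹ ∧ n * S.i * n⁻¹ = g * S.i * g⁻¹ := by
  obtain ⟨n, h3, h4⟩ := exists_normalizer_of_weaklyClosed P (isWeaklyClosed_self P) (A := S.V) (g := g)
    (fun _ hx _ hy => S.comm_of_pgroup P.2 hy (hP hx)) (cj_le_iff.2 fun x hx _ hy => S.comm_of_pgroup P.2 hy (by
      rcases mem_V.1 hx with rfl | rfl | rfl | rfl
      exacts [by simp, h1, h2, by simpa using mul_mem h2 h1]))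
  exact ⟨n, h3, h4 _ S.z_mem_V, h4 _ S.i_mem_V⟩

theorem card_NP : Nat.card (normalizer ((P : Subgroup Γ) : Set Γ)) = 168 := by
  have h0 : (P : Subgroup Γ) ≤ centralizer {S.z} := fun _ hx =>
    mem_centralizer_singleton_iff.2 (S.comm_of_pgroup P.2 hx (hP S.z_mem_V))
  have h1 : Nat.card {y // y ∈ (P : Subgroup Γ) ⊓ S.φ.range} = 4 := by
    have a := cnt_split (· ∈ (P : Subgroup Γ)) (· ∈ S.φ.range)
    rw [cnt_eq_of_bij (p := fun x => x ∈ (P : Subgroup Γ) ∧ x ∉ S.φ.range) (q := (· ∈ (P : Subgroup Γ) ⊓ S.φ.range))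
      (· * S.z) (fun x hx => ⟨mul_mem hx.1 (hP S.z_mem_V), by
        obtain ⟨k, rfl | rfl⟩ := exists_φ (mem_centralizer_singleton_iff.1 (h0 hx.1))
        exacts [absurd ⟨k, rfl⟩ hx.2, ⟨k, by simp [mul_assoc, z_z]⟩]⟩) (fun _ _ _ _ => mul_right_cancel)
      (fun y ⟨h, k, e⟩ => ⟨y * S.z, ⟨mul_mem h (hP S.z_mem_V), fun ⟨k', e'⟩ => S.φ_ne k' k (by rw [e, e'])⟩,
        by simp [mul_assoc, z_z]⟩), S.card_syl_two] at a
    change 8 = Nat.card {y // y ∈ (P : Subgroup Γ) ⊓ S.φ.range} + _ at a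
    omega
  rw [card_eq_mul_conj (a := S.z) (p := fun y => y ∈ (P : Subgroup Γ) ∧ y ≠ 1) fun y => ⟨fun h => ?_, ?_⟩, cnt_sharp,
    S.card_syl_two, card_eq_mul_conj (a := S.i) (p := fun y => y ∈ (P : Subgroup Γ) ⊓ S.φ.range ∧ y ≠ 1)
      fun y => ⟨fun h => ?_, ?_⟩, cnt_sharp, h1, inf_assoc, show centralizer {S.z} ⊓ centralizer {S.i} =
        centralizer (S.V : Set Γ) by
        rw [inf_comm, i, cent_inf, cent_V, ← S.cent_i0, comap_cent_of_trace S.c2 (trace_of_mul_self S.i0_not_scal S.i0_sq)],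
      NP_inf hP, S.card_syl_two]
  · obtain ⟨⟨h2, k, rfl⟩, h3⟩ := h
    obtain ⟨c, rfl⟩ := isConj_iff.1 (S.isConj_i0 h3 (S.sq_of_pgroup P.2 h2))
    have h4 : S.φ c * S.z * (S.φ c)⁻¹ = S.z := by rw [S.φ_comm_z, mul_inv_cancel_right]
    obtain ⟨n, h5, h6, h7⟩ := fuse hP (g := S.φ c) (h4.symm ▸ hP S.z_mem_V) (by rw [i, ← map_inv, ← map_mul, ← map_mul]; exact h2)
    exact ⟨n, ⟨h5, mem_centralizer_singleton_iff.2 (mul_inv_eq_iff_eq_mul.1 (h6.trans h4))⟩, h7.trans (by simp [i])⟩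
  · rintro ⟨g, hg, rfl⟩
    obtain ⟨k, e⟩ := conj_φ hg.2 (i0 K)
    exact ⟨⟨conj_mem_of_mem_normalizer hg.1 (hP S.i_mem_V), _, e.symm⟩, by simpa using S.i_ne⟩
  · obtain ⟨g, rfl⟩ := S.exists_z h.2 (S.sq_of_pgroup P.2 h.1)
    exact exists_normalizer_conj_of_abelian P ⟨⟨fun a b => Subtype.ext (S.comm_of_pgroup P.2 a.2 b.2)⟩⟩ (hP S.z_mem_V) h.1
  · rintro ⟨g, hg, rfl⟩
    exact ⟨conj_mem_of_mem_normalizer hg (hP S.z_mem_V), by simpa using S.z_ne⟩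

end Syl

variable (S) in
include S in
theorem syl_two (P : Sylow 2 Γ) : centralizer ((P : Subgroup Γ) : Set Γ) = P ∧
    Nat.card (normalizer ((P : Subgroup Γ) : Set Γ)) = 168 := by
  obtain ⟨Q, hQ⟩ := S.isPGroup_V.exists_le_sylow
  obtain ⟨g, e⟩ := exists_cj_sylow_eq Q P
  rw [← e, ← cj_centralizer, ← cj_normalizer, card_cj, card_NP hQ, cj_inj]
  exact ⟨le_antisymm ((le_inf (centralizer_le_normalizer _) (centralizer_le hQ)).trans (NP_inf hQ).le)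
    fun _ hx _ hy => S.comm_of_pgroup Q.2 hy hx, rfl⟩

end ReeS
end Cfsg.Agent.Ree
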