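import Cfsg.Agent.Lib.Ree.Invol

set_option autoImplicit false
set_option linter.unusedSectionVars false
set_option linter.style.haveILetI false

/-! Elements of order divisible by three in a small Ree group. -/

namespace Cfsg.Agent.Ree

open Perm.GL2 MulAction Subgroup Transfer Suz

namespace ReeS
variable {m : ℕ} {K : Type*} [Field K] [Fintype K] {Γ : Type*} [Group Γ] [Finite Γ] (S : ReeS m K Γ)

theorem stab_three {p p' p'' : Γ ⧸ S.B} (h1 : p ≠ p') (h2 : p ≠ p'') (h3 : p' ≠ p'') :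
    Nat.card (stabilizer Γ p ⊓ stabilizer Γ p' ⊓ stabilizer Γ p'' : Subgroup Γ) ≤ 2 := by
  obtain ⟨g, rfl, rfl⟩ := two_trans h1
  refine (cnt_le_of_surj (fun b : Bool => cond b 1 (g * S.z * g⁻¹)) fun x ⟨⟨a, b⟩, c⟩ => ?_).trans_eq (by simp)
  have a : x • _ = _ := a
  have b : x • _ = _ := b
  have c : x • _ = _ := c
  obtain ⟨s, e⟩ := (mem_H (S := S) (g := g⁻¹ * x * g)).2 ⟨by simp [mul_smul, a], by simp [mul_smul, b]⟩
  by_cases h4 : s = 1
  · exact ⟨true, Eq.symm (by simpa [h4, mul_assoc, eq_inv_mul_iff_mul_eq] using e)⟩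
  by_cases h5 : s = -1
  · exact ⟨false, by simp [z, ← h5, e, mul_assoc]⟩
  rcases fix_d h4 h5 (p := g⁻¹ • p'') (by simp [e, mul_smul, c]) with e | e <;> rw [inv_smul_eq_iff] at e
  exacts [absurd e.symm h2, absurd e.symm h3]

theorem stab_two : Nat.card (stabilizer Γ S.oo ⊓ stabilizer Γ (S.pt 0 0 0) ⊓ stabilizer Γ (S.pt 0 1 0) : Subgroup Γ) = 2 := by
  refine cnt_eq_two S.z_ne.symm fun x => ⟨fun ⟨h, c⟩ => ?_, ?_⟩
  · obtain ⟨s, rfl⟩ := mem_H.2 h
    by_cases h4 : s = 1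
    · exact .inl (by simp [h4])
    refine .inr (by_contra fun h5 => ?_)
    rcases fix_d h4 (mt (congrArg S.d) h5) c with e | e
    exacts [S.pt_ne _ _ _ e, one_ne_zero (S.pt_inj.1 e).2.1]
  · rintro (rfl | rfl)
    exacts [one_mem _, ⟨mem_H.1 (S.d_mem _), fix_z.2 (.inr ⟨1, rfl⟩)⟩]

theorem orderOf_y {t : K} (h : t ≠ 0) (u v : K) : orderOf (S.y t u v) = 9 :=
  orderOf_eq_prime_pow (p := 3) (n := 1) (by simp [y_cube, y_eq_one, h]) (S.y_pow_nine t u v)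

theorem orderOf_y0 {u v : K} (h : ¬ (u = 0 ∧ v = 0)) : orderOf (S.y 0 u v) = 3 :=
  orderOf_eq_prime (by simp [y_cube]) (by simpa only [Ne, y_eq_one, true_and])

theorem card_three : Nat.card {g // g ∈ S.U ∧ orderOf g = 3} = Fintype.card K ^ 2 - 1 := by
  have := cnt_erase (p := fun _ : K × K => True) (a := 0) trivial
  rw [cnt_true, Nat.card_prod, Nat.card_eq_fintype_card (α := K), ← sq] at this
  rw [← this, Nat.add_sub_cancel]
  refine (cnt_eq_of_bij (fun p => S.y 0 p.1 p.2) (fun p h => ⟨S.y_mem .., S.orderOf_y0 fun e => h.2 (Prod.ext e.1 e.2)⟩)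
    (fun p p' _ _ e => Prod.ext_iff.2 (S.inj e).2) ?_).symm
  rintro _ ⟨⟨t, u, v, rfl⟩, h⟩
  obtain rfl : t = 0 := by_contra fun e => by simp [S.orderOf_y e] at h
  exact ⟨(u, v), ⟨trivial, fun e => by simp [show u = 0 from congrArg (·.1) e, show v = 0 from congrArg (·.2) e] at h⟩, rfl⟩

theorem card_nine : Nat.card {g // g ∈ S.U ∧ orderOf g = 9} = Fintype.card K ^ 2 * (Fintype.card K - 1) := by
  rw [show Fintype.card K ^ 2 * (Fintype.card K - 1) = Nat.card (Kˣ × K × K) by simp [Nat.card_units, sq, mul_comm],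
    ← cnt_true (α := Kˣ × K × K)]
  refine (cnt_eq_of_bij (fun p : Kˣ × K × K => S.y p.1 p.2.1 p.2.2) (fun p h => ⟨S.y_mem .., S.orderOf_y p.1.ne_zero ..⟩)
    (fun p p' _ _ e => by simpa [y_inj, Prod.ext_iff, Units.ext_iff] using e) ?_).symm
  rintro _ ⟨⟨t, u, v, rfl⟩, h⟩
  refine ⟨(Units.mk0 t ?_, u, v), trivial, rfl⟩
  rintro rfl
  exact absurd (h ▸ orderOf_dvd_of_pow_eq_one (by simp [y_cube] : S.y 0 u v ^ 3 = 1)) (by decide)

variable {S} in
theorem U_eq {x g : Γ} (h1 : g ≠ 1) (h : g ∈ S.U) (h' : g ∈ cj x S.U) : cj x S.U = S.U := by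
  rw [← mem_normalizer_iff_cj, normalizer_U, ← inv_mem_iff]
  exact mem_B_of_conj h h1 (by simpa using S.U_le_B (mem_cj.1 h'))

include S in
theorem syl_ti {P Q : Sylow 3 Γ} (h : P ≠ Q) : (P : Subgroup Γ) ⊓ Q = ⊥ := by
  obtain ⟨a, ha⟩ := S.exists_cj_U P
  obtain ⟨b, hb⟩ := S.exists_cj_U Q
  refine eq_bot_iff.2 fun x hx => by_contra fun e => h (Sylow.ext ?_)
  rw [ha, hb] at hx
  rw [ha, hb, ← U_eq (S := S) (x := a⁻¹ * b) (g := a⁻¹ * x * a) (by simpa [mul_assoc, inv_mul_eq_one] using e)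
    (mem_cj.1 hx.1) (mem_cj.2 (by simpa [mul_assoc] using mem_cj.1 hx.2)), cj_cj, mul_inv_cancel_left,
    U_eq (S := S) (x := a⁻¹ * b) (g := a⁻¹ * x * a) (by simpa [mul_assoc, inv_mul_eq_one] using e)
    (mem_cj.1 hx.1) (mem_cj.2 (by simpa [mul_assoc] using mem_cj.1 hx.2))]

theorem exists_U_of_pow {x : Γ} {k : ℕ} (h : x ^ 3 ^ k = 1) : ∃ g, g * x * g⁻¹ ∈ S.U := exists_conj_mem_sylow S.syl h

/-- an element commuting with an element of order three fixes a point -/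
theorem exists_B_of_three {x : Γ} (h : 3 ∣ Nat.card (centralizer {x})) : ∃ g, g * x * g⁻¹ ∈ S.B := by
  obtain ⟨⟨a, ha⟩, h1⟩ := exists_prime_orderOf_dvd_card' 3 h
  rw [← orderOf_coe] at h1
  obtain ⟨g, hg⟩ := S.exists_U_of_pow (x := a) (k := 1) (by rw [pow_one, ← h1, pow_orderOf_eq_one])
  refine ⟨g, mem_B_of_conj hg (fun e => by simp [show a = 1 by simpa using e] at h1) ?_⟩
  rw [show g * x * g⁻¹ * (g * a * g⁻¹) = g * a * g⁻¹ * (g * x * g⁻¹) by
    simp [mul_assoc, ← mul_assoc a, mem_centralizer_singleton_iff.1 ha], mul_inv_cancel_right]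
  exact S.U_le_B hg

end ReeS
end Cfsg.Agent.Ree
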