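import Cfsg.Agent.Lib.Ree.Cases
import Cfsg.Agent.Lib.Sz.Irr

set_option autoImplicit false
set_option linter.unusedSectionVars false
set_option linter.style.haveILetI false

/-! The anisotropic tori of a small Ree group. -/

namespace Cfsg.Agent.Ree

open Perm.GL2 MulAction Subgroup Transfer Suz Module

theorem cyc_of_pow {F V G : Type*} [Field F] [Finite F] [AddCommGroup V] [Module F V] [FiniteDimensional F V] [Group G]
    [Finite G] (ρ : G →* End F V) (hρ : Function.Injective ρ) {c : G} {r : ℕ} (hr : r.Prime) (hc : orderOf c = r)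
    (hV : finrank F V = 7) (h1 : ∀ a, 0 < a → a ≠ 6 → a ≤ 7 → ¬ Nat.card F ^ a ≡ 1 [MOD r]) (hq : r.Coprime (Nat.card F))
    (hC : (Nat.card (centralizer {c})).Coprime (Nat.card F - 1)) :
    IsCyclic (centralizer {c}) ∧ Nat.card {y // y ∈ centralizer {c} ∧ IsConj c y} ≤ 6 := by
  haveI := Fact.mk hr
  haveI := Fintype.ofFinite F
  have c1 : c ≠ 1 := by rintro rfl; exact hr.ne_one (by simpa using hc.symm)
  have hf : ρ c ^ r ^ 1 = 1 := by rw [pow_one, ← map_pow, ← hc, pow_orderOf_eq_one, map_one]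
  set L := LinearMap.ker (ρ c - 1)
  set W := LinearMap.range (ρ c - 1)
  have hL : finrank F L = 1 := by
    have h2 := card_fix_modEq hf (W := ⊤) (by simp)
    have h3 : finrank F L < finrank F V := Submodule.finrank_lt (by
      simpa [L, sub_eq_zero] using fun e => c1 (hρ (e.trans (map_one _).symm)))
    rw [top_inf_eq, finrank_top] at h2
    obtain ⟨a, ha⟩ := Nat.exists_eq_add_of_lt h3
    rw [ha, add_assoc, pow_add] at h2
    by_contra e
    exact h1 (a + 1) (by omega) (by omega) (by omega) (Nat.ModEq.cancel_left_of_coprime (hq.pow_right _) (by rwa [mul_one]))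
  have hW : finrank F W = 6 := by have := (ρ c - 1).finrank_range_add_finrank_ker; simp only [L, W] at *; omega
  have hN : ∀ x ∈ normalizer (zpowers c : Set G), ∃ j : ℕ, x * c * x⁻¹ = c ^ j := fun x hx =>
    let ⟨j, e⟩ := (mem_powers_iff_mem_zpowers.2 (conj_mem_of_mem_normalizer hx (mem_zpowers c))); ⟨j, e.symm⟩
  have hNW : ∀ x ∈ normalizer (zpowers c : Set G), ∀ v ∈ W, ρ x v ∈ W := by
    rintro x hx _ ⟨v, rfl⟩
    obtain ⟨j, e⟩ := hN x hx
    refine ⟨((∑ i ∈ Finset.range j, ρ c ^ i) * ρ x) v, ?_⟩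
    rw [← End.mul_apply, ← mul_assoc, mul_geom_sum, ← map_pow, ← e, ← End.mul_apply, sub_mul, mul_sub, ← map_mul,
      ← map_mul, inv_mul_cancel_right, one_mul, mul_one]
  have hL' : ∀ {v}, v ∈ L ↔ ρ c v = v := by simp [L, sub_eq_zero]
  have hNL : ∀ x ∈ normalizer (zpowers c : Set G), ∀ v ∈ L, ρ x v ∈ L := fun x hx v hv => by
    obtain ⟨j, e⟩ := hN _ (inv_mem hx)
    rw [hL', ← End.mul_apply, ← map_mul, show c * x = x * c ^ j by simp [← e, mul_assoc], map_mul, map_pow, End.mul_apply,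
      End.pow_apply, Function.iterate_fixed (hL'.1 hv)]
  have c0 : c ∈ normalizer (zpowers c : Set G) := le_normalizer (mem_zpowers c)
  have hWL : W ⊔ L = ⊤ := by
    have h2 := card_fix_modEq hf (hNW c c0)
    have h3 := card_fix_modEq hf (W := ⊤) (by simp)
    rw [top_inf_eq, finrank_top, hV, hL, pow_succ', pow_one] at h3
    have h4 : Nat.card F ^ 6 ≡ 1 [MOD r] := Nat.ModEq.cancel_left_of_coprime hq (by rwa [mul_one])
    have h5 := Submodule.finrank_mono (inf_le_right : W ⊓ L ≤ L)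
    have h6 := W.finrank_sup_add_finrank_inf_eq L
    rw [hW] at h2
    refine Submodule.eq_top_of_finrank_eq (by_contra fun e => h1 _ ?_ ?_ ?_ (h2.symm.trans h4))
    any_goals have := (W ⊔ L).finrank_le; simp only [L] at *; omega
  have ext : ∀ f g : End F V, (∀ v ∈ W, f v = g v) → (∀ v ∈ L, f v = g v) → f = g := fun f g a b =>
    LinearMap.ext fun v => by
      obtain ⟨w, hw, l, hl, rfl⟩ := Submodule.mem_sup.1 (hWL.ge (Submodule.mem_top (x := v)))
      rw [map_add, map_add, a w hw, b l hl]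
  let σ := Representation.subrepresentation (ρ.comp (normalizer (zpowers c : Set G)).subtype) W fun x v hv => hNW x x.2 v hv
  have hσ : Function.Injective σ := (injective_iff_map_eq_one _).2 fun ⟨x, hx⟩ e => Subtype.ext <| by
    have e1 : ∀ v ∈ W, ρ x v = v := fun v hv => congrArg (·.1) (LinearMap.congr_fun e ⟨v, hv⟩)
    have e2 : x ∈ centralizer {c} := mem_centralizer_singleton_iff.2 (hρ (by
      rw [map_mul, map_mul]
      exact ext _ _ (fun v hv => by simp [e1 v hv, e1 _ (hNW c c0 v hv)]) fun v hv => by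
        simp [hL'.1 hv, hL'.1 (hNL x hx v hv)]))
    obtain ⟨⟨v0, h0⟩, h2, h3⟩ := finrank_eq_one_iff'.1 hL
    obtain ⟨a, ha⟩ := h3 ⟨_, hNL x hx _ h0⟩
    replace ha : ρ x v0 = a • v0 := (congrArg Subtype.val ha).symm
    have h4 : a ≠ 0 := by
      rintro rfl
      exact h2 (Subtype.ext (by simpa [← End.mul_apply, ← map_mul] using congrArg (ρ x⁻¹) ha))
    have h5 : ∀ n : ℕ, (ρ x ^ n) v0 = a ^ n • v0 := fun n => by
      induction n with
      | zero => simp
      | succ n ih => rw [pow_succ', End.mul_apply, ih, map_smul, ha, smul_smul, pow_succ]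
    have e3 : x ^ (Nat.card F - 1) = 1 := hρ (by
      rw [map_pow, map_one]
      refine ext _ _ (fun v hv => by rw [End.pow_apply, Function.iterate_fixed (e1 v hv)]; rfl) fun v hv => ?_
      obtain ⟨b, rfl⟩ : ∃ b : F, b • v0 = v := (h3 ⟨v, hv⟩).imp fun _ => congrArg Subtype.val
      rw [map_smul, h5, Nat.card_eq_fintype_card, FiniteField.pow_card_sub_one_eq_one a h4]; simp)
    exact orderOf_eq_one_iff.1 (Nat.eq_one_of_dvd_coprimes hC (orderOf_dvd_natCard _ e2) (orderOf_dvd_of_pow_eq_one e3))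
  haveI := nontrivial_of_finrank_pos (R := F) (M := W) (by omega)
  obtain ⟨h2, h3⟩ := cyc_of_irr σ hσ (c := ⟨c, c0⟩) fun W' => irr_of_pow (r := r) (k := 1)
    (by rw [← map_pow, ← map_one σ]; exact congrArg _ (Subtype.ext (by simp [← hc])))
    (fun e => c1 (congrArg Subtype.val (hσ (e.trans (map_one _).symm)))) (fun a a1 a2 => h1 a a1 (by omega) (by omega)) hq
  have h4 : centralizer {c} ≤ normalizer (zpowers c : Set G) := fun x hx =>
    mem_normalizer_iff_cj.2 (by rw [cj_zpowers, mem_centralizer_singleton_iff.1 hx, mul_inv_cancel_right])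
  have h5 : IsCyclic (centralizer {c}) := by
    rw [← map_subgroupOf_eq_of_le h4]
    refine isCyclic_of_surjective _ (equivMapOfInjective _ _ (subtype_injective _)).surjective (hH := ?_)
    rwa [show (centralizer {c}).subgroupOf _ = centralizer {⟨c, c0⟩} from Subgroup.ext fun x => by
      simp [mem_subgroupOf, mem_centralizer_singleton_iff, Subtype.ext_iff]]
  classical
  refine ⟨h5, (cnt_le_of_injOn (fun y => if h : y ∈ centralizer {c} then ⟨y, h4 h⟩ else 1) (fun y hy => ?_)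
    fun a b ha hb e => by simpa [ha.1, hb.1] using e).trans (hW ▸ h3)⟩
  obtain ⟨x, rfl⟩ := isConj_iff.1 hy.2
  rw [dif_pos hy.1]
  refine ⟨mem_centralizer_singleton_iff.2 (Subtype.ext (mem_centralizer_singleton_iff.1 hy.1)),
    isConj_iff.2 ⟨⟨x, mem_normalizer_iff_cj.2 (eq_of_cyclic h5 ?_ ?_ (card_cj ..))⟩, rfl⟩⟩
  exacts [cj_zpowers x c ▸ zpowers_le.2 hy.1, zpowers_le.2 (mem_centralizer_singleton_iff.2 rfl)]

theorem not_pow_modEq {q c r a : ℕ} (hr : r.Prime) (hc : q ^ 2 + 1 = c + q) (h : r ∣ c) (h2 : ¬ 2 ∣ c) (h3 : ¬ 3 ∣ c)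
    (h0 : 0 < a) (h6 : a ≠ 6) (h7 : a ≤ 7) : ¬ q ^ a ≡ 1 [MOD r] := fun e => by
  haveI := Fact.mk hr
  have e1 : (q : ZMod r) ^ a = 1 := by simpa using (ZMod.natCast_eq_natCast_iff _ _ _).2 e
  have e2 : (q : ZMod r) ^ 2 + 1 = q := by simpa [(ZMod.natCast_eq_zero_iff _ _).2 h] using congrArg (Nat.cast : ℕ → ZMod r) hc
  have e3 : ((2 * 3 : ℕ) : ZMod r) = 0 := by
    obtain rfl | rfl | rfl | rfl | rfl | rfl : a = 1 ∨ a = 2 ∨ a = 3 ∨ a = 4 ∨ a = 5 ∨ a = 7 := by omega
    all_goals grind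
  rcases hr.dvd_mul.1 ((ZMod.natCast_eq_zero_iff _ _).1 e3) with e | e
  · exact h2 ((Nat.prime_dvd_prime_iff_eq hr Nat.prime_two).1 e ▸ h)
  · exact h3 ((Nat.prime_dvd_prime_iff_eq hr Nat.prime_three).1 e ▸ h)

theorem tori_arith {q a b r c : ℕ} (hr : r ^ 2 = 3 * q) (hc : q ^ 2 + 1 = c + q) (h1 : a * b = c) (h2 : a + b = 2 * q + 2)
    (hab : b ≤ a) (h0 : b ≠ 1) : a = q + r + 1 ∧ b = q - r + 1 := by
  obtain ⟨k, rfl⟩ := Nat.exists_eq_add_of_le hab
  have : k ^ 2 = (2 * r) ^ 2 := by nlinarith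
  obtain rfl := Nat.pow_left_injective two_ne_zero this
  have : b ≠ 0 := by rintro rfl; nlinarith
  omega

variable (K : Type*) [Fintype K] in
/-- elements of the anisotropic tori -/
def Tor {Γ : Type*} [Group Γ] (g : Γ) : Prop := 1 < orderOf g ∧ orderOf g ∣ cc K

namespace ReeS
variable {m : ℕ} {K : Type*} [Field K] [Fintype K] {Γ : Type*} [Group Γ] [Finite Γ] (S : ReeS m K Γ) (hm : 1 ≤ m)

theorem _root_.Cfsg.Agent.Ree.Tor.ne_one {g : Γ} (h : Tor K g) : g ≠ 1 := by rintro rfl; simpa using h.1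

theorem _root_.Cfsg.Agent.Ree.Tor.conj {g : Γ} (h : Tor K g) (x : Γ) : Tor K (x * g * x⁻¹) := by rwa [Tor, orderOf_conj]

include S in
theorem cc_add : Fintype.card K ^ 2 + 1 = cc K + Fintype.card K := by
  obtain ⟨k, h1, -, h2⟩ := S.exists_k
  rw [h1, h2]; ring

include hm in
theorem ρ_inj : Function.Injective S.ρ := by
  haveI := S.simple hm
  exact (MonoidHom.ker_eq_bot_iff _).1 (S.ρ.normal_ker.eq_bot_or_eq_top.resolve_right fun e => S.ρ_ne (e.ge (mem_top _)))

include S in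
theorem tor_card {g : Γ} (h : Tor K g) : Nat.card (centralizer {g}) ∣ cc K := S.cent_dvd h.ne_one h.2

include S in
theorem tor_of_mem {g a : Γ} (h : Tor K g) (ha : a ∈ centralizer {g}) (h1 : a ≠ 1) : Tor K a :=
  ⟨lt_of_le_of_ne (orderOf_pos a) (orderOf_eq_one_iff.not.2 h1 ·.symm), (orderOf_dvd_natCard _ ha).trans (S.tor_card h)⟩

include S hm

theorem tor_prime {g : Γ} (h : Tor K g) (hr : (orderOf g).Prime) :
    IsCyclic (centralizer {g}) ∧ Nat.card {y // y ∈ centralizer {g} ∧ IsConj g y} ≤ 6 := by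
  have h1 := S.coprime_cc
  have h2 := (S.arith (n := cc K)).2.2.1 dvd_rfl
  refine cyc_of_pow S.ρ (S.ρ_inj hm) hr rfl (by simp) (fun a => ?_) ?_ ?_ <;> rw [Nat.card_eq_fintype_card (α := K)]
  · exact not_pow_modEq hr S.cc_add h.2 h2.2 h2.1
  · exact (h1.coprime_dvd_left h.2).coprime_dvd_right (((dvd_pow_self _ three_ne_zero).mul_right _).mul_right _)
  · exact (h1.coprime_dvd_left (S.tor_card h)).coprime_dvd_right ((dvd_mul_left ..).mul_right _)

theorem tor_exists {g : Γ} (h : Tor K g) : ∃ g' ∈ centralizer {g}, Tor K g' ∧ (orderOf g').Prime ∧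
    centralizer {g} ≤ centralizer {g'} := by
  obtain ⟨p, k, hp, -, e⟩ := exists_prime_pow h.ne_one
  have := pow_mem ((mem_centralizer_singleton_iff (g := g)).2 rfl) k
  exact ⟨_, this, S.tor_of_mem h this (by rintro e'; exact hp.ne_one (by simp [← e, e'])), e ▸ hp, fun x hx =>
    mem_centralizer_singleton_iff.2 (Commute.pow_right (mem_centralizer_singleton_iff.1 hx) k)⟩

theorem tor_cyclic {g : Γ} (h : Tor K g) : IsCyclic (centralizer {g}) := by
  obtain ⟨g', -, h1, h2, h3⟩ := S.tor_exists hm h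
  haveI := (S.tor_prime hm h1 h2).1
  exact isCyclic_of_le h3

theorem tor_cc {g : Γ} (h : Tor K g) : CC (centralizer {g}) := by
  have : ∀ {g c : Γ}, Tor K g → c ∈ centralizer {g} → centralizer {g} ≤ centralizer {c} := fun {g c} h hc x hx =>
    mem_centralizer_singleton_iff.2 (congrArg Subtype.val ((S.tor_cyclic hm h).commGroup.mul_comm ⟨x, hx⟩ ⟨c, hc⟩))
  intro c hc h1
  have h2 := mem_centralizer_singleton_iff.1 hc
  exact le_antisymm (this (S.tor_of_mem h hc h1) (mem_centralizer_singleton_iff.2 h2.symm)) (this h hc)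

omit hm in
theorem not_five : ¬ 5 ∣ Nat.card Γ := by
  have h1 : Fintype.card K % 5 = 3 ∨ Fintype.card K % 5 = 2 := by
    rw [S.card, pow_succ, pow_mul]
    generalize m = n
    induction n with
    | zero => simp
    | succ n ih => rw [pow_succ]; omega
  have h := S.q_mod
  simp only [S.card_eq, Nat.prime_five.dvd_mul, pow_three]
  rw [Nat.dvd_iff_mod_eq_zero (n := _ + 1), Nat.add_mod, Nat.mul_mod, Nat.mul_mod (Fintype.card K) (Fintype.card K)]
  rcases h1 with h1 | h1 <;> rw [h1] <;> omega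

omit hm in
theorem tor_seven {g : Γ} (h : Tor K g) : 7 ≤ Nat.card (centralizer {g}) := by
  have h1 := Nat.le_of_dvd Nat.card_pos (orderOf_dvd_cent g)
  have h2 := (S.arith (n := Nat.card (centralizer {g}))).2.2.1 (S.tor_card h)
  have h3 : Nat.card (centralizer {g}) ≠ 5 := fun e => S.not_five (e ▸ card_subgroup_dvd_card _)
  have := h.1
  omega

theorem tor_count {g : Γ} (h : Tor K g) : ∃ n, (n = 2 ∨ n = 3 ∨ n = 4 ∨ n = 6) ∧
    Nat.card (normalizer (centralizer {g} : Set Γ)) = n * Nat.card (centralizer {g}) ∧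
    Nat.card {x // Cl (centralizer {g}) x} * (n * Nat.card (centralizer {g})) = Nat.card Γ * (Nat.card (centralizer {g}) - 1) ∧
    6 * Nat.card Γ ≤ 7 * n * Nat.card {x // Cl (centralizer {g}) x} := by
  haveI := S.simple hm
  obtain ⟨g', h0, a1, a2, -⟩ := S.tor_exists hm h
  have hc := S.tor_cc hm h
  have h1 := card_normalizer_CC hc h0 a1.ne_one
  have h2 := (S.tor_prime hm a1 a2).2
  rw [hc g' h0 a1.ne_one] at h2
  generalize Nat.card {y // y ∈ centralizer {g} ∧ IsConj g' y} = n at h1 h2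
  have h3 : n ≠ 0 := by rintro rfl; exact Nat.card_pos.ne' (h1.trans (zero_mul _))
  have h4 : n ≠ 1 := by
    rintro rfl
    refine hc.normalizer_ne (fun e => a1.ne_one (by simpa [e] using h0)) (fun e => ?_)
      (eq_of_le_of_card_ge le_normalizer (by omega)).symm
    exact ((S.arith (n := 2)).2.2.1 (S.orderOf_z ▸ (S.tor_of_mem h (e ▸ mem_top _) S.z_ne).2)).2 dvd_rfl
  have h5 : n ≠ 5 := by
    rintro rfl
    exact S.not_five ((Dvd.intro _ h1.symm).trans (card_subgroup_dvd_card _))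
  have h6 := hc.count
  rw [h1] at h6
  refine ⟨n, by omega, h1, h6, ?_⟩
  obtain ⟨k, hk⟩ := Nat.exists_eq_add_of_le' (S.tor_seven h)
  rw [hk] at h6
  exact Nat.le_of_mul_le_mul_right (c := k + 7) (by simp only [show k + 7 - 1 = k + 6 from rfl] at h6; nlinarith) (by simp)

omit hm in
theorem tor_of_cl {g x : Γ} (h : Tor K g) (hx : Cl (centralizer {g}) x) : Tor K x := by
  obtain ⟨y, h1, h2⟩ := hx
  simpa [mul_assoc] using (S.tor_of_mem h h1 h2).conj y⁻¹

theorem tor_cl_iff {g x : Γ} (h : Tor K g) (h' : Tor K x) :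
    Cl (centralizer {g}) x ↔ ∃ y, cj y (centralizer {g}) = centralizer {x} := by
  rw [Suz.cl_iff]
  exact ⟨fun ⟨h1, y, hy⟩ => ⟨y, (((S.tor_cc hm h).cj y) x hy h1).symm⟩,
    fun ⟨y, hy⟩ => ⟨h'.ne_one, y, hy ▸ mem_centralizer_singleton_iff.2 rfl⟩⟩

theorem tor_dis {g g' : Γ} (h : Tor K g) (hn : ¬ Cl (centralizer {g}) g') (h' : Tor K g') (x : Γ)
    (e : Cl (centralizer {g}) x) (e' : Cl (centralizer {g'}) x) : False := by
  obtain ⟨y, e⟩ := (S.tor_cl_iff hm h (S.tor_of_cl h e)).1 e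
  obtain ⟨y', e'⟩ := (S.tor_cl_iff hm h' (S.tor_of_cl h' e')).1 e'
  exact hn ((S.tor_cl_iff hm h h').2 ⟨y'⁻¹ * y, by rw [← cj_cj, e, ← e', cj_cj]; simp⟩)

theorem exists_tori : ∃ g₁ g₂ : Γ, Tor K g₁ ∧ Tor K g₂ ∧ Nat.card (centralizer {g₁}) = Fintype.card K + 3 ^ (m + 1) + 1 ∧
    Nat.card (centralizer {g₂}) = Fintype.card K - 3 ^ (m + 1) + 1 ∧
    Nat.card (normalizer (centralizer {g₁} : Set Γ)) = 6 * Nat.card (centralizer {g₁}) ∧
    Nat.card (normalizer (centralizer {g₂} : Set Γ)) = 6 * Nat.card (centralizer {g₂}) ∧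
    Nat.card (centralizer {g₁}) * Nat.card (centralizer {g₂}) = cc K ∧
    ∀ g, Tor K g → Cl (centralizer {g₁}) g ∨ Cl (centralizer {g₂}) g := by
  have hf : 3 * Nat.card {g : Γ // Tor K g} = _ := S.count_cc
  have hN := S.card_eq'
  have hc := S.cc_add
  have hcop := S.coprime_cc
  have hodd := ((S.arith (n := cc K)).2.2.1 dvd_rfl).2
  obtain ⟨k, hk⟩ := Nat.exists_eq_add_of_le' (le_trans (by norm_num : 2 ≤ 27) (S.q_ge hm))
  have h7 : 25 ≤ k := by have := S.q_ge hm; omega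
  simp only [hk, Nat.add_sub_cancel, show k + 2 - 1 = k + 1 from rfl] at hf hN hc hcop
  have hc' : cc K = k ^ 2 + 3 * k + 3 := by nlinarith
  have hf' : 3 * Nat.card {g : Γ // Tor K g} * cc K = Nat.card Γ * ((k + 2) * k) := by rw [hf, hN]; ring
  have hpos : 0 < Nat.card Γ := Nat.card_pos
  have hlt : 3 * Nat.card {g : Γ // Tor K g} < Nat.card Γ := lt_of_mul_lt_mul_right (a := cc K) (by
    rw [hf']; exact mul_lt_mul_of_pos_left (by nlinarith) hpos) zero_le
  obtain ⟨⟨g₁, h1⟩⟩ : Nonempty {g : Γ // Tor K g} := (Nat.card_pos_iff.1 (by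
    have : 0 < (k + 2) ^ 4 * k * (k + 1) * (k + 2 + 1) := by positivity
    omega)).1
  obtain ⟨n₁, a1, b1, c1, d1⟩ := S.tor_count hm h1
  obtain ⟨c, hc1⟩ := Nat.exists_eq_add_of_le' (le_trans (by norm_num : 1 ≤ 7) (S.tor_seven h1))
  obtain ⟨g₂, h2, h12⟩ : ∃ g₂, Tor K g₂ ∧ ¬ Cl (centralizer {g₁}) g₂ := by
    by_contra! e
    rw [cnt_congr fun x => ⟨S.tor_of_cl h1, e x⟩] at c1 d1
    obtain ⟨j, hj⟩ := S.tor_card h1
    rw [hc1, Nat.add_sub_cancel] at c1
    rw [hc1] at hj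
    have : n₁ * ((k + 2) * k) = 3 * j * c :=
      Nat.eq_of_mul_eq_mul_left (n := Nat.card Γ * (c + 1)) (by positivity) (by
        linear_combination 3 * cc K * c1 + n₁ * (c + 1) * hf'.symm + 3 * Nat.card Γ * c * hj)
    rcases a1 with rfl | rfl | rfl | rfl
    · omega
    · obtain rfl : j = k + 3 := by nlinarith
      have := Nat.eq_one_of_dvd_coprimes hcop (Dvd.intro_left _ hj.symm) (dvd_mul_left ..)
      omega
    all_goals nlinarith
  obtain ⟨n₂, a2, b2, c2, d2⟩ := S.tor_count hm h2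
  have h3 : ∀ g, Tor K g → Cl (centralizer {g₁}) g ∨ Cl (centralizer {g₂}) g := fun g h => by
    by_contra! e
    obtain ⟨n₃, a3, -, -, d3⟩ := S.tor_count hm h
    have := cnt_mono (p := fun x => (Cl (centralizer {g₁}) x ∨ Cl (centralizer {g₂}) x) ∨ Cl (centralizer {g}) x) (q := Tor K)
      fun x hx => hx.elim (·.elim (S.tor_of_cl h1) (S.tor_of_cl h2)) (S.tor_of_cl h)
    rw [cnt_or fun x hx => hx.elim (S.tor_dis hm h1 e.1 h x) (S.tor_dis hm h2 e.2 h x), cnt_or (S.tor_dis hm h1 h12 h2)] at this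
    rcases a1 with rfl | rfl | rfl | rfl <;> rcases a2 with rfl | rfl | rfl | rfl <;> rcases a3 with rfl | rfl | rfl | rfl <;> omega
  have h4 := cnt_or (S.tor_dis hm h1 h12 h2)
  rw [cnt_congr fun x => ⟨fun hx => hx.elim (S.tor_of_cl h1) (S.tor_of_cl h2), h3 x⟩] at h4
  obtain ⟨rfl, rfl⟩ : n₁ = 6 ∧ n₂ = 6 := by
    rcases a1 with rfl | rfl | rfl | rfl <;> rcases a2 with rfl | rfl | rfl | rfl <;> omega
  obtain ⟨j, hj⟩ := ((S.tor_cc hm h1).coprime (S.tor_cc hm h2) fun x e =>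
    h12 ((S.tor_cl_iff hm h1 h2).2 ⟨x, e⟩)).mul_dvd_of_dvd_of_dvd (S.tor_card h1) (S.tor_card h2)
  obtain ⟨c', hc2⟩ := Nat.exists_eq_add_of_le' (le_trans (by norm_num : 1 ≤ 7) (S.tor_seven h2))
  have h5 : j * ((c + 1) + (c' + 1)) = 2 * (k + 2 + 1) := by
    rw [hc1, Nat.add_sub_cancel] at c1
    rw [hc2, Nat.add_sub_cancel] at c2
    rw [hc1, hc2] at hj
    rw [h4, hj] at hf'
    rw [hj] at hc'
    refine Nat.eq_of_mul_eq_mul_left (n := Nat.card Γ) hpos ?_
    zify at *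
    linear_combination j * (c' + 1) * c1 + j * (c + 1) * c2 - 2 * hf' + 2 * Nat.card Γ * hc'
  have h6 : j ∣ cc K := Dvd.intro_left _ hj.symm
  obtain rfl : j = 1 := Nat.eq_one_of_dvd_coprimes (Nat.Coprime.mul_right ((Nat.prime_two.coprime_iff_not_dvd.2 hodd).symm)
    (hcop.coprime_mul_left_right)) h6 (Dvd.intro _ h5)
  have hr : (3 ^ (m + 1)) ^ 2 = 3 * Fintype.card K := by rw [S.card]; ring
  have s1 := S.tor_seven h1
  have s2 := S.tor_seven h2
  rw [mul_one] at hj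
  rcases le_total (c' + 1) (c + 1) with h | h
  · have := tori_arith hr S.cc_add (by rw [hj, hc1, hc2]) (by omega) h (by omega)
    exact ⟨g₁, g₂, h1, h2, hc1.trans this.1, hc2.trans this.2, b1, b2, hj.symm, h3⟩
  · have := tori_arith hr S.cc_add (by rw [hj, hc1, hc2, mul_comm]) (by omega) h (by omega)
    exact ⟨g₂, g₁, h2, h1, hc2.trans this.1, hc1.trans this.2, b2, b1, by rw [hj, mul_comm], fun g h => (h3 g h).symm⟩

end ReeS
end Cfsg.Agent.Ree
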